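import Cfsg.Agent.Lib.TwoSymFour12.AltSixAut

/-!
Groups of automorphisms of `A₆` containing the inner ones: if no member maps an element of order five
into the class of its square, there is no quaternion group inside; the full group has order dividing 1440.
-/

set_option autoImplicit false

namespace Cfsg.Agent.Lib.SL3Max93.AltSix

open Equiv Equiv.Perm
open Cfsg.Agent.Lib.TwoSymFour12

/-- The alternating group of degree six. -/
abbrev A6 := ↥(alternatingGroup (Fin 6))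

/-- An element of order five. -/
def c5 : A6 := ⟨swap 0 1 * swap 1 2 * swap 2 3 * swap 3 4, Perm.mem_alternatingGroup.2 (by decide +kernel)⟩

/-- A three-cycle. -/
def t3 : A6 := ⟨swap 0 1 * swap 1 2, Perm.mem_alternatingGroup.2 (by decide +kernel)⟩

/-- An element of order four. -/
def r0 : A6 := ⟨swap 0 1 * swap 1 2 * swap 2 3 * swap 4 5, Perm.mem_alternatingGroup.2 (by decide +kernel)⟩

/-- A reflection inverting `r0`. -/
def s0 : A6 := ⟨swap 1 3 * swap 4 5, Perm.mem_alternatingGroup.2 (by decide +kernel)⟩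

/-- An element of cycle type three-three normalising the four-group through `s0` and `r0 ^ 2`. -/
def g0 : A6 := ⟨swap 0 1 * swap 1 4 * (swap 2 3 * swap 3 5), Perm.mem_alternatingGroup.2 (by decide +kernel)⟩

/-- An odd permutation carrying `c5` to its square. -/
def odd5 : Perm (Fin 6) := swap 1 2 * swap 2 4 * swap 4 3

/-- The automorphism fixes the class of three-cycles. -/
def Fix (ψ : MulAut A6) : Prop := ∃ a : A6, ψ t3 = a * t3 * a⁻¹

/-- The automorphism is inner. -/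
def Inner (ψ : MulAut A6) : Prop := ∃ a : A6, ψ = MulAut.conj a

theorem conj_eq (a : A6) : MulAut.conj a = MulAut.conjNormal (a : Perm (Fin 6)) := by
  ext x
  rfl

theorem conj_injective : Function.Injective (MulAut.conj : A6 → MulAut A6) := fun a b h => by
  rw [conj_eq, conj_eq] at h
  exact Subtype.ext (conjNormal_injective h)

theorem isThreeCycle_t3 : (t3 : Perm (Fin 6)).IsThreeCycle := by
  rw [← card_support_eq_three_iff]; decide +kernel

theorem isConj_t3 {x : A6} (h : (x : Perm (Fin 6)).IsThreeCycle) : ∃ a : A6, x = a * t3 * a⁻¹ := by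
  obtain ⟨a, ha⟩ := isConj_iff.1 (alternatingGroup.isThreeCycle_isConj (by simp) isThreeCycle_t3 h)
  exact ⟨a, ha.symm⟩

theorem ne_double {x : A6} {a : A6} (h : x = a * t3 * a⁻¹) :
    (x : Perm (Fin 6)).cycleType ≠ ({3, 3} : Multiset ℕ) := by
  rw [h]
  push_cast
  rw [Perm.cycleType_conj, isThreeCycle_t3]
  decide

theorem double_of_not_fix {ψ : MulAut A6} (h : ¬ Fix ψ) :
    (ψ t3 : Perm (Fin 6)).cycleType = ({3, 3} : Multiset ℕ) := by
  have h3 : (ψ t3 : Perm (Fin 6)) ^ 3 = 1 := by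
    have e : t3 ^ 3 = 1 := by decide +kernel
    have := congrArg Subtype.val (show ψ t3 ^ 3 = 1 by rw [← map_pow, e, map_one])
    simpa using this
  have h1 : (ψ t3 : Perm (Fin 6)) ≠ 1 := fun e => by
    have e' : ψ t3 = 1 := Subtype.ext e
    rw [MulEquiv.map_eq_one_iff] at e'
    exact absurd e' (by decide +kernel)
  exact (cycleType_three h3 h1).resolve_left fun h' => h (isConj_t3 h')

/-- An automorphism mapping a double three-cycle to one fixes the class of three-cycles. -/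
theorem fix_of_double {ψ : MulAut A6} {u : A6} (hu : (u : Perm (Fin 6)).cycleType = ({3, 3} : Multiset ℕ))
    (h : (ψ u : Perm (Fin 6)).cycleType = ({3, 3} : Multiset ℕ)) : Fix ψ := by
  by_contra hn
  obtain ⟨b, hb⟩ := isConj_iff.1 (isConj_double (double_of_not_fix hn) h)
  have e : u = ψ.symm b * t3 * (ψ.symm b)⁻¹ := by
    apply ψ.injective
    rw [map_mul, map_mul, map_inv, MulEquiv.apply_symm_apply, hb]
  exact ne_double e hu

theorem fix_mul {ψ φ : MulAut A6} (h : ¬ Fix ψ) (h' : ¬ Fix φ) : Fix (ψ * φ) := by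
  by_contra hn
  exact h (fix_of_double (double_of_not_fix h') (double_of_not_fix hn))

theorem fix_conj (a : A6) : Fix (MulAut.conj a) := ⟨a, rfl⟩

theorem fix_conj_mul {ψ : MulAut A6} (h : Fix ψ) (b : A6) : Fix (MulAut.conj b * ψ) := by
  obtain ⟨a, ha⟩ := h
  refine ⟨b * a, ?_⟩
  rw [MulAut.mul_apply, ha, MulAut.conj_apply]
  group

/-- An automorphism fixing the class of three-cycles comes from a permutation. -/
theorem exists_perm {ψ : MulAut A6} (h : Fix ψ) : ∃ σ : Perm (Fin 6), ψ = MulAut.conjNormal σ := by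
  obtain ⟨a, ha⟩ := h
  obtain ⟨σ, hσ⟩ := exists_conjNormal (MulAut.conj a⁻¹ * ψ) (x := t3) (by decide +kernel) (by decide +kernel) (by
    rw [MulAut.mul_apply, ha, MulAut.conj_apply]; group)
  refine ⟨(a : Perm (Fin 6)) * σ, ?_⟩
  rw [map_mul, hσ, ← conj_eq, map_inv, mul_inv_cancel_left]

theorem card_aut_dvd : Nat.card (MulAut A6) ∣ 1440 := by
  classical
  set S : Subgroup (MulAut A6) := (MulAut.conjNormal (H := alternatingGroup (Fin 6))).range
  have hS : Nat.card S = 720 := by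
    rw [← Nat.card_congr (MonoidHom.ofInjective conjNormal_injective).toEquiv, Nat.card_eq_fintype_card,
      Fintype.card_perm, Fintype.card_fin]
    rfl
  have hmem : ∀ ψ, Fix ψ → ψ ∈ S := fun ψ h => by
    obtain ⟨σ, rfl⟩ := exists_perm h
    exact ⟨σ, rfl⟩
  have hidx : S.index ∣ 2 := by
    by_cases hall : ∀ ψ : MulAut A6, Fix ψ
    · rw [(Subgroup.eq_top_iff' S).2 fun ψ => hmem ψ (hall ψ), Subgroup.index_top]
      exact one_dvd 2
    push Not at hall
    obtain ⟨χ, hχ⟩ := hall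
    have key : ∀ ψ, ψ ∈ S → Fix ψ := by
      rintro _ ⟨σ, rfl⟩
      refine isConj_t3 ?_
      show ((MulAut.conjNormal σ t3 : A6) : Perm (Fin 6)).cycleType = {3}
      rw [MulAut.conjNormal_apply, Perm.cycleType_conj]
      exact isThreeCycle_t3
    refine dvd_of_eq (Subgroup.index_eq_two_iff_exists_notMem_and.2 ⟨χ, fun h => hχ (key χ h), fun b => ?_⟩)
    by_cases hb : Fix b
    · exact Or.inr (hmem b hb)
    · exact Or.inl (hmem _ (fix_mul hb hχ))
  rw [← S.card_mul_index, hS, show 1440 = 720 * 2 from rfl]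
  exact mul_dvd_mul_left 720 hidx

theorem five_cases {x : A6} (h5 : x ^ 5 = 1) (h1 : x ≠ 1) :
    ∃ a : A6, x = a * c5 * a⁻¹ ∨ x = a * c5 ^ 2 * a⁻¹ := by
  haveI := Fact.mk (show Nat.Prime 5 by norm_num)
  have hx5 : (x : Perm (Fin 6)) ^ 5 = 1 := congrArg Subtype.val h5
  have hx1 : (x : Perm (Fin 6)) ≠ 1 := fun e => h1 (Subtype.ext e)
  have ho : orderOf (x : Perm (Fin 6)) = 5 := orderOf_eq_prime hx5 hx1
  obtain ⟨n, hn⟩ := Perm.cycleType_prime_order (σ := (x : Perm (Fin 6))) (by rw [ho]; norm_num)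
  rw [ho] at hn
  have hs : (x : Perm (Fin 6)).cycleType.sum ≤ 6 := by
    rw [Perm.sum_cycleType]
    simpa using (x : Perm (Fin 6)).support.card_le_univ
  rw [hn, Multiset.sum_replicate, smul_eq_mul] at hs
  obtain rfl : n = 0 := by omega
  have hc : ((c5 : A6) : Perm (Fin 6)).cycleType = {5} := by
    obtain ⟨m, hm⟩ := Perm.cycleType_prime_order (σ := ((c5 : A6) : Perm (Fin 6))) (by
      rw [orderOf_eq_prime (p := 5) (by decide +kernel) (by decide +kernel)]; norm_num)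
    have hs' : ((c5 : A6) : Perm (Fin 6)).cycleType.sum ≤ 6 := by
      rw [Perm.sum_cycleType]
      simpa using ((c5 : A6) : Perm (Fin 6)).support.card_le_univ
    rw [orderOf_eq_prime (p := 5) (by decide +kernel) (by decide +kernel)] at hm
    rw [hm, Multiset.sum_replicate, smul_eq_mul] at hs'
    obtain rfl : m = 0 := by omega
    rw [hm]; rfl
  obtain ⟨σ, hσ⟩ := isConj_iff.1 (Perm.isConj_iff_cycleType_eq.2 (hc.trans hn.symm))
  rcases Int.units_eq_one_or (Perm.sign σ) with h | h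
  · exact ⟨⟨σ, Perm.mem_alternatingGroup.2 h⟩, Or.inl (Subtype.ext hσ.symm)⟩
  · refine ⟨⟨σ * odd5⁻¹, Perm.mem_alternatingGroup.2 ?_⟩, Or.inr (Subtype.ext ?_)⟩
    · rw [map_mul, map_inv, h, show Perm.sign odd5 = -1 by decide +kernel]
      rfl
    · push_cast
      have e : odd5⁻¹ * ((c5 : A6) : Perm (Fin 6)) ^ 2 * odd5 = (c5 : A6) := by decide +kernel
      rw [← hσ]
      conv_lhs => rw [← e]
      group

/-- Up to conjugacy there is one involution. -/
theorem conj_involution {x : A6} (h2 : x ^ 2 = 1) (h1 : x ≠ 1) : ∃ a : A6, x = a * r0 ^ 2 * a⁻¹ := by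
  haveI := Fact.mk Nat.prime_two
  have key : ∀ y : Perm (Fin 6), y ^ 2 = 1 → y ≠ 1 → Perm.sign y = 1 → y.cycleType = ({2, 2} : Multiset ℕ) := by
    intro y hy2 hy1 hys
    have ho : orderOf y = 2 := orderOf_eq_prime hy2 hy1
    obtain ⟨n, hn⟩ := Perm.cycleType_prime_order (σ := y) (by rw [ho]; exact Nat.prime_two)
    rw [ho] at hn
    have hs : y.cycleType.sum ≤ 6 := by
      rw [Perm.sum_cycleType]
      simpa using y.support.card_le_univ
    rw [hn, Multiset.sum_replicate, smul_eq_mul] at hs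
    rw [Perm.sign_of_cycleType, hn, Multiset.sum_replicate, Multiset.card_replicate, smul_eq_mul] at hys
    rcases (show n = 0 ∨ n = 1 ∨ n = 2 by omega) with rfl | rfl | rfl
    · exact absurd hys (by decide)
    · exact hn
    · exact absurd hys (by decide)
  have e := (key _ (by decide +kernel) (by decide +kernel) (Perm.mem_alternatingGroup.1 (r0 ^ 2).2)).trans
    (key (x : Perm (Fin 6)) (congrArg Subtype.val h2) (fun e => h1 (Subtype.ext e))
      (Perm.mem_alternatingGroup.1 x.2)).symm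
  obtain ⟨σ, hσ⟩ := isConj_iff.1 (Perm.isConj_iff_cycleType_eq.2 e)
  rcases Int.units_eq_one_or (Perm.sign σ) with h | h
  · exact ⟨⟨σ, Perm.mem_alternatingGroup.2 h⟩, Subtype.ext hσ.symm⟩
  · refine ⟨⟨σ * swap 4 5, Perm.mem_alternatingGroup.2 (by
      rw [map_mul, h, show Perm.sign (swap (4 : Fin 6) 5) = -1 by decide +kernel]; rfl)⟩, Subtype.ext ?_⟩
    have e' : swap (4 : Fin 6) 5 * ((r0 ^ 2 : A6) : Perm (Fin 6)) * (swap (4 : Fin 6) 5)⁻¹ = (r0 ^ 2 : A6) := by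
      decide +kernel
    show (x : Perm (Fin 6)) = σ * swap 4 5 * ((r0 ^ 2 : A6) : Perm (Fin 6)) * (σ * swap 4 5)⁻¹
    rw [← hσ]
    conv_lhs => rw [← e']
    group

/-- Up to conjugacy there is one element of order four. -/
theorem conj_four {x : A6} (h4 : x ^ 4 = 1) (h2 : x ^ 2 ≠ 1) : ∃ a : A6, x = a * r0 * a⁻¹ := by
  obtain ⟨b, hb⟩ := conj_involution (by rw [← pow_mul]; exact h4) h2
  have hc : ∀ y : A6, y ^ 2 = r0 ^ 2 → y = r0 ∨ y = r0⁻¹ := by decide +kernel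
  rcases hc (b⁻¹ * x * b) (by
    rw [show b⁻¹ * x * b = b⁻¹ * x * b⁻¹⁻¹ by group, conj_pow, hb]; group) with h | h
  · exact ⟨b, by rw [← h]; group⟩
  · refine ⟨b * s0, ?_⟩
    have e : s0 * r0 * s0⁻¹ = r0⁻¹ := by decide +kernel
    calc x = b * (s0 * r0 * s0⁻¹) * b⁻¹ := by rw [e, ← h]; group
      _ = b * s0 * r0 * (b * s0)⁻¹ := by group

section main

variable {M : Subgroup (MulAut A6)} (hinn : ∀ a, MulAut.conj a ∈ M)
  (h5 : ∀ ψ ∈ M, ∀ a, ψ c5 ≠ a * c5 ^ 2 * a⁻¹)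

include hinn h5

theorem inner_of_fix {ψ : MulAut A6} (hψ : ψ ∈ M) (h : Fix ψ) : Inner ψ := by
  obtain ⟨σ, rfl⟩ := exists_perm h
  rcases Int.units_eq_one_or (Perm.sign σ) with hs | hs
  · exact ⟨⟨σ, Perm.mem_alternatingGroup.2 hs⟩, (conj_eq ⟨σ, Perm.mem_alternatingGroup.2 hs⟩).symm⟩
  · exfalso
    refine h5 _ hψ ⟨σ * odd5⁻¹, Perm.mem_alternatingGroup.2 (by
      rw [map_mul, map_inv, hs, show Perm.sign odd5 = -1 by decide +kernel]; rfl)⟩ (Subtype.ext ?_)
    push_cast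
    have e : odd5⁻¹ * ((c5 : A6) : Perm (Fin 6)) ^ 2 * odd5 = (c5 : A6) := by decide +kernel
    rw [MulAut.conjNormal_apply]
    conv_lhs => rw [← e]
    group

theorem inner_mul {ψ φ : MulAut A6} (hψ : ψ ∈ M) (hφ : φ ∈ M) (h : ¬ Inner ψ) (h' : ¬ Inner φ) :
    Inner (ψ * φ) :=
  inner_of_fix hinn h5 (M.mul_mem hψ hφ)
    (fix_mul (fun e => h (inner_of_fix hinn h5 hψ e)) fun e => h' (inner_of_fix hinn h5 hφ e))

theorem outer_involution {ψ : MulAut A6} (hψ : ψ ∈ M) (h : ¬ Inner ψ) :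
    ∃ φ ∈ M, ¬ Inner φ ∧ φ ^ 2 = 1 ∧ φ (r0 ^ 2) = r0 ^ 2 := by
  classical
  obtain ⟨φ₀, hφ₀, hφ₀o, hfix⟩ : ∃ φ₀ ∈ M, ¬ Inner φ₀ ∧ φ₀ c5 = c5 := by
    obtain ⟨a, ha | ha⟩ := five_cases (x := ψ c5)
      (by rw [← map_pow, show c5 ^ 5 = 1 by decide +kernel, map_one])
      (fun e => absurd ((MulEquiv.map_eq_one_iff ψ).1 e) (by decide +kernel))
    · refine ⟨MulAut.conj a⁻¹ * ψ, M.mul_mem (hinn _) hψ, fun ⟨b, hb⟩ => h ⟨a * b, ?_⟩, ?_⟩
      · rw [map_mul, ← hb, map_inv, mul_inv_cancel_left]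
      · rw [MulAut.mul_apply, ha, MulAut.conj_apply]; group
    · exact absurd ha (h5 ψ hψ a)
  obtain ⟨b, hb⟩ := inner_mul hinn h5 hφ₀ hφ₀ hφ₀o hφ₀o
  have hbc : b * c5 = c5 * b := by
    have : (φ₀ * φ₀) c5 = c5 := by rw [MulAut.mul_apply, hfix, hfix]
    rw [hb, MulAut.conj_apply] at this
    exact mul_inv_eq_iff_eq_mul.1 this
  have hb5 : b ^ 5 = 1 := by
    have key : ∀ y : A6, y * c5 = c5 * y → y ^ 5 = 1 := by decide +kernel
    exact key b hbc
  set φ₁ := φ₀ ^ 5 with hφ₁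
  have hφ₁2 : φ₁ ^ 2 = 1 := by
    rw [hφ₁, ← pow_mul, show 5 * 2 = 2 * 5 from rfl, pow_mul, pow_two, hb, ← map_pow, hb5, map_one]
  have hφ₁o : ¬ Inner φ₁ := by
    rintro ⟨a, ha⟩
    apply hφ₀o
    refine ⟨(b ^ 2)⁻¹ * a, ?_⟩
    rw [map_mul, ← ha, map_inv, map_pow, ← hb, hφ₁,
      show φ₀ ^ 5 = (φ₀ * φ₀) ^ 2 * φ₀ by simp only [pow_succ, pow_zero, one_mul, mul_assoc]]
    group
  set I := {x : A6 // x ^ 2 = 1 ∧ x ≠ 1}
  have hI : ∀ (χ : MulAut A6) (x : I), χ x.1 ^ 2 = 1 ∧ χ x.1 ≠ 1 := fun χ x =>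
    ⟨by rw [← map_pow, x.2.1, map_one], fun e => x.2.2 ((MulEquiv.map_eq_one_iff χ).1 e)⟩
  let π : Perm I :=
    { toFun := fun x => ⟨φ₁ x.1, hI φ₁ x⟩
      invFun := fun x => ⟨φ₁ x.1, hI φ₁ x⟩
      left_inv := fun x => Subtype.ext (by
        show φ₁ (φ₁ x.1) = x.1
        rw [← MulAut.mul_apply, ← pow_two, hφ₁2, MulAut.one_apply])
      right_inv := fun x => Subtype.ext (by
        show φ₁ (φ₁ x.1) = x.1
        rw [← MulAut.mul_apply, ← pow_two, hφ₁2, MulAut.one_apply]) }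
  have hcard : Fintype.card I = 45 := by
    simp only [I]
    decide +kernel
  haveI := Fact.mk Nat.prime_two
  obtain ⟨x, hx⟩ := Perm.exists_fixed_point_of_prime (p := 2) (n := 1) (σ := π) (by rw [hcard]; decide) (by
    refine Equiv.ext fun x => Subtype.ext ?_
    show φ₁ (φ₁ x.1) = x.1
    rw [← MulAut.mul_apply, ← pow_two, hφ₁2, MulAut.one_apply])
  obtain ⟨d, hd⟩ := conj_involution x.2.1 x.2.2
  have hx' : φ₁ x.1 = x.1 := congrArg Subtype.val hx
  refine ⟨MulAut.conj d⁻¹ * φ₁ * MulAut.conj d,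
    M.mul_mem (M.mul_mem (hinn _) (M.pow_mem hφ₀ 5)) (hinn _), fun ⟨a, ha⟩ => hφ₁o ⟨d * a * d⁻¹, ?_⟩, ?_, ?_⟩
  · rw [map_mul, map_mul, ← ha, map_inv]
    group
  · rw [pow_two, show MulAut.conj d⁻¹ * φ₁ * MulAut.conj d * (MulAut.conj d⁻¹ * φ₁ * MulAut.conj d) =
      MulAut.conj d⁻¹ * (φ₁ * φ₁) * MulAut.conj d by rw [map_inv]; group, ← pow_two, hφ₁2, map_inv]
    group
  · rw [MulAut.mul_apply, MulAut.mul_apply,
      show MulAut.conj d (r0 ^ 2) = x.1 from hd.symm, hx', MulAut.conj_apply, hd]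
    group

/-- The standard position is impossible. -/
theorem no_standard {ψ : MulAut A6} (hψ : ψ ∈ M) (hout : ¬ Inner ψ) (hr : ψ r0 = r0⁻¹)
    (hψ2 : ψ * ψ = MulAut.conj (r0 ^ 2)) : False := by
  have hz : ψ (r0 ^ 2) = r0 ^ 2 := by rw [map_pow, hr]; decide +kernel
  have hlist : ∀ a : A6, a * r0 ^ 2 = r0 ^ 2 * a → a = 1 ∨ a = r0 ∨ a = r0 ^ 2 ∨ a = r0 ^ 3 ∨ a = s0 ∨
      a = s0 * r0 ∨ a = s0 * r0 ^ 2 ∨ a = s0 * r0 ^ 3 := by decide +kernel
  have hs : ψ s0 = s0 * r0 ∨ ψ s0 = s0 * r0 ^ 3 := by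
    have hc : ψ s0 * r0 ^ 2 = r0 ^ 2 * ψ s0 := by
      conv_lhs => rw [← hz]
      conv_rhs => rw [← hz]
      rw [← map_mul, ← map_mul, show s0 * r0 ^ 2 = r0 ^ 2 * s0 by decide +kernel]
    have hpow : ∀ k : ℕ, ψ (r0⁻¹ ^ k) = r0 ^ k := fun k => by rw [map_pow, map_inv, hr, inv_inv]
    have hnot : ∀ k : ℕ, s0 ≠ r0⁻¹ ^ k → ψ s0 ≠ r0 ^ k := fun k hk e =>
      hk (ψ.injective (e.trans (hpow k).symm))
    have hg : ψ s0 ≠ s0 ∧ ψ s0 ≠ s0 * r0 ^ 2 := by
      have fin : ψ s0 = s0 ∨ ψ s0 = s0 * r0 ^ 2 → False := fun he => by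
        have hsz : s0 * r0 ^ 2 * r0 ^ 2 = s0 := by decide +kernel
        have hm : ∀ y : A6, y = r0 ^ 2 ∨ y = s0 ∨ y = s0 * r0 ^ 2 →
            ψ y = r0 ^ 2 ∨ ψ y = s0 ∨ ψ y = s0 * r0 ^ 2 := by
          rintro y (rfl | rfl | rfl)
          · exact Or.inl hz
          · exact Or.inr he
          · rw [map_mul, hz]
            rcases he with e | e <;> rw [e]
            · exact Or.inr (Or.inr rfl)
            · exact Or.inr (Or.inl hsz)
        have hgV : ∀ y : A6, y = r0 ^ 2 ∨ y = s0 ∨ y = s0 * r0 ^ 2 →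
            g0 * y * g0⁻¹ = r0 ^ 2 ∨ g0 * y * g0⁻¹ = s0 ∨ g0 * y * g0⁻¹ = s0 * r0 ^ 2 := by
          decide +kernel
        have hcl : ∀ y : A6, y = r0 ^ 2 ∨ y = s0 ∨ y = s0 * r0 ^ 2 →
            ψ g0 * ψ y * (ψ g0)⁻¹ = r0 ^ 2 ∨ ψ g0 * ψ y * (ψ g0)⁻¹ = s0 ∨
              ψ g0 * ψ y * (ψ g0)⁻¹ = s0 * r0 ^ 2 := by
          intro y hy
          rw [← map_inv, ← map_mul, ← map_mul]
          exact hm _ (hgV y hy)
        obtain ⟨y, hy, hys⟩ : ∃ y : A6, (y = r0 ^ 2 ∨ y = s0 ∨ y = s0 * r0 ^ 2) ∧ ψ y = s0 := by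
          rcases he with e | e
          · exact ⟨s0, Or.inr (Or.inl rfl), e⟩
          · exact ⟨s0 * r0 ^ 2, Or.inr (Or.inr rfl), by rw [map_mul, hz, e, hsz]⟩
        have h3 : ψ g0 ^ 3 = 1 := by rw [← map_pow, show g0 ^ 3 = 1 by decide +kernel, map_one]
        have h1 : ψ g0 ≠ 1 := fun e => absurd ((MulEquiv.map_eq_one_iff ψ).1 e) (by decide +kernel)
        have hd : ((g0 : A6) : Perm (Fin 6)).cycleType = ({3, 3} : Multiset ℕ) :=
          (cycleType_three (by decide +kernel) (by decide +kernel)).resolve_left fun h =>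
            absurd h.card_support (by decide +kernel)
        refine hout (inner_of_fix hinn h5 hψ (fix_of_double hd ?_))
        refine (cycleType_three (congrArg Subtype.val h3) (fun e => h1 (Subtype.ext e))).resolve_left fun h => ?_
        have key : ∀ x : A6, x ^ 3 = 1 → x ≠ 1 → (x : Perm (Fin 6)).support.card = 3 →
            ¬ ((x * r0 ^ 2 * x⁻¹ = r0 ^ 2 ∨ x * r0 ^ 2 * x⁻¹ = s0 ∨ x * r0 ^ 2 * x⁻¹ = s0 * r0 ^ 2) ∧
              (x * s0 * x⁻¹ = r0 ^ 2 ∨ x * s0 * x⁻¹ = s0 ∨ x * s0 * x⁻¹ = s0 * r0 ^ 2)) := by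
          decide +kernel
        refine key _ h3 h1 h.card_support ⟨?_, ?_⟩
        · have := hcl _ (Or.inl rfl)
          rwa [hz] at this
        · have := hcl y hy
          rwa [hys] at this
      exact ⟨fun e => fin (Or.inl e), fun e => fin (Or.inr e)⟩
    rcases hlist _ hc with e | e | e | e | e | e | e | e
    · exact absurd e (by simpa using hnot 0 (by decide +kernel))
    · exact absurd e (by simpa using hnot 1 (by decide +kernel))
    · exact absurd e (hnot 2 (by decide +kernel))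
    · exact absurd e (hnot 3 (by decide +kernel))
    · exact absurd e hg.1
    · exact Or.inl e
    · exact absurd e hg.2
    · exact Or.inr e
  obtain ⟨φ, hφ, hφo, hφ2, hφz⟩ := outer_involution hinn h5 hψ hout
  have hψi : ¬ Inner ψ⁻¹ := by
    rintro ⟨a, ha⟩
    exact hout ⟨a⁻¹, by rw [map_inv, ← ha, inv_inv]⟩
  obtain ⟨a, ha⟩ := inner_mul hinn h5 (M.inv_mem hψ) hφ hψi hφo
  have hφe : φ = ψ * MulAut.conj a := by rw [← ha, mul_inv_cancel_left]
  have hac : a * r0 ^ 2 = r0 ^ 2 * a := by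
    have h1 := hφz
    rw [hφe, MulAut.mul_apply] at h1
    have h2 := ψ.injective (h1.trans hz.symm)
    rw [MulAut.conj_apply] at h2
    exact mul_inv_eq_iff_eq_mul.1 h2
  have hone : ψ a * r0 ^ 2 * a = 1 := by
    apply conj_injective
    rw [map_one, ← hφ2, hφe, map_mul, map_mul, ← hψ2,
      show MulAut.conj (ψ a) = ψ * MulAut.conj a * ψ⁻¹ from MulEquiv.ext fun x => by simp [MulAut.mul_apply],
      pow_two]
    group
  rcases hlist a hac with e | e | e | e | e | e | e | e <;> rcases hs with f | f <;>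
    simp only [e, map_mul, map_pow, map_one, hr, f] at hone <;> revert hone <;> decide +kernel

/-- No quaternion group. -/
theorem no_quaternion {i j : MulAut A6} (hi : i ∈ M) (hj : j ∈ M) (hij : j * i * j⁻¹ = i⁻¹)
    (hi2 : i * i = j * j) (h1 : i * i ≠ 1) : False := by
  classical
  have h4 : (i * i) * (i * i) = 1 := by
    have e : j * (i * i) * j⁻¹ = i⁻¹ * i⁻¹ := by rw [← hij]; group
    rw [hi2, show j * (j * j) * j⁻¹ = j * j by group, ← hi2, ← mul_inv_rev] at e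
    exact eq_inv_iff_mul_eq_one.1 e
  have hji : j * i = i⁻¹ * j := by rw [← hij]; group
  -- an inner element of order four and an element inverting it
  obtain ⟨r, ψ, hψ, hri, hrψ, hψ2, hr2⟩ : ∃ r ψ : MulAut A6, ψ ∈ M ∧ Inner r ∧ ψ * r * ψ⁻¹ = r⁻¹ ∧
      ψ * ψ = r * r ∧ r * r = i * i := by
    by_cases hii : Inner i
    · exact ⟨i, j, hj, hii, hij, hi2.symm, rfl⟩
    by_cases hjj : Inner j
    · refine ⟨j, i, hi, hjj, ?_, hi2, hi2.symm⟩
      have e : i * j * i = j := by rw [mul_assoc, hji]; group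
      calc i * j * i⁻¹ = i * j * i * (i * i)⁻¹ := by group
        _ = j⁻¹ := by rw [e, hi2]; group
    · have hr2 : i * j * (i * j) = i * i := by
        rw [mul_assoc, ← mul_assoc j, hji, hi2]; group
      refine ⟨i * j, i, hi, inner_mul hinn h5 hi hj hii hjj, ?_, hr2.symm, hr2⟩
      calc i * (i * j) * i⁻¹ = (i * i) * j * i⁻¹ := by group
        _ = j * j * j * i⁻¹ := by rw [hi2]
        _ = j⁻¹ * i⁻¹ := by
          have : j * j * j = j⁻¹ := by
            rw [← eq_inv_iff_mul_eq_one.2 (show j * j * j * j = 1 by rw [mul_assoc (j * j), ← hi2]; exact h4)]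
          rw [this]
        _ = (i * j)⁻¹ := by group
  obtain ⟨a, rfl⟩ := hri
  rw [← map_mul] at hψ2
  have ha2 : a * a ≠ 1 := fun e => h1 (by rw [← hr2, ← map_mul, e, map_one])
  obtain ⟨b, rfl⟩ := conj_four (x := a) (by
    apply conj_injective
    rw [map_one, ← h4, ← hr2, show a ^ 4 = a * a * (a * a) by simp only [pow_succ, pow_zero, one_mul, mul_assoc]]
    simp only [map_mul]) (by rwa [pow_two])
  set ψ' := MulAut.conj b⁻¹ * ψ * MulAut.conj b with hψ'
  have hψ'm : ψ' ∈ M := M.mul_mem (M.mul_mem (hinn _) hψ) (hinn _)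
  have hr' : ψ' r0 = r0⁻¹ := by
    apply conj_injective
    rw [show MulAut.conj (ψ' r0) = ψ' * MulAut.conj r0 * ψ'⁻¹ from MulEquiv.ext fun x => by simp [MulAut.mul_apply],
      hψ']
    calc MulAut.conj b⁻¹ * ψ * MulAut.conj b * MulAut.conj r0 * (MulAut.conj b⁻¹ * ψ * MulAut.conj b)⁻¹
        = MulAut.conj b⁻¹ * (ψ * MulAut.conj (b * r0 * b⁻¹) * ψ⁻¹) * MulAut.conj b := by
          simp only [map_mul, map_inv]; group
      _ = MulAut.conj r0⁻¹ := by rw [hrψ]; simp only [map_mul, map_inv]; group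
  have hψ'2 : ψ' * ψ' = MulAut.conj (r0 ^ 2) := by
    rw [hψ']
    calc MulAut.conj b⁻¹ * ψ * MulAut.conj b * (MulAut.conj b⁻¹ * ψ * MulAut.conj b)
        = MulAut.conj b⁻¹ * (ψ * ψ) * MulAut.conj b := by simp only [map_inv]; group
      _ = MulAut.conj (r0 ^ 2) := by rw [hψ2]; simp only [map_mul, map_inv, map_pow, pow_two]; group
  by_cases hout : Inner ψ'
  · obtain ⟨c, hc⟩ := hout
    have key : ∀ y : A6, y * r0 * y⁻¹ = r0⁻¹ → y * y ≠ r0 ^ 2 := by decide +kernel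
    rw [hc] at hr' hψ'2
    rw [← map_mul] at hψ'2
    exact key c hr' (conj_injective hψ'2)
  · exact no_standard hinn h5 hψ'm hout hr' hψ'2

end main

end Cfsg.Agent.Lib.SL3Max93.AltSix
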