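import Cfsg.Agent.Lib.TransvThree.Normaliser
import Cfsg.Agent.Lib.PrimeDim.Small

/-!
Geometric maximal subgroups of `SL 3 (F)`: transport along conjugation, reduction to the maximal
subgroups, unipotent elements in members of the classes.
-/

set_option autoImplicit false
set_option linter.unusedSectionVars false
set_option linter.style.haveILetI false

namespace Cfsg.Agent.Lib.SL3Max93

open Cfsg.Geo Matrix

variable {F : Type*} [Field F]

/-- The special linear group inside `GL 3`. -/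
abbrev SL3 (F : Type*) [Field F] : Subgroup (GL (Fin 3) F) := specialLinear (Fin 3) F

theorem mem_SL3 {g : GL (Fin 3) F} : g ∈ SL3 F ↔ (g : Matrix (Fin 3) (Fin 3) F).det = 1 :=
  Cfsg.Agent.Lib.PrimeDim.Symplectic.mem_specialLinear

theorem det_conj (g x : GL (Fin 3) F) :
    ((g * x * g⁻¹ : GL (Fin 3) F) : Matrix (Fin 3) (Fin 3) F).det = (x : Matrix (Fin 3) (Fin 3) F).det := by
  rw [Units.val_mul, Units.val_mul, Matrix.det_mul, Matrix.det_mul, mul_right_comm, ← Matrix.det_mul,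
    Units.mul_inv, Matrix.det_one, one_mul]

theorem map_conj_SL (g : GL (Fin 3) F) : (SL3 F).map (MulAut.conj g).toMonoidHom = SL3 F := by
  ext x
  constructor
  · rintro ⟨y, hy, rfl⟩
    rw [mem_SL3, MulEquiv.coe_toMonoidHom, MulAut.conj_apply, det_conj]
    exact mem_SL3.1 hy
  · intro hx
    refine ⟨g⁻¹ * x * g⁻¹⁻¹, mem_SL3.2 (by rw [det_conj]; exact mem_SL3.1 hx), ?_⟩
    rw [MulEquiv.coe_toMonoidHom, MulAut.conj_apply]
    group

theorem conj_inf (M : Subgroup (GL (Fin 3) F)) (g : GL (Fin 3) F) :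
    (M ⊓ SL3 F).map (MulAut.conj g).toMonoidHom = M.map (MulAut.conj g).toMonoidHom ⊓ SL3 F := by
  rw [Subgroup.map_inf _ _ _ (MulAut.conj g).injective, map_conj_SL]

theorem mem_map_conj {M : Subgroup (GL (Fin 3) F)} {g x : GL (Fin 3) F} :
    x ∈ M.map (MulAut.conj g).toMonoidHom ↔ g⁻¹ * x * g ∈ M := by
  constructor
  · rintro ⟨y, hy, rfl⟩
    simpa [mul_assoc] using hy
  · intro h
    exact ⟨_, h, by simp [mul_assoc]⟩

theorem isMaximalIn_conj {H H' : Subgroup (GL (Fin 3) F)} (g : GL (Fin 3) F)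
    (e : H.map (MulAut.conj g).toMonoidHom = H') (hm : IsMaximalIn (SL3 F) H) : IsMaximalIn (SL3 F) H' := by
  subst e
  have hinj := Subgroup.map_injective (f := (MulAut.conj g).toMonoidHom) (MulAut.conj g).injective
  refine ⟨?_, fun M hM hMS => ?_⟩
  · rw [← map_conj_SL g]
    exact lt_of_le_of_ne (Subgroup.map_mono hm.1.le) fun e => hm.1.ne (hinj e)
  · have e : M = (M.map (MulAut.conj g⁻¹).toMonoidHom).map (MulAut.conj g).toMonoidHom := by
      ext x
      rw [mem_map_conj, mem_map_conj]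
      simp [mul_assoc]
    have h1 : H ≤ M.map (MulAut.conj g⁻¹).toMonoidHom := fun x hx =>
      mem_map_conj.2 (by simpa using hM ⟨x, hx, rfl⟩)
    have h2 : M.map (MulAut.conj g⁻¹).toMonoidHom ≤ SL3 F :=
      (Subgroup.map_mono hMS).trans (map_conj_SL g⁻¹).le
    rcases hm.2 _ h1 h2 with h | h
    · exact Or.inl (e.trans (congrArg _ h))
    · exact Or.inr (e.trans ((congrArg _ h).trans (map_conj_SL g)))

/-- A group equal to a conjugate of another cannot be properly contained in it. -/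
theorem le_of_conj [Fintype F] {X H L : Subgroup (GL (Fin 3) F)} {g g' : GL (Fin 3) F}
    (eH : X.map (MulAut.conj g).toMonoidHom = H) (eL : X.map (MulAut.conj g').toMonoidHom = L) (h : H ≤ L) :
    L ≤ H := by
  refine le_of_eq (Subgroup.eq_of_le_of_card_ge h ?_).symm
  rw [← eH, ← eL, Subgroup.card_map_of_injective (f := (MulAut.conj g).toMonoidHom) (MulAut.conj g).injective,
    Subgroup.card_map_of_injective (f := (MulAut.conj g').toMonoidHom) (MulAut.conj g').injective]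

theorem exists_maximal_over [Fintype F] {M : Subgroup (GL (Fin 3) F)} (hM : M < SL3 F) :
    ∃ L, IsMaximalIn (SL3 F) L ∧ M ≤ L := by
  obtain ⟨L, hL⟩ := Set.Finite.exists_maximal (Set.toFinite {L : Subgroup (GL (Fin 3) F) | M ≤ L ∧ L < SL3 F})
    ⟨M, le_rfl, hM⟩
  refine ⟨L, ⟨hL.1.2, fun N hN hNS => ?_⟩, hL.1.1⟩
  by_cases e : N = SL3 F
  · exact Or.inr e
  · exact Or.inl (le_antisymm (hL.2 ⟨hL.1.1.trans hN, lt_of_le_of_ne hNS e⟩ hN) hN)

theorem isMaximalIn_of_cases [Fintype F] {H : Subgroup (GL (Fin 3) F)} (hH : H ≤ SL3 F) (hne : ¬ SL3 F ≤ H)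
    (h : ∀ L, IsMaximalIn (SL3 F) L → H ≤ L → L ≤ H) : IsMaximalIn (SL3 F) H := by
  refine ⟨lt_of_le_not_ge hH hne, fun M hM hMS => ?_⟩
  by_cases e : M = SL3 F
  · exact Or.inr e
  · obtain ⟨L, hL, hML⟩ := exists_maximal_over (lt_of_le_of_ne hMS e)
    exact Or.inl (le_antisymm (hML.trans (h L hL (hM.trans hML))) hM)

/-! ### Explicit elements -/

/-- A matrix of determinant one as an invertible matrix. -/
def mk1 (M : Matrix (Fin 3) (Fin 3) F) (h : M.det = 1) : GL (Fin 3) F :=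
  Matrix.SpecialLinearGroup.toGL ⟨M, h⟩

@[simp] theorem coe_mk1 (M : Matrix (Fin 3) (Fin 3) F) (h : M.det = 1) :
    ((mk1 M h : GL (Fin 3) F) : Matrix (Fin 3) (Fin 3) F) = M := rfl

theorem mk1_mem (M : Matrix (Fin 3) (Fin 3) F) (h : M.det = 1) : mk1 M h ∈ SL3 F := mem_SL3.2 h

theorem mk1_eq_one {M : Matrix (Fin 3) (Fin 3) F} {h : M.det = 1} : mk1 M h = 1 ↔ M = 1 :=
  ⟨fun e => by rw [← coe_mk1 M h, e, Units.val_one], fun e => Units.ext e⟩

/-! ### Unipotent elements -/

/-- Unipotent. -/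
def Unip (x : GL (Fin 3) F) : Prop := ((x : Matrix (Fin 3) (Fin 3) F) - 1) ^ 3 = 0

theorem Unip.conj {x : GL (Fin 3) F} (h : Unip x) (g : GL (Fin 3) F) : Unip (g * x * g⁻¹) := by
  have e : ((g * x * g⁻¹ : GL (Fin 3) F) : Matrix (Fin 3) (Fin 3) F) - 1 =
      (g : Matrix (Fin 3) (Fin 3) F) * ((x : Matrix (Fin 3) (Fin 3) F) - 1) *
        ((g⁻¹ : GL (Fin 3) F) : Matrix (Fin 3) (Fin 3) F) := by
    rw [Units.val_mul, Units.val_mul, mul_sub, sub_mul, mul_one, Units.mul_inv]
  rw [Unip, e, Units.conj_pow, h, mul_zero, zero_mul]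

theorem Unip.pow_card [Fintype F] (hq : 3 ≤ Fintype.card F) {x : GL (Fin 3) F} (h : Unip x) :
    x ^ Fintype.card F = 1 := by
  obtain ⟨p, hp⟩ := CharP.exists F
  obtain ⟨e, hpp, he⟩ := FiniteField.card F p
  haveI := Fact.mk hpp
  haveI : CharP (Matrix (Fin 3) (Fin 3) F) p := inferInstance
  have h1 : ((x : Matrix (Fin 3) (Fin 3) F) - 1) ^ Fintype.card F = 0 := by
    rw [← Nat.sub_add_cancel hq, pow_add, h, mul_zero]
  rw [he, sub_pow_char_pow_of_commute (p := p) (h := Commute.one_right _), one_pow, sub_eq_zero] at h1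
  refine Units.ext ?_
  rw [Units.val_pow_eq_pow_val, he, h1, Units.val_one]

theorem Unip.inv [Fintype F] (hq : 3 ≤ Fintype.card F) {x : GL (Fin 3) F} (h : Unip x) : Unip x⁻¹ := by
  have hx : (x : Matrix (Fin 3) (Fin 3) F) * ((x⁻¹ : GL (Fin 3) F) : Matrix (Fin 3) (Fin 3) F) = 1 :=
    Units.mul_inv x
  have e : ((x⁻¹ : GL (Fin 3) F) : Matrix (Fin 3) (Fin 3) F) - 1 =
      -(((x⁻¹ : GL (Fin 3) F) : Matrix (Fin 3) (Fin 3) F) * ((x : Matrix (Fin 3) (Fin 3) F) - 1)) := by
    rw [mul_sub, Units.inv_mul, mul_one, neg_sub]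
  have hc : Commute ((x⁻¹ : GL (Fin 3) F) : Matrix (Fin 3) (Fin 3) F) ((x : Matrix (Fin 3) (Fin 3) F) - 1) := by
    refine Commute.sub_right ?_ (Commute.one_right _)
    show _ = _
    rw [Units.inv_mul, hx]
  rw [Unip, e, neg_pow, hc.mul_pow, h, mul_zero, mul_zero]

theorem trace_conj (g : GL (Fin 3) F) (M : Matrix (Fin 3) (Fin 3) F) :
    ((g : Matrix (Fin 3) (Fin 3) F) * M * ((g⁻¹ : GL (Fin 3) F) : Matrix (Fin 3) (Fin 3) F)).trace = M.trace :=
  Matrix.trace_units_conj g M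

open Cfsg.Agent.Lib.TransvThree in
/-- The power `card - 1` of an element of a subfield group is defined over the subfield. -/
theorem entries_pow [Fintype F] {F₁ : Subfield F} {P x : GL (Fin 3) F} (hx : x ∈ subfieldSubgroup F₁ P)
    (i j : Fin 3) :
    ((P⁻¹ * x ^ (Fintype.card F - 1) * P : GL (Fin 3) F) : Matrix (Fin 3) (Fin 3) F) i j ∈ F₁ := by
  obtain ⟨t, h, e⟩ := split_of_subfield le_rfl hx
  have e' : P⁻¹ * x ^ (Fintype.card F - 1) * P = glEmb F₁ (h ^ (Fintype.card F - 1)) := by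
    have h1 : P⁻¹ * x ^ (Fintype.card F - 1) * P = (scal t * glEmb F₁ h) ^ (Fintype.card F - 1) := by
      have h2 := conj_pow (i := Fintype.card F - 1) (a := P⁻¹) (b := x)
      rw [inv_inv] at h2
      rw [← h2, e]
    rw [h1, (show Commute (scal t) (glEmb F₁ h) from scal_comm t _).mul_pow, ← map_pow]
    have ht : scal t ^ (Fintype.card F - 1) = (1 : GL (Fin 3) F) := by
      rw [scal, ← map_pow]
      rw [show t ^ (Fintype.card F - 1) = 1 from Units.ext (by
        rw [Units.val_pow_eq_pow_val, Units.val_one]; exact FiniteField.pow_card_sub_one_eq_one _ t.ne_zero), map_one]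
    rw [ht, one_mul]
  rw [e']
  exact (((h ^ (Fintype.card F - 1) : GL (Fin 3) F₁) : Matrix (Fin 3) (Fin 3) F₁) i j).2

theorem entries_unip [Fintype F] (hq : 3 ≤ Fintype.card F) {F₁ : Subfield F} {P x : GL (Fin 3) F}
    (hx : x ∈ subfieldSubgroup F₁ P) (hu : Unip x) (i j : Fin 3) :
    ((P⁻¹ * x * P : GL (Fin 3) F) : Matrix (Fin 3) (Fin 3) F) i j ∈ F₁ := by
  have h := entries_pow (inv_mem hx) i j
  have e : x⁻¹ ^ (Fintype.card F - 1) = x := by
    have h1 := (hu.inv hq).pow_card hq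
    rw [← Nat.sub_add_cancel (show 1 ≤ Fintype.card F by omega), pow_succ, mul_inv_eq_one] at h1
    exact h1
  rwa [e] at h

/-- Products of two unipotent elements of a subfield group have trace in the subfield. -/
theorem trace_mem [Fintype F] (hq : 3 ≤ Fintype.card F) {F₁ : Subfield F} {P x y : GL (Fin 3) F}
    (hx : x ∈ subfieldSubgroup F₁ P) (hy : y ∈ subfieldSubgroup F₁ P) (hux : Unip x) (huy : Unip y) :
    ((x : Matrix (Fin 3) (Fin 3) F) * (y : Matrix (Fin 3) (Fin 3) F)).trace ∈ F₁ := by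
  rw [← Units.val_mul, ← trace_conj P⁻¹ (((x * y : GL (Fin 3) F)) : Matrix (Fin 3) (Fin 3) F), inv_inv,
    ← Units.val_mul, ← Units.val_mul, show P⁻¹ * (x * y) * P = (P⁻¹ * x * P) * (P⁻¹ * y * P) by group]
  rw [Units.val_mul, Matrix.trace]
  refine Subfield.sum_mem _ fun i _ => ?_
  rw [Matrix.diag_apply, Matrix.mul_apply]
  exact Subfield.sum_mem _ fun j _ => mul_mem (entries_unip hq hx hux i j) (entries_unip hq hy huy j i)

/-- A prime-index subfield is proper. -/
theorem subfield_ne_top [Fintype F] {F₀ : Subfield F} {r : ℕ} (hr : r.Prime)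
    (hc : Fintype.card F = Nat.card F₀ ^ r) : F₀ ≠ ⊤ := by
  rintro rfl
  rw [Nat.card_congr (Equiv.subtypeUnivEquiv fun x => Subfield.mem_top x), Nat.card_eq_fintype_card] at hc
  exact hr.one_lt.ne (Nat.pow_right_injective (Fintype.one_lt_card (α := F)) ((pow_one _).trans hc))

theorem card_subfield_ge [Fintype F] (F₀ : Subfield F) : 2 ≤ Nat.card F₀ := Finite.one_lt_card

/-- A unipotent group inside a decomposition stabiliser has order dividing six. -/
theorem card_unip_monomial [Fintype F] {D : Fin 3 → Submodule F (Fin 3 → F)} (hD : IsMDecomposition 1 D)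
    {U : Subgroup (GL (Fin 3) F)} (hU : U ≤ decompositionStabilizer D) (hu : ∀ x ∈ U, Unip x) :
    Nat.card U ∣ 6 := by
  classical
  obtain ⟨P, hP⟩ := Cfsg.Agent.Lib.PrimeDim.Small.monomial_basis hD
  choose! π c hc0 hc using hP
  have huniq : ∀ g ∈ decompositionStabilizer D, ∀ i k (a : F), a ≠ 0 →
      (g : Matrix (Fin 3) (Fin 3) F) *ᵥ (P.val *ᵥ Pi.single i 1) = a • (P.val *ᵥ Pi.single k 1) → π g i = k := by
    intro g hg i k a ha e
    rw [hc g hg i] at e
    have e' := congrArg (fun v => (P⁻¹ : GL (Fin 3) F).val *ᵥ v) e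
    simp only [Matrix.mulVec_smul, Cfsg.Agent.Lib.PrimeDim.Basic.inv_mulVec_cancel] at e'
    have := congrFun e' (π g i)
    by_contra hne
    simp [hc0 g hg i, hne] at this
  let ρ : U →* Equiv.Perm (Fin 3) := MonoidHom.mk' (fun g => π g.1) (fun a b => Equiv.ext fun i => by
    refine huniq _ (hU (U.mul_mem a.2 b.2)) i _ (c b.1 i * c a.1 (π b.1 i))
      (mul_ne_zero (hc0 _ (hU b.2) _) (hc0 _ (hU a.2) _)) ?_
    rw [Units.val_mul, ← Matrix.mulVec_mulVec, hc _ (hU b.2), Matrix.mulVec_smul, hc _ (hU a.2), smul_smul]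
    rfl)
  have hinj : Function.Injective ρ := by
    rw [← MonoidHom.ker_eq_bot_iff, Subgroup.eq_bot_iff_forall]
    intro g hg
    have hπ : ∀ i, π g.1 i = i := fun i => by
      rw [show π g.1 = ρ g from rfl, MonoidHom.mem_ker.1 hg]; rfl
    have hd : ((P⁻¹ * g.1 * P : GL (Fin 3) F) : Matrix (Fin 3) (Fin 3) F) = Matrix.diagonal (c g.1) := by
      refine Matrix.ext_of_mulVec_single fun i => ?_
      rw [Units.val_mul, Units.val_mul, ← Matrix.mulVec_mulVec, ← Matrix.mulVec_mulVec, hc _ (hU g.2), hπ,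
        Matrix.mulVec_smul, Cfsg.Agent.Lib.PrimeDim.Basic.inv_mulVec_cancel]
      funext j
      by_cases hij : i = j
      · subst hij; simp
      · simp [hij, Ne.symm hij]
    have h3 := (hu _ g.2).conj P⁻¹
    rw [inv_inv, Unip, hd, ← Matrix.diagonal_one, Matrix.diagonal_sub, Matrix.diagonal_pow] at h3
    have hone : P⁻¹ * g.1 * P = 1 := Units.ext (by
      rw [hd, Units.val_one, ← Matrix.diagonal_one]
      congr 1
      funext i
      have := congrFun (congrFun h3 i) i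
      simp at this
      exact sub_eq_zero.1 this)
    refine Subtype.ext ?_
    calc g.1 = P * (P⁻¹ * g.1 * P) * P⁻¹ := by group
      _ = 1 := by rw [hone]; group
  rw [← Nat.card_congr (MonoidHom.ofInjective hinj).symm.toEquiv]
  refine (Subgroup.card_subgroup_dvd_card _).trans ?_
  rw [Nat.card_eq_fintype_card, Fintype.card_perm, Fintype.card_fin]
  rfl

end Cfsg.Agent.Lib.SL3Max93
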