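import Cfsg.Agent.Lib.SL3Max93.Common

/-!
The monomial member is maximal.
-/

set_option autoImplicit false
set_option linter.unusedSectionVars false
set_option linter.style.haveILetI false

namespace Cfsg.Agent.Lib.SL3Max93

open Cfsg.Geo Matrix
open Cfsg.Agent.Lib.PrimeDim.Basic

variable {F : Type*} [Field F]

theorem diag3_mul (a b c a' b' c' : F) (h : a * b * c = 1) (h' : a' * b' * c' = 1) :
    diag3 a b c h * diag3 a' b' c' h' = diag3 (a * a') (b * b') (c * c') (by
      linear_combination h' + (a' * b' * c') * h) := by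
  refine Units.ext ?_
  ext i j
  fin_cases i <;> fin_cases j <;> simp [diag3, Matrix.mul_apply, Fin.sum_univ_three]

theorem torusPair_det (x : Fˣ × Fˣ) : (x.1 : F) * ((x.1 : F)⁻¹ * (x.2 : F)) * (x.2 : F)⁻¹ = 1 := by
  have := x.1.ne_zero
  have := x.2.ne_zero
  field_simp

/-- The diagonal torus of determinant one, parametrised. -/
def torusHom (F : Type*) [Field F] : Fˣ × Fˣ →* GL (Fin 3) F :=
  MonoidHom.mk' (fun x => diag3 (x.1 : F) ((x.1 : F)⁻¹ * (x.2 : F)) (x.2 : F)⁻¹ (torusPair_det x)) (fun x y => by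
    rw [diag3_mul]
    refine Units.ext ?_
    ext i j
    fin_cases i <;> fin_cases j <;> simp [diag3] <;> ring)

theorem torusHom_injective : Function.Injective (torusHom F) := fun x y e => by
  have h1 := congrArg (fun g : GL (Fin 3) F => g.val 0 0) e
  have h2 := congrArg (fun g : GL (Fin 3) F => g.val 2 2) e
  simp [torusHom, diag3] at h1 h2
  exact Prod.ext (Units.ext h1) (Units.ext h2)

variable [Fintype F]

/-- The monomial member is maximal for at least five field elements. -/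
theorem mono_maximal (hRes : Res F) (h5 : 5 ≤ Fintype.card F) {D : Fin 3 → Submodule F (Fin 3 → F)}
    (hD : IsMDecomposition 1 D) : IsMaximalIn (SL3 F) (decompositionStabilizer D ⊓ SL3 F) := by
  classical
  obtain ⟨P, hP⟩ := mono_conj hD
  refine isMaximalIn_conj P (H := monoStd F ⊓ SL3 F) (by rw [conj_inf, hP]) (member_maximal ?_ fun L hL hle => ?_)
  · intro hle
    have h := Cfsg.Agent.Lib.PrimeDim.Proper.not_le_decompositionStabilizer card_three (by simp) hD
    exact h ((map_conj_SL P).ge.trans ((Subgroup.map_mono hle).trans hP.le))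
  obtain ⟨a, ha⟩ := IsCyclic.exists_generator (α := Fˣ)
  have hord : orderOf a = Fintype.card F - 1 := by
    rw [orderOf_eq_card_of_forall_mem_zpowers ha, Nat.card_units, Nat.card_eq_fintype_card]
  have hne : ∀ k, 0 < k → k < 4 → (a : F) ^ k ≠ 1 := fun k hk hk4 e => by
    have := Nat.le_of_dvd hk (hord ▸ orderOf_dvd_of_pow_eq_one (Units.ext (by
      rw [Units.val_pow_eq_pow_val, e, Units.val_one])))
    omega
  have ha1 : (a : F) ≠ 1 := fun e => hne 1 (by norm_num) (by norm_num) (by rw [pow_one, e])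
  have hd : diag3 (a : F) (a : F)⁻¹ 1 (by rw [mul_one, mul_inv_cancel₀ a.ne_zero]) ∈ L :=
    hle ⟨diag3_mem _ _ _ _, mk1_mem _ _⟩
  have he : diag3 (a : F) 1 (a : F)⁻¹ (by rw [mul_one, mul_inv_cancel₀ a.ne_zero]) ∈ L :=
    hle ⟨diag3_mem _ _ _ _, mk1_mem _ _⟩
  have hirr : Irred (monoStd F ⊓ SL3 F) := irred_mono a.ne_zero ha1 (hne 2 (by norm_num) (by norm_num))
    ⟨diag3_mem _ _ _ _, mk1_mem _ _⟩ ⟨cyc3_mem, mk1_mem _ _⟩
  rcases Cfsg.Agent.S5775.result L hL with ⟨W, hb, ht, rfl⟩ | ⟨-, D', hD', rfl⟩ | ⟨-, K, hK, rfl⟩ |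
    ⟨F₁, r, Q, hr, hc, rfl⟩ | ⟨p, R, hp, hFp, hp3, hR, rfl⟩ | ⟨-, Q, hQ, rfl⟩ | ⟨σ, f, hf, rfl⟩ | hres
  · exact absurd (hle.trans inf_le_left) (not_le_stab hirr hb ht)
  · obtain ⟨Q, hQ⟩ := mono_conj hD'
    exact le_of_conj (X := monoStd F ⊓ SL3 F) (map_conj_one _) (g' := Q) (by rw [conj_inf, hQ]) hle
  · exfalso
    set d := diag3 (a : F) 1 (a : F)⁻¹ (by rw [mul_one, mul_inv_cancel₀ a.ne_zero]) with hdd
    have h3 := FieldAlg.scalar_of_eigen hK he.1 (v := Pi.single 1 1) (l := 1) (by simp) (by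
      funext i; fin_cases i <;> simp [hdd, diag3])
    have := congrFun (congrFun h3 0) 0
    rw [Units.val_pow_eq_pow_val, pow_succ, pow_two] at this
    simp [hdd, diag3, Matrix.mul_apply, Fin.sum_univ_three] at this
    exact hne 3 (by norm_num) (by norm_num) (by linear_combination this)
  · exact absurd (hle.trans inf_le_left) fun h => mono_not_subfield h5 hr hc h
  · exfalso
    have h2 : (-1 : F) ≠ 1 := fun e => two_ne_zero_of_odd (F := F)
      (by rw [hFp]; exact hp.odd_of_ne_two (by omega)) (by linear_combination -e)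
    have hns : ∀ (x y z : F) (h : x * y * z = 1), x ≠ y ∨ y ≠ z → diag3 x y z h ∉ scalars (Fin 3) F := by
      intro x y z h hxy hmem
      obtain ⟨c, hc⟩ := (mem_scalars_iff _).mp hmem
      have e0 := congrFun (congrFun hc 0) 0
      have e1 := congrFun (congrFun hc 1) 1
      have e2 := congrFun (congrFun hc 2) 2
      simp [diag3] at e0 e1 e2
      rcases hxy with h' | h'
      · exact h' (e0.trans e1.symm)
      · exact h' (e1.trans e2.symm)
    have hmem : ∀ (x y z : F) (h : x * y * z = 1), diag3 x y z h ∈ subgroupNormalizer R := fun x y z h =>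
      (hle ⟨diag3_mem _ _ _ _, mk1_mem _ _⟩).1
    refine (Symp.setup_of hR).no_four (hmem (-1) (-1) 1 (by ring)) (hmem 1 (-1) (-1) (by ring)) ?_ ?_ ?_
      (hns _ _ _ _ (Or.inr h2)) (hns _ _ _ _ (Or.inl (Ne.symm h2))) (by rw [diag3_mul]; exact hns _ _ _ _ (Or.inl (by simpa using h2)))
    all_goals first
      | (simp only [diag3_mul]; refine Units.ext ?_; ext i j; fin_cases i <;> fin_cases j <;> simp [diag3])
      | simpa using h2
  · exact (torus_not_orth hQ a.ne_zero (hne 2 (by norm_num) (by norm_num)) (hne 3 (by norm_num) (by norm_num))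
      hd.1 he.1).elim
  · exact (torus_not_unitary hf ha (hne 2 (by norm_num) (by norm_num)) (hne 3 (by norm_num) (by norm_num))
      hd.1 he.1).elim
  · exfalso
    obtain ⟨P₁, p, hI⟩ := hRes.data hL hres
    have hT : (torusHom F).range ≤ L := by
      rintro _ ⟨x, rfl⟩
      exact hle ⟨diag3_mem _ _ _ (torusPair_det x), mk1_mem _ _⟩
    have hcard : Nat.card (torusHom F).range = (Fintype.card F - 1) ^ 2 := by
      rw [← Nat.card_congr (MonoidHom.ofInjective torusHom_injective).toEquiv, Nat.card_prod, Nat.card_units,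
        Nat.card_eq_fintype_card, pow_two]
    have hp := hI.prime
    rcases hI.bound hT with ⟨hd, hF, h2, h7⟩ | ⟨hd, hcase⟩
    · rw [hcard] at hd
      have hle' : Fintype.card F - 1 ≤ 31 := by
        have := Nat.le_of_dvd (by norm_num) hd
        nlinarith
      rw [hF] at hd h5 hle'
      have key : ∀ n < 33, 5 ≤ n → (n % 7 = 1 ∨ n % 7 = 2 ∨ n % 7 = 4) → ¬ (n - 1) ^ 2 ∣ 1008 := by decide
      exact key p (by omega) h5 h7 hd
    · rw [hcard] at hd
      have hle' : Fintype.card F - 1 ≤ 65 := by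
        have := Nat.le_of_dvd (by norm_num) hd
        nlinarith
      rcases hcase with ⟨hF, h15⟩ | ⟨hF, h3, h25⟩
      · rw [hF] at hd h5 hle'
        have key : ∀ n < 67, 5 ≤ n → (n % 15 = 1 ∨ n % 15 = 4) → ¬ (n - 1) ^ 2 ∣ 4320 := by decide
        exact key p (by omega) h5 h15 hd
      · rw [hF] at hd h5 hle'
        have hp9 : p < 9 := by nlinarith [Nat.sub_add_cancel (show 1 ≤ p ^ 2 by omega)]
        have key : ∀ n < 9, 5 ≤ n ^ 2 → n ≠ 3 → ¬ (n ^ 2 - 1) ^ 2 ∣ 4320 := by decide
        exact key p hp9 h5 h3 hd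

end Cfsg.Agent.Lib.SL3Max93
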