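import Cfsg.Agent.Lib.SL3Max93.CaseSubfield

/-!
The orthogonal member is maximal in odd characteristic.
-/

set_option autoImplicit false
set_option linter.unusedSectionVars false
set_option linter.style.haveILetI false

namespace Cfsg.Agent.Lib.SL3Max93

open Cfsg.Geo Matrix
open Cfsg.Agent.Lib.PrimeDim.Basic

variable {F : Type*} [Field F] [Fintype F]

theorem orth_maximal (hRes : Res F) (ho : Odd (Fintype.card F)) {Q₀ : (Fin 3 → F) → F}
    (hQ₀ : IsNondegenerateQuadraticForm Q₀) : IsMaximalIn (SL3 F) (quadSimilarityGroup Q₀ ⊓ SL3 F) := by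
  classical
  have h2 := two_ne_zero_of_odd ho
  have hq := three_le_of_odd ho
  obtain ⟨P, hP⟩ := orth_conj hQ₀ h2
  refine isMaximalIn_conj P (H := quadSimilarityGroup (orthQ (F := F)) ⊓ SL3 F) (by rw [conj_inf, hP])
    (member_maximal (Cfsg.Agent.Lib.PrimeDim.Proper.not_le_quadSimilarityGroup card_three (orthQ_isQuad h2))
      fun L hL hle => ?_)
  have hU : ∀ t, orthU t ∈ L := fun t => hle ⟨orthU_mem t, mk1_mem _ _⟩
  have hW : ∀ t, orthL t ∈ L := fun t => hle ⟨orthL_mem t, mk1_mem _ _⟩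
  have hm2 : (-2 : F) ≠ 0 := neg_ne_zero.mpr h2
  set T := uniTri F ⊓ quadSimilarityGroup (orthQ (F := F)) with hT
  have hTL : T ≤ L := fun g hg => by
    obtain ⟨a, b, c, rfl⟩ := hg.1
    exact hle ⟨hg.2, upp_mem_SL _ _ _⟩
  have hTu : ∀ x ∈ T, Unip x := fun x hx => unip_of_mem_uniTri hx.1
  have hTq : Fintype.card F ≤ Nat.card T := by
    rw [← Nat.card_eq_fintype_card]
    refine Nat.card_le_card_of_injective (fun t : F => (⟨orthU t, upp_mem_uniTri _ _ _, orthU_mem t⟩ : T))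
      fun s t e => ?_
    exact (upp_inj (congrArg Subtype.val e)).2.1
  rcases Cfsg.Agent.S5775.result L hL with ⟨W, hb, ht, rfl⟩ | ⟨h5, D, hD, rfl⟩ | ⟨-, K, hK, rfl⟩ |
    ⟨F₁, r', Q, hr', hc', rfl⟩ | ⟨p, R, hp, hFp, hp3, hR, rfl⟩ | ⟨-, Q, hQ, rfl⟩ | ⟨σ, f, hf, rfl⟩ | hres
  · refine absurd (hle.trans inf_le_left) (not_le_stab ?_ hb ht)
    exact irred_roots (a := -2 * 1) (b := 1) (c := -1 ^ 2) (a' := 1) (b' := -2 * 1) (c' := -1 ^ 2) (e := 1) (e' := 1)
      ⟨orthU_mem 1, mk1_mem _ _⟩ ⟨orthL_mem 1, mk1_mem _ _⟩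
      (Or.inr ⟨by simpa using hm2, one_ne_zero⟩) (Or.inr ⟨one_ne_zero, by simpa using hm2⟩) one_ne_zero one_ne_zero
      (by simpa using hm2) one_ne_zero (by simpa using hm2)
  · exfalso
    have hd := card_unip_monomial hD (hTL.trans inf_le_left) hTu
    obtain ⟨p, hp⟩ := CharP.exists F
    obtain ⟨n, hpp, hn⟩ := FiniteField.card F p
    haveI := Fact.mk hpp
    obtain ⟨k, hk⟩ := IsPGroup.iff_card.mp (isPGroup_uniTri hn hq (show T ≤ uniTri F from inf_le_left))
    have hodd : Odd (Nat.card T) := by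
      rw [hk]
      exact Odd.pow ((Nat.odd_pow_iff n.ne_zero).mp (hn ▸ ho))
    have := Nat.le_of_dvd (by norm_num) hd
    obtain ⟨j, hj⟩ := hodd
    have h56 : Nat.card T = 5 := by omega
    rw [h56] at hd
    norm_num at hd
  · exfalso
    have hd : diag3 (-1 : F) 1 (-1)⁻¹ (by rw [mul_one, mul_inv_cancel₀ (neg_ne_zero.mpr one_ne_zero)]) ∈
        subalgebraNormalizer K := (hle ⟨diag3_mem_orth (-1) (neg_ne_zero.mpr one_ne_zero), mk1_mem _ _⟩).1
    have h3 := FieldAlg.scalar_of_eigen hK hd (v := Pi.single 1 1) (l := 1) (by simp) (by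
      funext i; fin_cases i <;> simp [diag3])
    have := congrFun (congrFun h3 0) 0
    rw [Units.val_pow_eq_pow_val, pow_succ, pow_two] at this
    simp [diag3, Matrix.mul_apply, Fin.sum_univ_three] at this
    exact h2 (by linear_combination -this)
  · exact (subfield_ne_top hr' hc' (eq_top_of_orth hq h2 (fun t => (hU t).1) (hW 1).1)).elim
  · exfalso
    have hns : ∀ g : GL (Fin 3) F, g.val 0 0 ≠ g.val 1 1 → g ∉ scalars (Fin 3) F := by
      intro g hne hmem
      obtain ⟨c, hc⟩ := (mem_scalars_iff _).mp hmem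
      refine hne ?_
      rw [hc]
      simp
    have hm1 : (-1 : F) ≠ 1 := fun e => h2 (by linear_combination -e)
    refine (Symp.setup_of hR).no_four
      (hle ⟨diag3_mem_orth (-1) (neg_ne_zero.mpr one_ne_zero), mk1_mem _ _⟩).1
      (hle ⟨orthW_mem, mk1_mem _ _⟩).1 ?_ ?_ ?_ (hns _ (by simpa [diag3] using hm1))
      (hns _ (by simp [orthW])) (hns _ (by simp [diag3, orthW, Matrix.mul_apply, Fin.sum_univ_three]))
    all_goals
      refine Units.ext ?_
      ext i j
      fin_cases i <;> fin_cases j <;> simp [diag3, orthW, Matrix.mul_apply, Fin.sum_univ_three]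
  · obtain ⟨P', hP'⟩ := orth_conj hQ h2
    exact le_of_conj (X := quadSimilarityGroup (orthQ (F := F)) ⊓ SL3 F) (map_conj_one _) (g' := P')
      (by rw [conj_inf, hP']) hle
  · exact (orth_not_unitary hf h2 fun t => (hU t).1).elim
  · exfalso
    obtain ⟨P₁, p, hI⟩ := hRes.data hL hres
    obtain ⟨h4, -, -⟩ := hI.unip (T := T) hq inf_le_left hTL (by omega)
    rw [h4] at ho
    exact absurd ho (by decide)

end Cfsg.Agent.Lib.SL3Max93
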