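import Cfsg.Agent.Lib.SL3Max93.Elems
import Cfsg.Agent.Lib.Subspaces.UnitaryForm

/-!
Elements that cannot be similarities of forms of the other classes.
-/

set_option autoImplicit false
set_option linter.unusedSectionVars false
set_option linter.style.haveILetI false

namespace Cfsg.Agent.Lib.SL3Max93

open Cfsg.Geo Matrix
open Cfsg.Agent.Lib.PrimeDim.Fields

variable {F : Type*} [Field F] {σ : F →+* F} {f : (Fin 3 → F) → (Fin 3 → F) → F}

/-- The Gram equation of a similarity. -/
theorem gram_eq (hf : IsSesqui σ f) {g : GL (Fin 3) F} (hg : g ∈ similarityGroup f) :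
    ∃ c : F, g.valᵀ * gramMatrix f * g.val.map σ = c • gramMatrix f := by
  obtain ⟨c, hc⟩ := hg
  exact ⟨c, (hf.scale_iff _ _).1 hc⟩

theorem row_zero_ne (hf : IsSesqui σ f) (hnd : IsNondegenerateForm f) (i : Fin 3) (h0 : gramMatrix f i 0 = 0)
    (h1 : gramMatrix f i 1 = 0) : gramMatrix f i 2 ≠ 0 := by
  intro h2
  obtain ⟨x, hx⟩ := (hnd (Pi.single i 1) (by simp)).2
  apply hx
  rw [hf.apply_eq]
  simp [dotProduct, Matrix.mulVec, Fin.sum_univ_three, Pi.single_apply, h0, h1, h2]

theorem mem_sim_of_quad {Q : (Fin 3 → F) → F} {g : GL (Fin 3) F} (hg : g ∈ quadSimilarityGroup Q) :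
    g ∈ similarityGroup (QuadraticMap.polar Q) := by
  obtain ⟨c, hc⟩ := hg
  exact ⟨c, fun u v => by simp only [QuadraticMap.polar, ← Matrix.mulVec_add, hc]; ring⟩

/-- No root element is an orthogonal similarity. -/
theorem root_not_orth {Q : (Fin 3 → F) → F} (hQ : IsNondegenerateQuadraticForm Q) (h2 : (2 : F) ≠ 0) {a : F}
    (ha : a ≠ 0) : upp 0 0 a ∉ quadSimilarityGroup Q := by
  intro hg
  have hf := isSesqui_of_bilinear hQ.polar_bilinear
  obtain ⟨c, hc⟩ := gram_eq hf (mem_sim_of_quad hg)
  set G := gramMatrix (QuadraticMap.polar Q) with hG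
  have hs : ∀ i j, G i j = G j i := fun i j => QuadraticMap.polar_comm Q _ _
  have e00 := congrFun (congrFun hc 0) 0
  have e01 := congrFun (congrFun hc 0) 1
  have e02 := congrFun (congrFun hc 0) 2
  have e12 := congrFun (congrFun hc 1) 2
  have e22 := congrFun (congrFun hc 2) 2
  simp [upp, Matrix.mul_apply, Fin.sum_univ_three] at e00 e01 e02 e12 e22
  have hne := row_zero_ne hf hQ.nondegenerate 0
  by_cases hc1 : c = 1
  · subst hc1
    have h00 : G 0 0 = 0 := by
      have : a * G 0 0 = 0 := by linear_combination e02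
      exact (mul_eq_zero.1 this).resolve_left ha
    have h10 : G 1 0 = 0 := by
      have : a * G 1 0 = 0 := by linear_combination e12
      exact (mul_eq_zero.1 this).resolve_left ha
    refine hne h00 ((hs 0 1).trans h10) ?_
    have : 2 * (a * G 0 2) = 0 := by linear_combination e22 - a * a * h00 + a * (hs 0 2)
    exact (mul_eq_zero.1 ((mul_eq_zero.1 this).resolve_left h2)).resolve_left ha
  · have hcne : (1 : F) - c ≠ 0 := sub_ne_zero.2 (Ne.symm hc1)
    have h00 : G 0 0 = 0 := (mul_eq_zero.1 (show (1 - c) * G 0 0 = 0 by linear_combination e00)).resolve_left hcne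
    have h01 : G 0 1 = 0 := (mul_eq_zero.1 (show (1 - c) * G 0 1 = 0 by linear_combination e01)).resolve_left hcne
    exact hne h00 h01 ((mul_eq_zero.1 (show (1 - c) * G 0 2 = 0 by linear_combination e02 - a * h00)).resolve_left hcne)

/-- Two linear root elements with one centre are no hermitian similarities. -/
theorem roots_not_unitary {σ : F ≃+* F} (hf : IsUnitaryForm σ f) (h1 : upp 0 0 1 ∈ similarityGroup f)
    (h2 : upp 1 0 0 ∈ similarityGroup f) : False := by
  have hs := isSesqui_of_unitary hf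
  obtain ⟨c, hc⟩ := gram_eq hs h1
  obtain ⟨d, hd⟩ := gram_eq hs h2
  set G := gramMatrix f with hG
  have hsym : ∀ i j, G i j = σ (G j i) := fun i j => hf.herm _ _
  have c00 := congrFun (congrFun hc 0) 0
  have c01 := congrFun (congrFun hc 0) 1
  have c02 := congrFun (congrFun hc 0) 2
  have c12 := congrFun (congrFun hc 1) 2
  have d02 := congrFun (congrFun hd 0) 2
  have d12 := congrFun (congrFun hd 1) 2
  simp [upp, Matrix.mul_apply, Fin.sum_univ_three] at c00 c01 c02 c12 d02 d12
  have hne := row_zero_ne hs hf.nondegenerate 0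
  by_cases hc1 : c = 1
  · subst hc1
    have h00 : G 0 0 = 0 := by linear_combination c02
    have h10 : G 1 0 = 0 := by linear_combination c12
    have h01 : G 0 1 = 0 := by rw [hsym, h10, map_zero]
    have h02 := hne h00 h01
    have hd1 : d = 1 := by
      have : (1 - d) * G 0 2 = 0 := by linear_combination d02
      exact ((sub_eq_zero.1 ((mul_eq_zero.1 this).resolve_right h02))).symm
    rw [hd1] at d12
    exact h02 (by linear_combination d12)
  · have hcne : (1 : F) - c ≠ 0 := sub_ne_zero.2 (Ne.symm hc1)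
    have h00 : G 0 0 = 0 := (mul_eq_zero.1 (show (1 - c) * G 0 0 = 0 by linear_combination c00)).resolve_left hcne
    have h01 : G 0 1 = 0 := (mul_eq_zero.1 (show (1 - c) * G 0 1 = 0 by linear_combination c01)).resolve_left hcne
    exact hne h00 h01 ((mul_eq_zero.1 (show (1 - c) * G 0 2 = 0 by linear_combination c02 - h00)).resolve_left hcne)

/-- The orthogonal root group is not unitary. -/
theorem orth_not_unitary {σ : F ≃+* F} (hf : IsUnitaryForm σ f) (h2 : (2 : F) ≠ 0)
    (h : ∀ t, orthU t ∈ similarityGroup f) : False := by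
  have hs := isSesqui_of_unitary hf
  set G := gramMatrix f with hG
  have hsym : ∀ i j, G i j = σ (G j i) := fun i j => hf.herm _ _
  have hne := row_zero_ne hs hf.nondegenerate 0
  have key : ∀ t : F, t ≠ 0 → G 0 0 = 0 ∧ G 0 1 = 0 ∧ σ t * G 1 1 = 2 * t * G 0 2 := by
    intro t ht
    obtain ⟨c, hc⟩ := gram_eq hs (h t)
    rw [← hG] at hc
    have e00 := congrFun (congrFun hc 0) 0
    have e01 := congrFun (congrFun hc 0) 1
    have e02 := congrFun (congrFun hc 0) 2
    have e12 := congrFun (congrFun hc 1) 2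
    simp [orthU, upp, Matrix.mul_apply, Fin.sum_univ_three, map_ofNat] at e00 e01 e02 e12
    have hc1 : c = 1 := by
      by_contra hc1
      have hcne : (1 : F) - c ≠ 0 := sub_ne_zero.2 (Ne.symm hc1)
      have h00 : G 0 0 = 0 := (mul_eq_zero.1 (show (1 - c) * G 0 0 = 0 by linear_combination e00)).resolve_left hcne
      have h01 : G 0 1 = 0 := (mul_eq_zero.1
        (show (1 - c) * G 0 1 = 0 by linear_combination e01 + 2 * σ t * h00)).resolve_left hcne
      exact hne h00 h01 ((mul_eq_zero.1 (show (1 - c) * G 0 2 = 0 by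
        linear_combination e02 + σ t ^ 2 * h00 - σ t * h01)).resolve_left hcne)
    subst hc1
    have hst : σ t ≠ 0 := by simpa using ht
    have h00 : G 0 0 = 0 := by
      have : 2 * σ t * G 0 0 = 0 := by linear_combination -e01
      exact (mul_eq_zero.1 this).resolve_left (mul_ne_zero h2 hst)
    have h01 : G 0 1 = 0 := by
      have : σ t * G 0 1 = 0 := by linear_combination e02 + σ t ^ 2 * h00
      exact (mul_eq_zero.1 this).resolve_left hst
    have h10 : G 1 0 = 0 := by rw [hsym, h01, map_zero]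
    exact ⟨h00, h01, by linear_combination e12 + σ t ^ 2 * h10 - 2 * t * σ t ^ 2 * h00 + 2 * t * σ t * h01⟩
  obtain ⟨h00, h01, h11⟩ := key 1 one_ne_zero
  rw [map_one, one_mul, mul_one] at h11
  refine hne h00 h01 ?_
  obtain ⟨t, ht⟩ : ∃ t, σ t ≠ t := by
    by_contra! hall
    exact hf.ne_refl (RingEquiv.ext hall)
  have h := (key t (fun e => ht (by rw [e, map_zero]))).2.2
  rw [h11] at h
  have : (σ t - t) * (2 * G 0 2) = 0 := by linear_combination h
  exact (mul_eq_zero.1 ((mul_eq_zero.1 this).resolve_left (sub_ne_zero.2 ht))).resolve_left h2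

/-- The diagonal torus preserves a reflexive form only if its parameter has norm one. -/
theorem torus_norm (hf : IsSesqui σ f) (hnd : IsNondegenerateForm f) (hinv : ∀ x, σ (σ x) = x) {a : F}
    (ha : a ≠ 0) (ha2 : a ^ 2 ≠ 1) (ha3 : a ^ 3 ≠ 1)
    (hd : diag3 a a⁻¹ 1 (by rw [mul_one, mul_inv_cancel₀ ha]) ∈ similarityGroup f)
    (he : diag3 a 1 a⁻¹ (by rw [mul_one, mul_inv_cancel₀ ha]) ∈ similarityGroup f) : a * σ a = 1 := by
  obtain ⟨c, hc⟩ := gram_eq hf hd
  obtain ⟨d, hd⟩ := gram_eq hf he
  set G := gramMatrix f with hG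
  set b := σ a with hb
  have hb0 : b ≠ 0 := by simpa [hb] using ha
  have hba : σ b = a := hinv a
  have ce : ∀ i j, (![a, a⁻¹, 1] i * ![b, b⁻¹, 1] j - c) * G i j = 0 := fun i j => by
    have := congrFun (congrFun hc i) j
    fin_cases i <;> fin_cases j <;> simp [diag3, Matrix.mul_apply, Fin.sum_univ_three, map_inv₀] at this ⊢ <;>
      first
      | (rw [← mul_eq_zero]; linear_combination this)
      | (rcases this with h | h <;> simp [h])
  have de : ∀ i j, (![a, 1, a⁻¹] i * ![b, 1, b⁻¹] j - d) * G i j = 0 := fun i j => by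
    have := congrFun (congrFun hd i) j
    fin_cases i <;> fin_cases j <;> simp [diag3, Matrix.mul_apply, Fin.sum_univ_three, map_inv₀] at this ⊢ <;>
      first
      | (rw [← mul_eq_zero]; linear_combination this)
      | (rcases this with h | h <;> simp [h])
  have pick : ∀ i j, G i j ≠ 0 → c = ![a, a⁻¹, 1] i * ![b, b⁻¹, 1] j ∧ d = ![a, 1, a⁻¹] i * ![b, 1, b⁻¹] j :=
    fun i j h => ⟨(sub_eq_zero.1 ((mul_eq_zero.1 (ce i j)).resolve_right h)).symm,
      (sub_eq_zero.1 ((mul_eq_zero.1 (de i j)).resolve_right h)).symm⟩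
  have row : ∀ i, ∃ j, G i j ≠ 0 := fun i => by
    by_contra! hall
    exact row_zero_ne hf hnd i (hall 0) (hall 1) (hall 2)
  have cube : ∀ x : F, b = x → x = a → a * b = a⁻¹ → False := fun x h h' e => by
    subst h; rw [h'] at e; field_simp at e; exact ha3 (by linear_combination e)
  have twice : b = a * a → False := fun e => by
    have h4 : a = (a * a) * (a * a) := by
      have h := congrArg σ e
      rw [hba, map_mul, ← hb, e] at h
      exact h
    exact ha3 (mul_left_cancel₀ ha (by linear_combination -h4))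
  obtain ⟨j, hj⟩ := row 0
  obtain ⟨k, hk⟩ := row 1
  obtain ⟨l, hl⟩ := row 2
  obtain ⟨c0, d0⟩ := pick 0 j hj
  obtain ⟨c1, d1⟩ := pick 1 k hk
  obtain ⟨c2, d2⟩ := pick 2 l hl
  rw [c0] at c1 c2
  rw [d0] at d1 d2
  fin_cases j <;> simp at c1 c2 d1 d2
  · fin_cases k <;> simp at c1 d1
    · exfalso
      field_simp at c1
      simp [ha, hb0] at c1
      exact ha2 (by rcases c1 with h | h <;> simp [h])
    · exact d1
    · exfalso
      field_simp at c1 d1
      exact cube _ rfl (mul_left_cancel₀ (mul_ne_zero ha hb0) (by linear_combination d1 - c1))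
        (by field_simp; linear_combination c1)
  · fin_cases l <;> simp at c2 d2 <;> exfalso <;> field_simp at c2 d2
    · exact twice (by linear_combination -d2)
    · exact ha2 (by rw [c2]; ring)
    · have hab : b = a := by linear_combination -c2
      rw [hab] at d2
      exact ha3 (by linear_combination d2)
  · fin_cases k <;> simp at c1 d1 <;> exfalso <;> field_simp at c1 d1
    · exact twice (by linear_combination -c1)
    · have hab : b = a := by linear_combination -d1
      rw [hab] at c1
      exact ha3 (by linear_combination c1)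
    · exact ha2 (by linear_combination c1)

theorem torus_not_orth {Q : (Fin 3 → F) → F} (hQ : IsNondegenerateQuadraticForm Q) {a : F} (ha : a ≠ 0)
    (ha2 : a ^ 2 ≠ 1) (ha3 : a ^ 3 ≠ 1)
    (hd : diag3 a a⁻¹ 1 (by rw [mul_one, mul_inv_cancel₀ ha]) ∈ quadSimilarityGroup Q)
    (he : diag3 a 1 a⁻¹ (by rw [mul_one, mul_inv_cancel₀ ha]) ∈ quadSimilarityGroup Q) : False :=
  ha2 (by
    have := torus_norm (isSesqui_of_bilinear hQ.polar_bilinear) hQ.nondegenerate (fun _ => rfl) ha ha2 ha3
      (mem_sim_of_quad hd) (mem_sim_of_quad he)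
    rw [pow_two]; exact this)

theorem torus_not_unitary [Fintype F] {σ : F ≃+* F} (hf : IsUnitaryForm σ f) {a : Fˣ}
    (hgen : ∀ x : Fˣ, x ∈ Subgroup.zpowers a) (ha2 : (a : F) ^ 2 ≠ 1) (ha3 : (a : F) ^ 3 ≠ 1)
    (hd : diag3 (a : F) (a : F)⁻¹ 1 (by rw [mul_one, mul_inv_cancel₀ a.ne_zero]) ∈ similarityGroup f)
    (he : diag3 (a : F) 1 (a : F)⁻¹ (by rw [mul_one, mul_inv_cancel₀ a.ne_zero]) ∈ similarityGroup f) :
    False := by
  have h := torus_norm (isSesqui_of_unitary hf) hf.nondegenerate hf.involutive a.ne_zero ha2 ha3 hd he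
  replace h : (a : F) * σ (a : F) = 1 := h
  have hall : ∀ x : F, x ≠ 0 → x * σ x = 1 := by
    intro x hx
    obtain ⟨k, hk⟩ := Subgroup.mem_zpowers_iff.1 (hgen (Units.mk0 x hx))
    have hk' : (a : F) ^ k = x := by
      rw [← Units.val_zpow_eq_zpow_val, hk, Units.val_mk0]
    rw [← hk', map_zpow₀, ← mul_zpow]
    exact (congrArg (· ^ k) h).trans (one_zpow k)
  by_cases h2 : (2 : F) = 0
  · have hx : ∀ x : F, σ x = x → x = 0 ∨ x = 1 := fun x hx => by
      rcases eq_or_ne x 0 with e | e
      · exact Or.inl e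
      · right
        have h1 := hall x e
        rw [hx] at h1
        have : (x - 1) * (x - 1) = 0 := by linear_combination h1 + (1 - x) * h2
        exact sub_eq_zero.1 (mul_self_eq_zero.1 this)
    have hs : σ ((a : F) + σ a) = (a : F) + σ a := by rw [map_add, hf.involutive, add_comm]
    rcases hx _ hs with e | e
    · have : (a : F) = σ a := by linear_combination e - (σ (a : F)) * h2
      exact ha2 (by rw [pow_two]; nth_rw 2 [this]; exact h)
    · refine ha3 ?_
      have hq : (a : F) ^ 2 - (a : F) + 1 = 0 := by linear_combination (a : F) * e - h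
      linear_combination ((a : F) + 1) * hq - h2
  · obtain ⟨x, hx⟩ := Cfsg.Agent.Lib.Subspaces.UnitaryForm.exists_norm hf (r := -1) (by rw [map_neg, map_one])
    have hx0 : x ≠ 0 := fun e => by rw [e, zero_mul] at hx; exact one_ne_zero (neg_eq_zero.1 hx.symm)
    rw [hall x hx0] at hx
    exact h2 (by linear_combination hx)

end Cfsg.Agent.Lib.SL3Max93
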