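import Cfsg.Agent.Lib.SL3Max93.FieldAlg
import Cfsg.Agent.Lib.SL3Max93.Forms

/-!
An element of order `q² + q + 1` in the normaliser of a cubic subfield, and where it cannot lie.
-/

set_option autoImplicit false
set_option linter.unusedSectionVars false
set_option linter.style.haveILetI false

namespace Cfsg.Agent.Lib.SL3Max93.Singer

open Cfsg.Geo Matrix
open Cfsg.Agent.Lib.PrimeDim.Fields

variable {F : Type*} [Field F] [Fintype F] {K : Subalgebra F (Matrix (Fin 3) (Fin 3) F)}

/-- Membership in the normaliser. -/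
theorem mem_normalizer_of_mem (hK : IsFieldSubalgebra 3 K) {g : GL (Fin 3) F} (hg : g.val ∈ K) :
    g ∈ subalgebraNormalizer K := by
  have hinv : (g⁻¹ : GL (Fin 3) F).val ∈ K := by
    obtain ⟨y, hy, hgy⟩ := hK.inv g.val hg g.isUnit.ne_zero
    have : (g⁻¹ : GL (Fin 3) F).val = y := by
      calc (g⁻¹ : GL (Fin 3) F).val = (g⁻¹ : GL (Fin 3) F).val * (g.val * y) := by rw [hgy, mul_one]
        _ = y := by rw [← mul_assoc, Units.inv_mul, one_mul]
    rw [this]; exact hy
  intro k
  constructor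
  · intro hk
    exact mul_mem (mul_mem hg hk) hinv
  · intro hk
    have := mul_mem (mul_mem hinv hk) hg
    simpa [mul_assoc] using this

/-- The Singer element. -/
theorem exists_singer (hK : IsFieldSubalgebra 3 K) :
    ∃ s : GL (Fin 3) F, s.val ∈ K ∧ s ∈ SL3 F ∧
      orderOf s = Fintype.card F ^ 2 + Fintype.card F + 1 := by
  classical
  haveI : Nontrivial K :=
    ⟨⟨0, 1, fun h => zero_ne_one (congrArg Subtype.val h : (0 : Matrix (Fin 3) (Fin 3) F) = 1)⟩⟩
  have hKf : IsField K :=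
    ⟨exists_pair_ne K, fun a b => Subtype.ext (hK.comm a a.2 b b.2), fun {a} ha => by
      obtain ⟨y, hy, hxy⟩ := hK.inv a a.2 (fun h => ha (Subtype.ext h))
      exact ⟨⟨y, hy⟩, Subtype.ext hxy⟩⟩
  letI : Field K := hKf.toField
  haveI : Finite K := Module.finite_of_finite F
  set q := Fintype.card F with hq
  have hcard : Nat.card K = q ^ 3 := by
    rw [Module.natCard_eq_pow_finrank (K := F), hK.finrank_eq, Nat.card_eq_fintype_card]
  obtain ⟨γ, hγ⟩ := IsCyclic.exists_ofOrder_eq_natCard (α := Kˣ)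
  rw [Nat.card_units, hcard] at hγ
  let ι : Kˣ →* GL (Fin 3) F := Units.map (K.val : K →ₐ[F] Matrix (Fin 3) (Fin 3) F).toMonoidHom
  have hι : Function.Injective ι := Units.map_injective Subtype.val_injective
  refine ⟨ι (γ ^ (q - 1)), (γ ^ (q - 1) : Kˣ).val.2, mem_SL3.2 ?_, ?_⟩
  · rw [map_pow, Units.val_pow_eq_pow_val, Matrix.det_pow]
    exact FiniteField.pow_card_sub_one_eq_one _ ((Matrix.isUnit_iff_isUnit_det _).mp (ι γ).isUnit).ne_zero
  · have h1 : 2 ≤ q := Fintype.one_lt_card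
    rw [orderOf_injective ι hι, orderOf_pow, hγ]
    have h2 : q ^ 3 - 1 = (q - 1) * (q ^ 2 + q + 1) := by
      obtain ⟨k, hk⟩ : ∃ k, q = k + 1 := ⟨q - 1, by omega⟩
      rw [hk]; simp; ring_nf; omega
    rw [h2, Nat.gcd_eq_right (dvd_mul_right _ _), Nat.mul_div_cancel_left _ (by omega)]

theorem pow_three_of_scalar {x : GL (Fin 3) F} (hx : x ∈ SL3 F) {l : F} (h : x.val = l • 1) : x ^ 3 = 1 := by
  have hd := mem_SL3.1 hx
  rw [h, Matrix.det_smul, Matrix.det_one, mul_one, Fintype.card_fin] at hd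
  refine Units.ext ?_
  rw [Units.val_pow_eq_pow_val, h, smul_pow, one_pow, hd, one_smul, Units.val_one]

section facts

variable {s : GL (Fin 3) F} (hs : s.val ∈ K) (hsS : s ∈ SL3 F)
  (hord : orderOf s = Fintype.card F ^ 2 + Fintype.card F + 1)

include hs hsS hord

/-- A power with an eigenvector has small exponent. -/
theorem dvd_of_eigen (hK : IsFieldSubalgebra 3 K) {k : ℕ} {v : Fin 3 → F} (hv : v ≠ 0) {l : F}
    (h : (s ^ k).val *ᵥ v = l • v) : Fintype.card F ^ 2 + Fintype.card F + 1 ∣ 3 * k := by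
  have hmem : (s ^ k).val ∈ K := by rw [Units.val_pow_eq_pow_val]; exact pow_mem hs k
  have h3 := pow_three_of_scalar (pow_mem hsS k) (FieldAlg.scalar_of_mem hK hmem hv h)
  rw [← hord]
  refine orderOf_dvd_of_pow_eq_one ?_
  rw [mul_comm, pow_mul]; exact h3

theorem irred (hK : IsFieldSubalgebra 3 K) {H : Subgroup (GL (Fin 3) F)} (hsH : s ∈ H) :
    Cfsg.Agent.Lib.PrimeDim.Basic.Irred H := by
  intro W hW
  refine or_iff_not_imp_left.2 fun hb => eq_top_iff.2 fun w _ => ?_
  obtain ⟨v, hv, hv0⟩ := Submodule.exists_mem_ne_zero_of_ne_bot hb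
  let S : Subalgebra F (Matrix (Fin 3) (Fin 3) F) :=
    { carrier := {k | ∀ x ∈ W, k *ᵥ x ∈ W}
      mul_mem' := fun {a b} ha hb x hx => by rw [← Matrix.mulVec_mulVec]; exact ha _ (hb x hx)
      add_mem' := fun {a b} ha hb x hx => by rw [Matrix.add_mulVec]; exact W.add_mem (ha x hx) (hb x hx)
      algebraMap_mem' := fun c x hx => by
        rw [Algebra.algebraMap_eq_smul_one, Matrix.smul_mulVec, Matrix.one_mulVec]; exact W.smul_mem c hx }
  have hns : ∀ c : F, s.val ≠ c • 1 := fun c e => by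
    have := dvd_of_eigen hs hsS hord hK (k := 1) hv0 (l := c)
      (by rw [pow_one, e, Matrix.smul_mulVec, Matrix.one_mulVec])
    have := Nat.le_of_dvd (by norm_num) this
    nlinarith [Fintype.one_lt_card (α := F)]
  obtain ⟨k, hk, rfl⟩ := FieldAlg.exists_apply hK hv0 w
  exact FieldAlg.le_of_nonscalar hK hs hns (S := S) (hW s hsH) hk v hv

theorem not_subfield (hK : IsFieldSubalgebra 3 K) (h4 : Fintype.card F ≠ 4) {F₁ : Subfield F} {r : ℕ}
    (hr : r.Prime) (hc : Fintype.card F = Nat.card F₁ ^ r) {P : GL (Fin 3) F}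
    (h : s ∈ subfieldSubgroup F₁ P) : False := by
  classical
  set q := Fintype.card F with hq
  set x := s ^ (q - 1) with hx
  have hent := entries_pow h
  have hent' : ∀ i : ℕ, ∀ a b, (P⁻¹ * x ^ i * P).val a b ∈ F₁ := by
    intro i
    induction i with
    | zero =>
      intro a b
      rw [pow_zero, mul_one, inv_mul_cancel, Units.val_one, Matrix.one_apply]
      split_ifs
      · exact F₁.one_mem
      · exact F₁.zero_mem
    | succ i ih =>
      intro a b
      rw [pow_succ, show P⁻¹ * (x ^ i * x) * P = (P⁻¹ * x ^ i * P) * (P⁻¹ * x * P) by group, Units.val_mul,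
        Matrix.mul_apply]
      exact Subfield.sum_mem _ fun c _ => F₁.mul_mem (ih a c) (hent c b)
  let ψ : Fin (orderOf x) → (Fin 3 → F₁) := fun i a => ⟨_, hent' i a 0⟩
  have hψ : Function.Injective ψ := by
    intro i j e
    refine Fin.ext (pow_injOn_Iio_orderOf i.isLt j.isLt (Units.ext ?_))
    have hcol : ((x ^ (i : ℕ)).val - (x ^ (j : ℕ)).val) *ᵥ (P.val *ᵥ Pi.single 0 1) = 0 := by
      have h1 : (P⁻¹ * x ^ (i : ℕ) * P).val *ᵥ Pi.single 0 1 = (P⁻¹ * x ^ (j : ℕ) * P).val *ᵥ Pi.single 0 1 := by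
        rw [Matrix.mulVec_single_one, Matrix.mulVec_single_one]
        funext a
        exact congrArg Subtype.val (congrFun e a)
      have h2 := congrArg (fun v => P.val *ᵥ v) h1
      simp only [Units.val_mul, ← Matrix.mulVec_mulVec, Cfsg.Agent.Lib.PrimeDim.Basic.mulVec_inv_cancel] at h2
      rw [Matrix.sub_mulVec, h2, sub_self]
    have hmem : ∀ n : ℕ, (x ^ n).val ∈ K := fun n => by
      rw [hx, ← pow_mul, Units.val_pow_eq_pow_val]; exact pow_mem hs _
    have hv : P.val *ᵥ (Pi.single 0 1 : Fin 3 → F) ≠ 0 := fun e0 => by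
      have := congrArg (fun v => (P⁻¹).val *ᵥ v) e0
      simp only [Cfsg.Agent.Lib.PrimeDim.Basic.inv_mulVec_cancel, Matrix.mulVec_zero] at this
      simp at this
    have := FieldAlg.scalar_of_mem hK (sub_mem (hmem i) (hmem j)) hv (l := 0) (by rw [hcol, zero_smul])
    rw [zero_smul, sub_eq_zero] at this
    exact this
  have hle := Nat.card_le_card_of_injective ψ hψ
  rw [Nat.card_fin, Nat.card_fun, Nat.card_fin] at hle
  set m := q ^ 2 + q + 1 with hm
  have hq2 : 2 ≤ q := Fintype.one_lt_card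
  have hdvd : m ∣ Nat.gcd m (q - 1) * orderOf x := by
    rw [← Nat.gcd_mul_right]
    refine Nat.dvd_gcd (dvd_mul_right _ _) ?_
    show m ∣ _
    rw [← hord]
    exact orderOf_dvd_of_pow_eq_one (by rw [pow_mul, pow_orderOf_eq_one])
  have hg : Nat.gcd m (q - 1) ∣ 3 := by
    have e : m = (q - 1) * (q + 2) + 3 := by
      obtain ⟨k, hk⟩ : ∃ k, q = k + 1 := ⟨q - 1, by omega⟩
      rw [hm, hk]; simp; ring
    rw [e]
    refine (Nat.dvd_add_right ((Nat.gcd_dvd_right _ _).mul_right _)).1 (Nat.gcd_dvd_left _ _)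
  have hxpos : 0 < orderOf x := orderOf_pos x
  have h3 : m ≤ 3 * orderOf x := (Nat.le_of_dvd (Nat.mul_pos (Nat.gcd_pos_of_pos_left _ (by omega)) hxpos) hdvd).trans
    (Nat.mul_le_mul_right _ (Nat.le_of_dvd (by norm_num) hg))
  have h0 := card_subfield_ge F₁
  have hq0 : Nat.card F₁ ^ 2 ≤ q := hc ▸ Nat.pow_le_pow_right (by omega) hr.two_le
  obtain e | e := eq_or_lt_of_le h0
  · rw [← e] at hle hc
    obtain rfl | h5 := eq_or_lt_of_le hr.two_le
    · exact h4 (by rw [hc]; rfl)
    · have h8 : 8 ≤ q := hc ▸ Nat.pow_le_pow_right (show 1 ≤ 2 by norm_num) (show 3 ≤ r from h5)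
      nlinarith
  · nlinarith [pow_le_pow_left₀ (Nat.zero_le _) hq0 2, Nat.mul_le_mul_left (Nat.card F₁ ^ 3) e]

theorem not_orth (hK : IsFieldSubalgebra 3 K) {Q : (Fin 3 → F) → F} (hQ : IsNondegenerateQuadraticForm Q)
    (h : s ∈ quadSimilarityGroup Q) : False := by
  have hf := isSesqui_of_bilinear hQ.polar_bilinear
  obtain ⟨c, hc⟩ := gram_eq hf (mem_sim_of_quad h)
  set G := gramMatrix (QuadraticMap.polar Q)
  have hG : G.det ≠ 0 := hf.det_ne_zero Function.bijective_id hQ.nondegenerate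
  have hmap : ∀ M : Matrix (Fin 3) (Fin 3) F, M.map (RingHom.id F) = M := fun M => by ext; simp
  rw [hmap] at hc
  have hc3 : c ^ 3 = 1 := by
    have := congrArg Matrix.det hc
    rw [Matrix.det_mul, Matrix.det_mul, Matrix.det_transpose, mem_SL3.1 hsS, Matrix.det_smul,
      Fintype.card_fin, one_mul, mul_one] at this
    exact (mul_eq_right₀ hG).1 this.symm
  have hx : (s ^ 3).valᵀ * G * (s ^ 3).val = G := by
    calc (s ^ 3).valᵀ * G * (s ^ 3).val = s.valᵀ * (s.valᵀ * (s.valᵀ * G * s.val) * s.val) * s.val := by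
          rw [Units.val_pow_eq_pow_val, Matrix.transpose_pow]
          simp [pow_succ, mul_assoc]
      _ = c ^ 3 • G := by
          rw [hc, Matrix.mul_smul, Matrix.smul_mul, hc, smul_smul, Matrix.mul_smul, Matrix.smul_mul, hc, smul_smul]
          ring_nf
      _ = G := by rw [hc3, one_smul]
  have hdx : (s ^ 3).val.det = 1 := mem_SL3.1 (pow_mem hsS 3)
  have hdet : ((s ^ 3).val - 1).det = 0 := by
    set x := (s ^ 3).val
    have e : xᵀ * G * (x - 1) = (1 - x)ᵀ * G := by
      rw [Matrix.mul_sub, hx, mul_one, Matrix.transpose_sub, Matrix.transpose_one, Matrix.sub_mul, one_mul]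
    have hd := congrArg Matrix.det e
    rw [Matrix.det_mul, Matrix.det_mul, Matrix.det_mul, Matrix.det_transpose, Matrix.det_transpose, hdx, one_mul,
      show (1 - x) = -(x - 1) by abel, Matrix.det_neg, Fintype.card_fin] at hd
    have h2 : (2 : F) ≠ 0 :=
      Cfsg.Agent.Lib.Subspaces.OrthForm.two_ne_zero_of_odd (odd_card_of_quadratic (by simp [Nat.odd_iff]) hQ)
    have : (2 * G.det) * (x - 1).det = 0 := by linear_combination hd
    exact (mul_eq_zero.1 this).resolve_left (mul_ne_zero h2 hG)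
  obtain ⟨v, hv0, hv⟩ := Matrix.exists_mulVec_eq_zero_iff.2 hdet
  have hq := Fintype.one_lt_card (α := F)
  have hdvd := dvd_of_eigen hs hsS hord hK hv0 (l := 1) (k := 3)
    (by rw [one_smul]; rwa [Matrix.sub_mulVec, Matrix.one_mulVec, sub_eq_zero] at hv)
  have hle : Fintype.card F ≤ 2 := by nlinarith [Nat.le_of_dvd (by norm_num) hdvd]
  rw [show Fintype.card F = 2 by omega] at hdvd
  norm_num at hdvd

theorem not_unitary (hK : IsFieldSubalgebra 3 K) (h4 : Fintype.card F ≠ 4) {σ : F ≃+* F}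
    {f : (Fin 3 → F) → (Fin 3 → F) → F} (hf : IsUnitaryForm σ f) (h : s ∈ similarityGroup f) : False := by
  classical
  have hs' := isSesqui_of_unitary hf
  obtain ⟨c, hc⟩ := gram_eq hs' h
  set G := gramMatrix f
  have hG : G.det ≠ 0 := hs'.det_ne_zero σ.bijective hf.nondegenerate
  set τ : F →+* F := (σ : F →+* F)
  have hdetmap : ∀ M : Matrix (Fin 3) (Fin 3) F, (M.map τ).det = τ M.det := fun M => (τ.map_det M).symm
  have hττ : ∀ a, τ (τ a) = a := hf.involutive
  have hc3 : c ^ 3 = 1 := by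
    have := congrArg Matrix.det hc
    rw [Matrix.det_mul, Matrix.det_mul, Matrix.det_transpose, hdetmap, mem_SL3.1 hsS, map_one, Matrix.det_smul,
      Fintype.card_fin, one_mul, mul_one] at this
    exact (mul_eq_right₀ hG).1 this.symm
  set x := s ^ 3 with hxd
  have hxK : x.val ∈ K := by rw [hxd, Units.val_pow_eq_pow_val]; exact pow_mem hs 3
  have hmappow : (s ^ 3).val.map τ = s.val.map τ * (s.val.map τ * s.val.map τ) := by
    rw [← Matrix.map_mul, ← Matrix.map_mul, ← Units.val_mul, ← Units.val_mul,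
      show s ^ 3 = s * (s * s) by rw [pow_succ', pow_two]]
  have hx : x.valᵀ * G * x.val.map τ = G := by
    calc x.valᵀ * G * x.val.map τ
        = s.valᵀ * (s.valᵀ * (s.valᵀ * G * s.val.map τ) * s.val.map τ) * s.val.map τ := by
          rw [hxd, hmappow, Units.val_pow_eq_pow_val, Matrix.transpose_pow]
          simp [pow_succ, mul_assoc]
      _ = c ^ 3 • G := by
          rw [hc, Matrix.mul_smul, Matrix.smul_mul, hc, smul_smul, Matrix.mul_smul, Matrix.smul_mul, hc, smul_smul]
          ring_nf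
      _ = G := by rw [hc3, one_smul]
  have hGm : G.map τ = Gᵀ := by ext i j; exact (hf.herm _ _).symm
  have hGu : IsUnit Gᵀ := (Matrix.isUnit_iff_isUnit_det _).2 (by rw [Matrix.det_transpose]; exact hG.isUnit)
  obtain ⟨T, hT⟩ := hGu
  let ψ : Matrix (Fin 3) (Fin 3) F → Matrix (Fin 3) (Fin 3) F := fun k => T⁻¹.val * (k.map τ)ᵀ * T.val
  have hψmul : ∀ a b, ψ (a * b) = ψ b * ψ a := fun a b => by
    simp only [ψ, Matrix.map_mul, Matrix.transpose_mul]
    simp [mul_assoc]
  have hψx : ψ x.val = (x⁻¹ : GL (Fin 3) F).val := by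
    have e : (x.val.map τ)ᵀ * (T.val * x.val) = T.val := by
      have := congrArg Matrix.transpose hx
      rw [Matrix.transpose_mul, Matrix.transpose_mul, Matrix.transpose_transpose, ← hT] at this
      exact this
    calc ψ x.val = T⁻¹.val * ((x.val.map τ)ᵀ * (T.val * x.val)) * (x⁻¹ : GL (Fin 3) F).val := by
          simp [ψ, mul_assoc]
      _ = (x⁻¹ : GL (Fin 3) F).val := by rw [e, Units.inv_mul, one_mul]
  have hψψ : ∀ k, ψ (ψ k) = k := fun k => by
    have hTm : T.val.map τ = G := by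
      rw [hT, Matrix.transpose_map, hGm, Matrix.transpose_transpose]
    have hTim : ((T⁻¹).val.map τ) * G = 1 := by
      rw [← hTm, ← Matrix.map_mul, Units.inv_mul, Matrix.map_one _ (map_zero τ) (map_one τ)]
    have hTimt : Gᵀ * ((T⁻¹).val.map τ)ᵀ = 1 := by rw [← Matrix.transpose_mul, hTim, Matrix.transpose_one]
    have h1 : ((T⁻¹).val.map τ)ᵀ = T⁻¹.val := by
      rw [← hT] at hTimt
      calc ((T⁻¹).val.map τ)ᵀ = T⁻¹.val * (T.val * ((T⁻¹).val.map τ)ᵀ) := by rw [← mul_assoc, Units.inv_mul, one_mul]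
        _ = T⁻¹.val := by rw [hTimt, mul_one]
    simp only [ψ, Matrix.map_mul, Matrix.transpose_mul]
    rw [hTm, h1, ← hT]
    have h2 : ((k.map τ)ᵀ.map τ)ᵀ = k := by ext i j; simp [hττ]
    rw [h2]
    simp [mul_assoc]
  have hns : ∀ c : F, x.val ≠ c • 1 := fun d e => by
    have := dvd_of_eigen hs hsS hord hK (k := 3) (v := Pi.single 0 1) (by simp) (l := d)
      (by rw [← hxd, e, Matrix.smul_mulVec, Matrix.one_mulVec])
    have h9 := Nat.le_of_dvd (by norm_num) this
    have hq : Fintype.card F ≤ 2 := by nlinarith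
    rw [show Fintype.card F = 2 by have := Fintype.one_lt_card (α := F); omega] at this
    norm_num at this
  have hψK : ∀ k ∈ K, ψ k ∈ K := fun k hk => by
    refine FieldAlg.mem_of_commute hK fun y hy => ?_
    have hle : K ≤ Subalgebra.centralizer F {ψ k} := FieldAlg.le_of_nonscalar hK hxK hns (by
      rw [Subalgebra.mem_centralizer_iff]
      intro z hz
      rw [Set.mem_singleton_iff] at hz
      subst hz
      have hc : ψ k * (x⁻¹ : GL (Fin 3) F).val = (x⁻¹ : GL (Fin 3) F).val * ψ k := by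
        rw [← hψx, ← hψmul, ← hψmul, hK.comm _ hxK _ hk]
      calc ψ k * x.val = x.val * ((x⁻¹ : GL (Fin 3) F).val * ψ k) * x.val := by rw [← mul_assoc, Units.mul_inv, one_mul]
        _ = x.val * ψ k := by rw [← hc]; simp [mul_assoc])
    exact (Subalgebra.mem_centralizer_iff F).1 (hle hy) _ rfl
  haveI : Nontrivial K :=
    ⟨⟨0, 1, fun h => zero_ne_one (congrArg Subtype.val h : (0 : Matrix (Fin 3) (Fin 3) F) = 1)⟩⟩
  have hKf : IsField K :=
    ⟨exists_pair_ne K, fun a b => Subtype.ext (hK.comm a a.2 b b.2), fun {a} ha => by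
      obtain ⟨y, hy, hxy⟩ := hK.inv a a.2 (fun h => ha (Subtype.ext h))
      exact ⟨⟨y, hy⟩, Subtype.ext hxy⟩⟩
  letI : Field K := hKf.toField
  haveI : Finite K := Module.finite_of_finite F
  let φ : K →+* K :=
    { toFun := fun k => ⟨ψ k.1, hψK _ k.2⟩
      map_one' := Subtype.ext (by simp [ψ, Matrix.map_one τ (map_zero τ) (map_one τ)])
      map_mul' := fun a b => Subtype.ext (by
        show ψ (a.1 * b.1) = ψ a.1 * ψ b.1
        rw [hψmul]
        exact hK.comm _ (hψK _ b.2) _ (hψK _ a.2))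
      map_zero' := Subtype.ext (by simp [ψ])
      map_add' := fun a b => Subtype.ext (by
        simp [ψ, Matrix.map_add τ (map_add τ), mul_add, add_mul]) }
  set K0 : Subfield K := φ.eqLocusField (RingHom.id K)
  have hmem0 : ∀ k, k ∈ K0 ↔ φ k = k := fun k => Iff.rfl
  set z : K := ⟨x.val, hxK⟩
  have hz : z * φ z = 1 := Subtype.ext (by
    show x.val * ψ x.val = 1
    rw [hψx, Units.mul_inv])
  have hord' : ∀ n : ℕ, z ^ n = 1 → Fintype.card F ^ 2 + Fintype.card F + 1 ∣ 3 * n := fun n hn => by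
    have : s ^ (3 * n) = 1 := by
      refine Units.ext ?_
      rw [pow_mul, ← hxd, Units.val_pow_eq_pow_val, Units.val_one]
      exact congrArg Subtype.val hn
    rw [← hord]; exact orderOf_dvd_of_pow_eq_one this
  have hm6 : z ^ 2 ≠ 1 := fun e => by
    have := hord' 2 e
    have h6 := Nat.le_of_dvd (by norm_num) this
    nlinarith [Fintype.one_lt_card (α := F)]
  have hzK : φ z ≠ z := fun e => hm6 (by rw [pow_two]; nth_rw 2 [← e]; exact hz)
  have hφφ : ∀ k, φ (φ k) = k := fun k => Subtype.ext (hψψ k.1)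
  set d := z - φ z
  have hd0 : d ≠ 0 := sub_ne_zero.2 (Ne.symm hzK)
  let e : K0 × K0 → K := fun ab => (ab.1 : K) + (ab.2 : K) * z
  have he : Function.Bijective e := by
    refine ⟨fun ab cd h => ?_, fun k => ?_⟩
    · have h' := congrArg φ h
      simp only [e, map_add, map_mul, (hmem0 _).1 (SetLike.coe_mem _)] at h h'
      have hb : ((ab.2 : K) - cd.2) * d = 0 := by linear_combination h - h'
      have hb' := sub_eq_zero.1 ((mul_eq_zero.1 hb).resolve_right hd0)
      refine Prod.ext (Subtype.ext ?_) (Subtype.ext hb')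
      rw [hb'] at h
      exact add_right_cancel h
    · have hb : (k - φ k) * d⁻¹ ∈ K0 := by
        rw [hmem0, map_mul, map_inv₀, map_sub, hφφ, map_sub, hφφ, show φ z - z = -d by ring, inv_neg]
        ring
      have ha : k - (k - φ k) * d⁻¹ * z ∈ K0 := by
        rw [hmem0, map_sub, map_mul, (hmem0 _).1 hb]
        have : (k - φ k) * d⁻¹ * d = k - φ k := by rw [mul_assoc, inv_mul_cancel₀ hd0, mul_one]
        linear_combination this
      exact ⟨⟨⟨_, ha⟩, ⟨_, hb⟩⟩, by simp [e]⟩
  have hk0 : Nat.card K0 ^ 2 = Fintype.card F ^ 3 := by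
    rw [pow_two, ← Nat.card_prod, Nat.card_eq_of_bijective e he, Module.natCard_eq_pow_finrank (K := F),
      hK.finrank_eq, Nat.card_eq_fintype_card]
  obtain ⟨p, f', _, _, hf0, hKp⟩ := Cfsg.Agent.Lib.PrimeDim.Fields.exists_char_card (F := F)
  letI : Fintype K := Fintype.ofFinite K
  have hfrob : ∀ k ∈ K0, k ^ Nat.card K0 = k := fun k hk => by
    letI : Fintype K0 := Fintype.ofFinite K0
    have := FiniteField.pow_card (⟨k, hk⟩ : K0)
    rw [← Nat.card_eq_fintype_card] at this
    exact congrArg Subtype.val this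
  obtain ⟨χ, hχ, -⟩ := Cfsg.Agent.Lib.TransvThree.exists_frob K0
  have hsum : z + φ z ∈ K0 := by rw [hmem0, map_add, hφφ, add_comm]
  set w := χ z
  have hw : w * w - (z + φ z) * w + 1 = 0 := by
    have h1 : z * z - (z + φ z) * z + 1 = 0 := by linear_combination -hz
    have h2 := congrArg χ h1
    rw [map_add, map_sub, map_mul, map_mul, map_one, map_zero] at h2
    have h3 : χ (z + φ z) = z + φ z := by rw [hχ]; exact hfrob _ hsum
    rw [h3] at h2
    exact h2
  have hwz : (w - z) * (w - φ z) = 0 := by linear_combination hw + hz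
  have hpow : z ^ (Nat.card K0 + 1) = 1 := by
    rcases mul_eq_zero.1 hwz with h | h
    · exfalso
      have : z ∈ K0 := Cfsg.Agent.Lib.TransvThree.mem_of_pow_card K0 (by rw [← hχ]; exact sub_eq_zero.1 h)
      exact hzK ((hmem0 z).1 this)
    · rw [pow_succ, ← hχ, show χ z = φ z from sub_eq_zero.1 h, mul_comm]; exact hz
  have hfin := hord' _ hpow
  have hle := Nat.le_of_dvd (by omega) hfin
  set q := Fintype.card F
  set k0 := Nat.card K0
  have hq2 : 2 ≤ q := Fintype.one_lt_card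
  by_cases h9 : 9 ≤ q
  · have : 3 * k0 ≤ q ^ 2 := by
      by_contra hlt
      nlinarith
    omega
  · have hb : k0 ≤ 23 := by
      by_contra hlt
      have : q ^ 3 ≤ 8 ^ 3 := Nat.pow_le_pow_left (by omega) 3
      nlinarith
    have key : ∀ a < 9, ∀ b < 24, b ^ 2 = a ^ 3 → 2 ≤ a → a ^ 2 + a + 1 ≤ 3 * (b + 1) → a = 4 := by decide
    exact h4 (key q (by omega) k0 (by omega) hk0 hq2 hle)

end facts

end Cfsg.Agent.Lib.SL3Max93.Singer
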