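import Cfsg.Agent.Lib.SL3Max93.Common
import Cfsg.Agent.Lib.SL3Max93.Singer

/-!
The normaliser of a cubic field of matrices is maximal for other than four field elements.
-/

set_option autoImplicit false
set_option linter.unusedSectionVars false
set_option linter.style.haveILetI false

namespace Cfsg.Agent.Lib.SL3Max93

open Cfsg.Geo Matrix
open Cfsg.Agent.Lib.PrimeDim.Basic

variable {F : Type*} [Field F] [Fintype F]

/-- Sixth powers of members of a decomposition stabiliser fix each summand. -/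
theorem pow_six_fix {D : Fin 3 → Submodule F (Fin 3 → F)} {g : GL (Fin 3) F}
    (hg : g ∈ decompositionStabilizer D) (i : Fin 3) : (D i).map (Matrix.toLin' (g ^ 6).val) = D i := by
  obtain ⟨σ, hσ⟩ := hg
  have hn : ∀ n : ℕ, ∀ i, (D i).map (Matrix.toLin' (g ^ n).val) = D ((σ ^ n) i) := by
    intro n
    induction n with
    | zero => intro i; simp
    | succ n ih =>
      intro i
      rw [pow_succ g, Units.val_mul, Matrix.toLin'_mul, Submodule.map_comp, hσ, ih, pow_succ, Equiv.Perm.mul_apply]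
  rw [hn]
  have h6 : σ ^ 6 = 1 := by
    have h := pow_card_eq_one (x := σ)
    rwa [Fintype.card_perm, Fintype.card_fin] at h
  rw [h6, Equiv.Perm.one_apply]

/-- The Singer member is maximal. -/
theorem field_maximal (hRes : Res F) (h4 : Fintype.card F ≠ 4) {K : Subalgebra F (Matrix (Fin 3) (Fin 3) F)}
    (hK : IsFieldSubalgebra 3 K) : IsMaximalIn (SL3 F) (subalgebraNormalizer K ⊓ SL3 F) := by
  classical
  refine member_maximal (Cfsg.Agent.Lib.PrimeDim.Proper.not_le_subalgebraNormalizer card_three (by norm_num) hK)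
    fun L hL hle => ?_
  obtain ⟨s, hs, hsS, hord⟩ := Singer.exists_singer hK
  have hsH : s ∈ subalgebraNormalizer K ⊓ SL3 F := ⟨Singer.mem_normalizer_of_mem hK hs, hsS⟩
  have hsL : s ∈ L := hle hsH
  set q := Fintype.card F
  set m := q ^ 2 + q + 1 with hm
  have hq2 : 2 ≤ q := Fintype.one_lt_card
  have hns : ∀ c : F, (s ^ 3).val ≠ c • 1 := fun c e => by
    have hdv := Singer.dvd_of_eigen hs hsS hord hK (k := 3) (v := Pi.single 0 1) (by simp) (l := c)
      (by rw [e, Matrix.smul_mulVec, Matrix.one_mulVec])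
    have hle9 := Nat.le_of_dvd (by norm_num) hdv
    have hq : q ≤ 2 := by nlinarith
    have key : ∀ n ≤ 2, 2 ≤ n → ¬ n ^ 2 + n + 1 ∣ 3 * 3 := by decide
    exact key q hq hq2 hdv
  rcases Cfsg.Agent.S5775.result L hL with ⟨W, hb, ht, rfl⟩ | ⟨-, D, hD, rfl⟩ | ⟨-, K', hK', rfl⟩ |
    ⟨F₁, r, Q, hr, hc, rfl⟩ | ⟨p, R, hp, hFp, hp3, hR, rfl⟩ | ⟨-, Q, hQ, rfl⟩ | ⟨σ, f, hf, rfl⟩ | hres
  · exact absurd (hle.trans inf_le_left) (not_le_stab (Singer.irred hs hsS hord hK hsH) hb ht)
  · exfalso
    have hne : D 0 ≠ ⊥ := fun e => by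
      have := hD.finrank_eq 0
      rw [e, finrank_bot] at this
      exact zero_ne_one this
    obtain ⟨v, hv, hv0⟩ := Submodule.exists_mem_ne_zero_of_ne_bot hne
    have hspan : D 0 = Submodule.span F {v} :=
      (Submodule.eq_of_le_of_finrank_le ((Submodule.span_singleton_le_iff_mem _ _).mpr hv)
        (by rw [hD.finrank_eq, finrank_span_singleton hv0])).symm
    have hmem : (s ^ 6).val *ᵥ v ∈ Submodule.span F {v} := hspan ▸ (pow_six_fix hsL.1 0).le ⟨v, hv, rfl⟩
    obtain ⟨l, hl⟩ := Submodule.mem_span_singleton.mp hmem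
    have hdvd : m ∣ 18 := Singer.dvd_of_eigen hs hsS hord hK hv0 hl.symm
    have hq4 : q < 4 := by
      have := Nat.le_of_dvd (by norm_num) hdvd
      nlinarith
    have key : ∀ n < 4, 2 ≤ n → ¬ n ^ 2 + n + 1 ∣ 18 := by decide
    exact key q hq4 hq2 hdvd
  · have h3 : (s ^ 3).val ∈ K' := FieldAlg.pow_three_mem hK' hsL.1
    have hsK : (s ^ 3).val ∈ K := by rw [Units.val_pow_eq_pow_val]; exact pow_mem hs 3
    have hKK : K = K' := le_antisymm (FieldAlg.le_of_nonscalar hK hsK hns h3) (FieldAlg.le_of_nonscalar hK' h3 hns hsK)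
    exact le_of_eq (by rw [hKK])
  · exact (Singer.not_subfield hs hsS hord hK h4 hr hc hsL.1).elim
  · exfalso
    have hd : m ∣ 648 := by
      show m ∣ _
      rw [← hord]
      exact (Subgroup.orderOf_dvd_natCard (subgroupNormalizer R ⊓ SL3 F) hsL).trans (Symp.setup_of hR).card_dvd
    have hq : q < 26 := by
      have := Nat.le_of_dvd (by norm_num) hd
      nlinarith
    have key : ∀ n < 26, 2 ≤ n → ¬ n ^ 2 + n + 1 ∣ 648 := by decide
    exact key q hq hq2 hd
  · exact (Singer.not_orth hs hsS hord hK hQ hsL.1).elim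
  · exact (Singer.not_unitary hs hsS hord hK h4 hf hsL.1).elim
  · exfalso
    obtain ⟨P₁, p, hI⟩ := hRes.data hL hres
    have hp := hI.prime
    have hT : Subgroup.zpowers s ≤ L := (Subgroup.zpowers_le).mpr hsL
    rcases hI.bound hT with ⟨hd, hF, h2, h7⟩ | ⟨hd, hcase⟩
    · rw [Nat.card_zpowers, hord] at hd
      change q = p at hF
      rw [← hF] at h2 h7 hp
      have hq : q < 32 := by
        have := Nat.le_of_dvd (by norm_num) hd
        nlinarith
      have key : ∀ n < 32, 2 ≤ n → n ≠ 2 → n ≠ 4 → ¬ n ^ 2 + n + 1 ∣ 1008 := by decide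
      exact key q hq hq2 h2 h4 hd
    · rw [Nat.card_zpowers, hord] at hd
      have hq : q < 66 := by
        have := Nat.le_of_dvd (by norm_num) hd
        nlinarith
      have key : ∀ n < 66, 2 ≤ n → n ≠ 4 → n ^ 2 + n + 1 ∣ 4320 → n = 2 := by decide
      have hq2' : q = 2 := key q hq hq2 h4 hd
      rcases hcase with ⟨hF, h15⟩ | ⟨hF, h3, h25⟩
      · change q = p at hF
        omega
      · change q = p ^ 2 at hF
        nlinarith [hp.two_le]

end Cfsg.Agent.Lib.SL3Max93
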