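import Cfsg.Agent.Lib.SL3Max93.Common

/-!
The subfield member is maximal.
-/

set_option autoImplicit false
set_option linter.unusedSectionVars false
set_option linter.style.haveILetI false

namespace Cfsg.Agent.Lib.SL3Max93

open Cfsg.Geo Matrix
open Cfsg.Agent.Lib.PrimeDim.Basic

variable {F : Type*} [Field F] [Fintype F]

/-- Unitriangular elements of a residual maximal subgroup. -/
theorem InRes.unip {L P T : Subgroup (GL (Fin 3) F)} {p : ℕ} (h : InRes L P p) (hq : 3 ≤ Fintype.card F)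
    (hTU : T ≤ uniTri F) (hTL : T ≤ L) (h1 : 1 < Nat.card T) :
    Fintype.card F = 4 ∧ p = 2 ∧ Nat.card T ∣ 4320 := by
  haveI := Fact.mk h.prime
  haveI := h.char
  obtain ⟨n, -, hn⟩ := FiniteField.card F p
  obtain ⟨k, hk⟩ := IsPGroup.iff_card.mp (isPGroup_uniTri hn hq hTU)
  refine h.p_part hTL ?_
  rw [hk]
  refine dvd_pow_self p fun e => ?_
  rw [hk, e, pow_zero] at h1
  exact lt_irrefl 1 h1

theorem low_mem_SL (a b c : F) : low a b c ∈ SL3 F := mk1_mem _ _
theorem upp_mem_SL (a b c : F) : upp a b c ∈ SL3 F := mk1_mem _ _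

/-- An element of order seven in every subfield group in characteristic two. -/
def comp7 : GL (Fin 3) F := mk1 !![0, 0, 1; 1, 0, 1; 0, 1, 0] (by simp [Matrix.det_fin_three])

theorem orderOf_comp7 (h2 : (2 : F) = 0) : orderOf (comp7 : GL (Fin 3) F) = 7 := by
  haveI := Fact.mk (show Nat.Prime 7 by norm_num)
  refine orderOf_eq_prime (Units.ext ?_) fun e => ?_
  · set M := (comp7 : GL (Fin 3) F).val with hM
    have h3 : M * M * M = M + 1 := by
      ext i j
      fin_cases i <;> fin_cases j <;> simp [hM, comp7, Matrix.mul_apply, Fin.sum_univ_three]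
    rw [Units.val_pow_eq_pow_val, ← hM, Units.val_one]
    have e7 : M ^ 7 = (M * M * M) * (M * M * M) * M := by simp [pow_succ, mul_assoc]
    rw [e7, h3]
    have e : (M + 1) * (M + 1) * M = M * M * M + (2 : F) • (M * M) + M := by
      rw [two_smul]; noncomm_ring
    rw [e, h3, h2, zero_smul, add_zero, add_right_comm, ← two_smul F M, h2, zero_smul, zero_add]
  · have := congrArg (fun g : GL (Fin 3) F => g.val 0 0) e
    simp [comp7] at this

/-- The subfield member is maximal. -/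
theorem subfield_maximal (hRes : Res F) {F₀ : Subfield F} {r : ℕ} (P : GL (Fin 3) F) (hr : r.Prime)
    (hc : Fintype.card F = Nat.card F₀ ^ r) : IsMaximalIn (SL3 F) (subfieldSubgroup F₀ P ⊓ SL3 F) := by
  classical
  have hne := subfield_ne_top hr hc
  refine isMaximalIn_conj P (H := subfieldSubgroup F₀ 1 ⊓ SL3 F) (by rw [conj_inf, subfield_conj])
    (member_maximal (Cfsg.Agent.Lib.PrimeDim.Proper.not_le_subfieldSubgroup
      (by rw [Fintype.card_fin]; exact Nat.prime_three) hne 1) fun L hL hle => ?_)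
  have h0 : 2 ≤ Nat.card F₀ := card_subfield_ge F₀
  have hq : 4 ≤ Fintype.card F := by
    rw [hc]
    exact le_trans (le_trans (by norm_num) (Nat.pow_le_pow_left h0 2)) (Nat.pow_le_pow_right (by omega) hr.two_le)
  have one0 : (1 : F) ∈ F₀ := F₀.one_mem
  have hU : ∀ a ∈ F₀, ∀ b ∈ F₀, ∀ c ∈ F₀, upp a b c ∈ L := fun a ha b hb c hc =>
    hle ⟨upp_mem_subStd ha hb hc, upp_mem_SL _ _ _⟩
  have hW : ∀ a ∈ F₀, ∀ b ∈ F₀, ∀ c ∈ F₀, low a b c ∈ L := fun a ha b hb c hc =>
    hle ⟨low_mem_subStd ha hb hc, low_mem_SL _ _ _⟩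
  set T := uniTri F ⊓ subfieldSubgroup F₀ 1 with hT
  have hTL : T ≤ L := fun g hg => by
    obtain ⟨a, b, c, rfl⟩ := hg.1
    exact hle ⟨hg.2, upp_mem_SL _ _ _⟩
  have hTu : ∀ x ∈ T, Unip x := fun x hx => unip_of_mem_uniTri hx.1
  have hT8 : 8 ≤ Nat.card T := by
    let f : F₀ × F₀ × F₀ → T := fun t =>
      ⟨upp (t.1 : F) (t.2.1 : F) (t.2.2 : F), upp_mem_uniTri _ _ _, upp_mem_subStd t.1.2 t.2.1.2 t.2.2.2⟩
    have hf : Function.Injective f := fun s t e => by
      obtain ⟨h1, h2, h3⟩ := upp_inj (congrArg Subtype.val e)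
      exact Prod.ext (Subtype.ext h1) (Prod.ext (Subtype.ext h2) (Subtype.ext h3))
    have := Nat.card_le_card_of_injective f hf
    rw [Nat.card_prod, Nat.card_prod] at this
    nlinarith [Nat.mul_le_mul h0 (Nat.mul_le_mul h0 h0)]
  rcases Cfsg.Agent.S5775.result L hL with ⟨W, hb, ht, rfl⟩ | ⟨-, D, hD, rfl⟩ | ⟨-, K, hK, rfl⟩ |
    ⟨F₁, r', Q, hr', hc', rfl⟩ | ⟨p, R, hp, hFp, hp3, hR, rfl⟩ | ⟨ho, Q, hQ, rfl⟩ | ⟨σ, f, hf, rfl⟩ | hres
  · refine absurd (hle.trans inf_le_left) (not_le_stab ?_ hb ht)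
    exact irred_roots (a := 1) (b := 1) (c := 0) (a' := 1) (b' := 1) (c' := 0) (e := 1) (e' := 1)
      ⟨upp_mem_subStd one0 one0 F₀.zero_mem, upp_mem_SL _ _ _⟩ ⟨low_mem_subStd one0 one0 F₀.zero_mem, low_mem_SL _ _ _⟩
      (Or.inr ⟨one_ne_zero, one_ne_zero⟩) (Or.inr ⟨one_ne_zero, one_ne_zero⟩) one_ne_zero one_ne_zero one_ne_zero
      one_ne_zero one_ne_zero
  · have := Nat.le_of_dvd (by norm_num) (card_unip_monomial hD (hTL.trans inf_le_left) hTu)
    omega
  · have := Nat.le_of_dvd (by norm_num) (FieldAlg.card_unip hK (hTL.trans inf_le_left) hTu)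
    omega
  · obtain rfl := subfield_eq (le_of_roots (by omega) (fun a ha => (hU 0 F₀.zero_mem 0 F₀.zero_mem a ha).1)
      (hW 0 F₀.zero_mem 0 F₀.zero_mem 1 one0).1) hr hr' hc hc'
    exact le_of_conj (X := subfieldSubgroup F₀ 1 ⊓ SL3 F) (map_conj_one _) (g' := Q)
      (by rw [conj_inf, subfield_conj]) hle
  · exact (not_prime_of_subfield hr hp hFp hc).elim
  · exact (root_not_orth hQ (two_ne_zero_of_odd ho) one_ne_zero (hU 0 F₀.zero_mem 0 F₀.zero_mem 1 one0).1).elim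
  · exact (roots_not_unitary hf (hU 0 F₀.zero_mem 0 F₀.zero_mem 1 one0).1
      (hU 1 one0 0 F₀.zero_mem 0 F₀.zero_mem).1).elim
  · exfalso
    obtain ⟨P₁, p, hI⟩ := hRes.data hL hres
    obtain ⟨h4, hp2, -⟩ := hI.unip (T := T) (by omega) inf_le_left hTL (by omega)
    have h2 : (2 : F) = 0 := by
      subst hp2
      haveI := hI.char
      exact CharP.cast_eq_zero F 2
    have hmem : (comp7 : GL (Fin 3) F) ∈ L := hle ⟨mem_subStd fun i j => by
      fin_cases i <;> fin_cases j <;> simp [comp7], mk1_mem _ _⟩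
    rcases hI.bound (Subgroup.zpowers_le.mpr hmem) with ⟨-, hF, hne2, -⟩ | ⟨hd, -⟩
    · exact hne2 hp2
    · rw [Nat.card_zpowers, orderOf_comp7 h2] at hd
      norm_num at hd

end Cfsg.Agent.Lib.SL3Max93
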