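import Cfsg.Agent.Lib.SL3Max93.Common

/-!
The normaliser of a symplectic-type group is maximal for the prime fields with cube roots of unity.
-/

set_option autoImplicit false
set_option linter.unusedSectionVars false
set_option linter.style.haveILetI false

namespace Cfsg.Agent.Lib.SL3Max93

open Cfsg.Geo Matrix
open Cfsg.Agent.Lib.PrimeDim.Basic
open Cfsg.Agent.Lib.PrimeDim.Symplectic (scalar_comm)
open scoped commutatorElement

variable {F : Type*} [Field F] [Fintype F]

namespace Symp.Setup

variable {R : Subgroup (GL (Fin 3) F)} (h : Symp.Setup R)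
include h

theorem card_scalar_le {A : Subgroup (GL (Fin 3) F)} (hA : A ≤ R) (hs : A ≤ scalars (Fin 3) F) :
    Nat.card A ≤ 3 :=
  Nat.le_of_dvd (by norm_num) (card_scalars_dvd (hA.trans h.le) hs)

theorem nine_le_of_index {A : Subgroup R} {n : ℕ} (hdvd : A.index ∣ n) (h9 : ¬ 9 ∣ n) : 9 ≤ Nat.card A := by
  have hi := A.card_mul_index
  rw [h.card] at hi
  obtain ⟨k, hk, hk'⟩ := (Nat.dvd_prime_pow Nat.prime_three).mp
    (show A.index ∣ 3 ^ 3 from Dvd.intro_left _ hi)
  have hk1 : k ≤ 1 := by
    by_contra hne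
    exact h9 ((pow_dvd_pow 3 (by omega : 2 ≤ k)).trans (hk' ▸ hdvd))
  interval_cases k <;> rw [hk'] at hi <;> omega

theorem not_decomposition {g : GL (Fin 3) F} (hg : g ∈ subgroupNormalizer R) (hg4 : g * g * (g * g) = 1)
    (hgs : g * g ∉ scalars (Fin 3) F) {D : Fin 3 → Submodule F (Fin 3 → F)} (hD : IsMDecomposition 1 D)
    (hRD : R ≤ decompositionStabilizer D) (hgD : g ∈ decompositionStabilizer D) : False := by
  classical
  have hne : ∀ i, D i ≠ ⊥ := fun i e => by
    have := hD.finrank_eq i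
    rw [e, finrank_bot] at this
    exact zero_ne_one this
  have hinjD : Function.Injective D := hD.indep.injective hne
  choose σ hσ using fun x : R => hRD x.2
  have hmap : ∀ (a b : GL (Fin 3) F) (S : Submodule F (Fin 3 → F)),
      S.map (Matrix.toLin' (a * b).val) = (S.map (Matrix.toLin' b.val)).map (Matrix.toLin' a.val) := by
    intro a b S
    rw [← Submodule.map_comp, ← Matrix.toLin'_mul, Units.val_mul]
  let φ : R →* Equiv.Perm (Fin 3) := MonoidHom.mk' σ fun x y => Equiv.ext fun i => hinjD (by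
    rw [Equiv.Perm.mul_apply, ← hσ (x * y) i, ← hσ x, ← hσ y, ← hmap]; rfl)
  have h9 : 9 ≤ Nat.card φ.ker := h.nine_le_of_index (n := Nat.card (Equiv.Perm (Fin 3)))
    (by rw [Subgroup.index_ker]; exact Subgroup.card_subgroup_dvd_card _)
    (by rw [Nat.card_perm, Nat.card_eq_fintype_card (α := Fin 3), Fintype.card_fin]; decide)
  have hfix : ∀ a : R, a ∈ φ.ker → ∀ i, (D i).map (Matrix.toLin' a.1.val) = D i := fun a ha i => by
    rw [hσ a i, show σ a = 1 from ha, Equiv.Perm.one_apply]
  have hcomm : ∀ a b : GL (Fin 3) F, (∀ i, (D i).map (Matrix.toLin' a.val) = D i) →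
      (∀ i, (D i).map (Matrix.toLin' b.val) = D i) → a * b = b * a := by
    intro a b ha hb
    refine Units.ext (Matrix.toLin'.injective (LinearMap.ext fun v => ?_))
    have hv : v ∈ ⨆ i, D i := by rw [hD.iSup_eq_top]; trivial
    induction hv using Submodule.iSup_induction' with
    | zero => simp
    | add x y _ _ hx hy => rw [map_add, map_add, hx, hy]
    | mem i x hx =>
      obtain ⟨u, hu, hu0⟩ := Submodule.exists_mem_ne_zero_of_ne_bot (hne i)
      have hspan : D i = Submodule.span F {u} :=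
        (Submodule.eq_of_le_of_finrank_le ((Submodule.span_singleton_le_iff_mem _ _).mpr hu)
          (by rw [hD.finrank_eq, finrank_span_singleton hu0])).symm
      obtain ⟨r, rfl⟩ := Submodule.mem_span_singleton.mp (hspan ▸ hx)
      obtain ⟨l, hl⟩ := Submodule.mem_span_singleton.mp (hspan ▸ (ha i).le ⟨u, hu, rfl⟩)
      obtain ⟨m, hm⟩ := Submodule.mem_span_singleton.mp (hspan ▸ (hb i).le ⟨u, hu, rfl⟩)
      rw [Matrix.toLin'_apply] at hl hm
      simp only [map_smul, Matrix.toLin'_apply, Units.val_mul, ← Matrix.mulVec_mulVec, ← hl, ← hm,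
        Matrix.mulVec_smul, smul_smul, mul_comm]
  have hscal : φ.ker.map R.subtype ≤ scalars (Fin 3) F := by
    rintro _ ⟨a, ha, rfl⟩
    refine h.fpf hg hg4 hgs a.2 (hcomm _ _ (hfix a ha) fun i => ?_)
    obtain ⟨τ, hτ⟩ := hgD
    obtain ⟨j, rfl⟩ := τ.surjective i
    rw [← hτ j, ← hmap, R.coe_subtype, inv_mul_cancel_right, hmap, hfix a ha]
  have := h.card_scalar_le (Subgroup.map_subtype_le _) hscal
  rw [← Nat.card_congr (φ.ker.equivMapOfInjective _ R.subtype_injective).toEquiv] at this
  omega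

theorem not_field {w : F} (hw : Symp.Root w) {K : Subalgebra F (Matrix (Fin 3) (Fin 3) F)}
    (hK : IsFieldSubalgebra 3 K) (hRK : R ≤ subalgebraNormalizer K) : False := by
  classical
  set φ := (FieldAlg.autHom K).comp (Subgroup.inclusion hRK)
  have h9 : 9 ≤ Nat.card φ.ker := h.nine_le_of_index (n := 3)
    (by rw [Subgroup.index_ker]; exact (Subgroup.card_subgroup_dvd_card _).trans (dvd_of_eq (FieldAlg.card_aut hK)))
    (by norm_num)
  have hscal : φ.ker.map R.subtype ≤ scalars (Fin 3) F := by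
    rintro _ ⟨a, ha, rfl⟩
    have hmem : a.1.val ∈ K := FieldAlg.mem_of_ker hK (MonoidHom.mem_ker.mp ha)
    have h3 : a.1.val ^ 3 = 1 := by rw [← Units.val_pow_eq_pow_val, h.pow_three a.2, Units.val_one]
    set M := a.1.val with hM
    have hnz : ∀ x y : Matrix (Fin 3) (Fin 3) F, x ∈ K → x * y = 0 → x = 0 ∨ y = 0 := fun x y hx e => by
      by_cases hx0 : x = 0
      · exact Or.inl hx0
      · obtain ⟨z, hz, hxz⟩ := hK.inv x hx hx0
        exact Or.inr (by rw [← one_mul y, ← mul_eq_one_comm.mp hxz, mul_assoc, e, mul_zero])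
    have hK1 : ∀ c : F, M - c • 1 ∈ K := fun c => sub_mem hmem (K.smul_mem (one_mem K) c)
    have hmid : (M - w • 1) * (M - (w * w) • 1) = M * M + M + 1 := by
      simp only [sub_mul, mul_sub, Matrix.smul_mul, Matrix.mul_smul, one_mul, mul_one, smul_smul, smul_sub]
      rw [show w * w * w = 1 by linear_combination hw.cube, show w * w = -1 - w by linear_combination hw.eq]
      module
    have hprod : (M - (1 : F) • 1) * ((M - w • 1) * (M - (w * w) • 1)) = 0 := by
      rw [hmid, one_smul, sub_mul, one_mul, mul_add, mul_add, mul_one,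
        show M * (M * M) = 1 by rw [← h3, pow_succ', pow_two]]
      abel
    obtain ⟨c, hc⟩ : ∃ c : F, M = c • 1 := by
      rcases hnz _ _ (hK1 1) hprod with e | e
      · exact ⟨1, sub_eq_zero.mp e⟩
      rcases hnz _ _ (hK1 w) e with e | e
      · exact ⟨_, sub_eq_zero.mp e⟩
      · exact ⟨_, sub_eq_zero.mp e⟩
    have hc0 : c ≠ 0 := fun h0 => a.1.ne_zero (by rw [← hM, hc, h0, zero_smul])
    exact (mem_scalars_iff _).mpr ⟨Units.mk0 c hc0, hc⟩
  have := h.card_scalar_le (Subgroup.map_subtype_le _) hscal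
  rw [← Nat.card_congr (φ.ker.equivMapOfInjective _ R.subtype_injective).toEquiv] at this
  omega

end Symp.Setup

namespace Symp.Root

variable {w : F} (hw : Symp.Root w)
include hw

/-- Both primitive cube roots give the same group. -/
theorem group_congr {w' : F} (hw' : Symp.Root w') : hw'.group = hw.group := by
  have key : ∀ {u v : F} (hu : Symp.Root u) (hv : Symp.Root v), v = u * u → hv.group ≤ hu.group := by
    intro u v hu hv e
    rw [Symp.Root.group, Subgroup.closure_le]
    rintro x (rfl | rfl)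
    · have : hv.X = hu.X * hu.X := by
        refine Units.ext ?_
        rw [Units.val_mul, hv.val_X, hu.val_X, e]
        ext i j
        fin_cases i <;> fin_cases j <;> simp [Matrix.mul_apply, Fin.sum_univ_three] <;>
          linear_combination (0 : F) * hu.cube
      rw [this]
      exact mul_mem hu.X_mem hu.X_mem
    · exact hu.Y_mem
  have h : (w' - w) * (w' - w * w) = 0 := by
    linear_combination hw'.eq - w' * hw.eq + hw.cube
  rcases mul_eq_zero.mp h with e | e
  · obtain rfl : w' = w := sub_eq_zero.mp e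
    rfl
  · have e' : w' = w * w := sub_eq_zero.mp e
    exact le_antisymm (key hw hw' e') (key hw' hw (by rw [e']; linear_combination -w * hw.cube))

end Symp.Root

/-- The member of symplectic type is maximal. -/
theorem symp_maximal (hRes : Res F) {p : ℕ} {R₀ : Subgroup (GL (Fin 3) F)} (hp : p.Prime)
    (hF : Fintype.card F = p) (hR₀ : IsLinearSymplecticTypeData 3 R₀) :
    IsMaximalIn (SL3 F) (subgroupNormalizer R₀ ⊓ SL3 F) := by
  classical
  have h₀ := Symp.setup_of hR₀
  obtain ⟨w, hw, P, hP⟩ := Symp.exists_std h₀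
  refine isMaximalIn_conj P (H := subgroupNormalizer hw.group ⊓ SL3 F) (by rw [conj_inf, normalizer_conj, hP])
    (member_maximal (fun hle => ?_) fun L hL hle => ?_)
  · refine Cfsg.Agent.Lib.PrimeDim.Proper.not_le_normalizer Nat.prime_three le_rfl hR₀ h₀.le h₀.comm ?_
    rw [← hP, ← normalizer_conj]
    exact (map_conj_SL P).ge.trans (Subgroup.map_mono hle)
  have hGn : hw.group ≤ subgroupNormalizer hw.group := Subgroup.le_normalizer
  have hRH : hw.group ≤ subgroupNormalizer hw.group ⊓ SL3 F := le_inf hGn hw.group_le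
  have hh : Symp.Setup hw.group := by
    have e : hw.group = R₀.map (MulAut.conj P⁻¹).toMonoidHom := by
      ext x
      rw [← hP, mem_map_conj, mem_map_conj]
      simp [mul_assoc]
    obtain ⟨hX, hY⟩ := And.intro hw.X_mem hw.Y_mem
    refine ⟨hw.group_le, ?_, ?_, ?_, ?_⟩
    · refine ⟨irred_iff.mpr fun W hW => ?_, fun M hM => ?_⟩
      · have h' := irred_iff.mp h₀.abs.1 (W.map (Matrix.toLin' P.val)) (fun r hr v hv => by
          obtain ⟨u, hu, rfl⟩ := hv
          rw [← hP] at hr
          obtain ⟨g, hg, rfl⟩ := hr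
          refine ⟨g.val *ᵥ u, hW g hg u hu, ?_⟩
          simp [Matrix.mulVec_mulVec, mul_assoc])
        have hinj : Function.Injective fun W : Submodule F (Fin 3 → F) => W.map (Matrix.toLin' P.val) :=
          Submodule.map_injective_of_injective (Matrix.mulVec_injective_of_isUnit P.isUnit)
        rcases h' with e' | e'
        · exact Or.inl (hinj (e'.trans (Submodule.map_bot _).symm))
        · refine Or.inr (hinj (e'.trans ?_))
          refine (eq_top_iff.mpr fun v _ => ⟨(P⁻¹).val *ᵥ v, trivial, ?_⟩).symm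
          simp
      · obtain ⟨c, hc⟩ := h₀.abs.2 (P.val * M * (P⁻¹).val) (fun s hs => by
          obtain ⟨r, hr, rfl⟩ := mem_matrixSet.mp hs
          rw [← hP] at hr
          obtain ⟨g, hg, rfl⟩ := hr
          have hgM := hM g.val (mem_matrixSet.mpr ⟨g, hg, rfl⟩)
          simp only [MulEquiv.coe_toMonoidHom, MulAut.conj_apply, Units.val_mul, mul_assoc,
            Units.inv_mul_cancel_left]
          rw [← mul_assoc M, hgM, mul_assoc])
        refine ⟨c, ?_⟩
        have := congrArg (fun N => (P⁻¹).val * N * P.val) hc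
        simpa [mul_assoc] using this
    · rw [e, ← Subgroup.map_commutator]
      rintro _ ⟨x, hx, rfl⟩
      have hs := h₀.comm hx
      rw [MulEquiv.coe_toMonoidHom, MulAut.conj_apply, ← scalar_comm hs P⁻¹, mul_inv_cancel_right]
      exact hs
    · rw [e, Subgroup.card_map_of_injective (f := (MulAut.conj P⁻¹).toMonoidHom) (MulAut.conj P⁻¹).injective, h₀.card]
    · rw [e]
      refine Eq.trans ?_ h₀.center
      exact Nat.card_congr (Subgroup.centerCongr
        ((R₀.equivMapOfInjective (MulAut.conj P⁻¹).toMonoidHom (MulAut.conj P⁻¹).injective).symm)).toEquiv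
  have hF1 : hw.fourier ∈ L := hle ⟨hw.fourier_mem, hw.fourier_mem_SL⟩
  have hF2 : hw.fourier' ∈ L := hle ⟨hw.fourier'_mem, hw.fourier'_mem_SL⟩
  have hF4 : hw.fourier * hw.fourier * (hw.fourier * hw.fourier) = 1 := by rw [hw.fourier_sq, Symp.Root.invol_sq]
  have hFs : hw.fourier * hw.fourier ∉ scalars (Fin 3) F := hw.fourier_sq.symm ▸ Symp.Root.invol_not_scalar
  have hRL : hw.group ≤ L := hRH.trans hle
  rcases Cfsg.Agent.S5775.result L hL with ⟨W, hb, ht, rfl⟩ | ⟨h5, D, hD, rfl⟩ | ⟨h4, K, hK, rfl⟩ |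
    ⟨F₁, r', Q, hr', hc', rfl⟩ | ⟨p', R, hp', hFp, hp3, hR, rfl⟩ | ⟨ho, Q, hQ, rfl⟩ | ⟨σ', f, hf, rfl⟩ | hres
  · exact absurd (hRL.trans inf_le_left) (not_le_stab (irred_iff.mp hh.abs.1) hb ht)
  · exact (hh.not_decomposition hw.fourier_mem hF4 hFs hD (hRL.trans inf_le_left) hF1.1).elim
  · exact (hh.not_field hw hK (hRL.trans inf_le_left)).elim
  · exact (not_prime_of_subfield hr' hp hF hc').elim
  · obtain ⟨w', hw', P', hP'⟩ := Symp.exists_std (Symp.setup_of hR)
    refine le_of_conj (X := subgroupNormalizer hw.group ⊓ SL3 F) (map_conj_one _) (g' := P') ?_ hle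
    rw [conj_inf, normalizer_conj, ← hw.group_congr hw', hP']
  · exfalso
    obtain ⟨v, hv⟩ : ∃ v, Q v ≠ 0 := by
      by_contra! hall
      obtain ⟨⟨y, hy⟩, -⟩ := hQ.nondegenerate (Pi.single 0 1) (by simp)
      exact hy (by simp [QuadraticMap.polar, hall])
    obtain ⟨c, hc⟩ := (hRL.trans inf_le_left) hw.X_mem
    obtain ⟨d, hd⟩ := (hRL.trans inf_le_left) hw.Y_mem
    have e1 := hc ((cyc3 : GL (Fin 3) F).val *ᵥ v)
    rw [hd, Matrix.mulVec_mulVec, hw.X_mul_Y, Matrix.smul_mulVec, hQ.smul, ← Matrix.mulVec_mulVec, hd, hc] at e1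
    have hcd : (c : F) * (d * Q v) ≠ 0 := mul_ne_zero c.ne_zero (mul_ne_zero d.ne_zero hv)
    have : (w ^ 2 - 1) * ((c : F) * (d * Q v)) = 0 := by linear_combination e1
    refine hw.ne_one ?_
    have h2 := (mul_eq_zero.mp this).resolve_right hcd
    linear_combination hw.cube - w * h2
  · exact (not_prime_of_unitary hf.ne_refl hp hF).elim
  · exfalso
    obtain ⟨P₁, p', hI⟩ := hRes.data hL hres
    rcases hI.types with ⟨⟨e⟩, hrest⟩ | ⟨hA, -⟩
    · have hd : Nat.card hw.group ∣ 3 * 336 := (hI.card_dvd hRL).trans (mul_dvd_mul_left 3 (by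
        rw [Nat.card_congr (MulAut.congr e).toEquiv]
        exact SU3Max96.SmallAut.card_mulAut_L32))
      rw [hh.card] at hd
      norm_num at hd
    · exact hI.no_quaternion hF1 hF2 hw.fourier_conj (hw.fourier_sq.trans hw.fourier'_sq.symm) hFs hA

end Cfsg.Agent.Lib.SL3Max93
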