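import Cfsg.Agent.Lib.SL3Max93.CaseSubfield

/-!
The unitary member is maximal.
-/

set_option autoImplicit false
set_option linter.unusedSectionVars false
set_option linter.style.haveILetI false

namespace Cfsg.Agent.Lib.SL3Max93

open Cfsg.Geo Matrix
open Cfsg.Agent.Lib.PrimeDim.Basic Cfsg.Agent.Lib.PrimeDim.Fields

variable {F : Type*} [Field F]

/-- The diagonal hermitian form. -/
def dotH (σ : F ≃+* F) (u v : Fin 3 → F) : F := u ⬝ᵥ fun i => σ (v i)

theorem dotH_isUnitary {σ : F ≃+* F} (hσ : ∀ a, σ (σ a) = a) (hne : σ ≠ RingEquiv.refl F) :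
    IsUnitaryForm σ (dotH σ) := by
  refine ⟨hne, hσ, fun x y v => ?_, fun c x v => ?_, fun v w => ?_, fun v hv => ⟨?_, ?_⟩⟩
  · simp [dotH]
  · simp [dotH]
  · simp [dotH, dotProduct, Fin.sum_univ_three, hσ]; ring
  all_goals
    obtain ⟨i, hi⟩ := Function.ne_iff.mp hv
    refine ⟨Pi.single i 1, ?_⟩
    fin_cases i <;> simpa [dotH, dotProduct, Fin.sum_univ_three] using hi

theorem mem_sim_dotH {σ : F ≃+* F} {g : GL (Fin 3) F} (h : g.valᵀ * g.val.map σ = 1) :
    g ∈ similarityGroup (dotH σ) := by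
  refine ⟨1, fun u v => ?_⟩
  have e : (fun i => σ ((g.val *ᵥ v) i)) = g.val.map σ *ᵥ fun i => σ (v i) := by
    funext i
    simp [Matrix.mulVec, dotProduct, map_sum]
  rw [dotH, e, Matrix.dotProduct_mulVec, ← Matrix.mulVec_transpose, Matrix.mulVec_mulVec]
  have h' : (g.val.map σ)ᵀ * g.val = 1 := by
    have := congrArg Matrix.transpose h
    rwa [Matrix.transpose_mul, Matrix.transpose_transpose, Matrix.transpose_one] at this
  rw [h', Matrix.one_mulVec, Units.val_one, one_mul]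
  rfl

variable [Fintype F]

/-- The quaternion group modulo scalars inside the unitary member over four field elements. -/
theorem exists_quaternion (h4 : Fintype.card F = 4) {σ : F ≃+* F} (hne : σ ≠ RingEquiv.refl F) :
    ∃ i j : GL (Fin 3) F, (i ∈ SL3 F ∧ i ∈ similarityGroup (dotH σ)) ∧ (j ∈ SL3 F ∧ j ∈ similarityGroup (dotH σ)) ∧
      j * i * j⁻¹ = i⁻¹ ∧ i * i = j * j ∧ i * i ∉ scalars (Fin 3) F := by
  classical
  haveI : CharP F 2 := by
    rw [← (FiniteField.even_card_iff_char_two.mpr (by rw [h4]) : ringChar F = 2)]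
    exact ringChar.charP F
  have h2 : (2 : F) = 0 := CharP.cast_eq_zero F 2
  obtain ⟨x, hx⟩ : ∃ x : F, σ x ≠ x := by
    by_contra! h
    exact hne (RingEquiv.ext h)
  have hx0 : x ≠ 0 := fun e => hx (by rw [e, map_zero])
  have hx1 : x ≠ 1 := fun e => hx (by rw [e, map_one])
  have hcube : ∀ y : F, y ≠ 0 → y ^ 3 = 1 := fun y hy => by
    have := FiniteField.pow_card_sub_one_eq_one y hy
    rwa [h4] at this
  have heq : x ^ 2 + x + 1 = 0 := by
    have h' : (x - 1) * (x ^ 2 + x + 1) = 0 := by linear_combination hcube x hx0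
    exact (mul_eq_zero.mp h').resolve_left (sub_ne_zero.mpr hx1)
  have hw : Symp.Root x := ⟨heq, fun e => one_ne_zero (by linear_combination e - h2 : (1 : F) = 0)⟩
  have hsx : σ x = -1 - x := by
    have e := congrArg σ heq
    rw [map_add, map_add, map_pow, map_one, map_zero] at e
    have : (σ x - x) * (σ x + x + 1) = 0 := by linear_combination e - heq
    linear_combination (mul_eq_zero.mp this).resolve_left (sub_ne_zero.mpr hx)
  have hc : (x ^ 2 - x) / 3 = 1 := by
    rw [div_eq_iff hw.three]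
    linear_combination heq - (x + 2) * h2
  have hmem : hw.fourier ∈ similarityGroup (dotH σ) := mem_sim_dotH (by
    rw [hw.val_fourier, hc, one_smul]
    ext i j
    fin_cases i <;> fin_cases j <;> simp [Matrix.mul_apply, Fin.sum_univ_three, hsx] <;> grind)
  have hmem' : hw.fourier' ∈ similarityGroup (dotH σ) := mem_sim_dotH (by
    rw [hw.val_fourier', hc, one_smul]
    ext i j
    fin_cases i <;> fin_cases j <;> simp [Matrix.mul_apply, Fin.sum_univ_three, hsx] <;> grind)
  exact ⟨hw.fourier, hw.fourier', ⟨hw.fourier_mem_SL, hmem⟩, ⟨hw.fourier'_mem_SL, hmem'⟩, hw.fourier_conj,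
    hw.fourier_sq.trans hw.fourier'_sq.symm, hw.fourier_sq.symm ▸ Symp.Root.invol_not_scalar⟩

theorem unit_maximal (hRes : Res F) {σ : F ≃+* F} {f₀ : (Fin 3 → F) → (Fin 3 → F) → F}
    (hf₀ : IsUnitaryForm σ f₀) : IsMaximalIn (SL3 F) (similarityGroup f₀ ⊓ SL3 F) := by
  classical
  have hσ := hf₀.involutive
  have hne := hf₀.ne_refl
  have hu := unitH_isUnitary hσ hne
  have hq : 4 ≤ Fintype.card F := by
    by_contra hlt
    have h1 := Fintype.one_lt_card (α := F)
    rcases (show Fintype.card F = 2 ∨ Fintype.card F = 3 by omega) with e | e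
    · exact not_prime_of_unitary hne Nat.prime_two e
    · exact not_prime_of_unitary hne Nat.prime_three e
  obtain ⟨P, hP⟩ := unit_conj hf₀
  refine isMaximalIn_conj P (H := similarityGroup (unitH σ) ⊓ SL3 F) (by rw [conj_inf, hP])
    (member_maximal (Cfsg.Agent.Lib.PrimeDim.Proper.not_le_similarityGroup (σ := (σ : F →+* F)) card_three σ.bijective
      (isSesqui_of_unitary hu) hu.nondegenerate) fun L hL hle => ?_)
  obtain ⟨e, he0, he⟩ := Cfsg.Agent.Lib.Subspaces.UnitaryForm.exists_skew_scalar hu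
  obtain ⟨a, ha⟩ : ∃ a : F, a + σ a ≠ 0 := by
    by_cases h2 : (2 : F) = 0
    · obtain ⟨x, hx⟩ : ∃ x : F, σ x ≠ x := by
        by_contra! h
        exact hne (RingEquiv.ext h)
      exact ⟨x, fun h => hx (by linear_combination h - x * h2)⟩
    · exact ⟨1, by rw [map_one, one_add_one_eq_two]; exact h2⟩
  let c : F → F := fun b => -(b * σ b) * a / (a + σ a)
  have hc : ∀ b, c b + σ (c b) + b * σ b = 0 := fun b => by
    simp only [c, map_div₀, map_mul, map_neg, map_add, hσ]
    rw [show σ a + a = a + σ a from add_comm _ _]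
    field_simp
    ring
  have hU : ∀ b c, c + σ c + b * σ b = 0 → unitU σ b c ∈ L := fun b c h => hle ⟨unitU_mem hσ h, mk1_mem _ _⟩
  have hW : ∀ b c, c + σ c + b * σ b = 0 → unitL σ b c ∈ L := fun b c h => hle ⟨unitL_mem hσ h, mk1_mem _ _⟩
  have hskew : upp 0 0 e ∈ similarityGroup (unitH σ) := by
    have h := unitU_mem (σ := σ) hσ (b := 0) (c := e) (by rw [map_zero, mul_zero, add_zero]; exact he)
    rwa [unitU, map_zero, neg_zero] at h
  have hskew' : low 0 0 e ∈ similarityGroup (unitH σ) := by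
    have h := unitL_mem (σ := σ) hσ (b := 0) (c := e) (by rw [map_zero, mul_zero, add_zero]; exact he)
    rwa [unitL, map_zero, neg_zero] at h
  set T := uniTri F ⊓ similarityGroup (unitH σ) with hT
  have hTL : T ≤ L := fun g hg => by
    obtain ⟨a, b, c, rfl⟩ := hg.1
    exact hle ⟨hg.2, upp_mem_SL _ _ _⟩
  have hTu : ∀ x ∈ T, Unip x := fun x hx => unip_of_mem_uniTri hx.1
  have hTq : Fintype.card F ≤ Nat.card T := by
    rw [← Nat.card_eq_fintype_card]
    refine Nat.card_le_card_of_injective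
      (fun b : F => (⟨unitU σ b (c b), upp_mem_uniTri _ _ _, unitU_mem hσ (hc b)⟩ : T)) fun s t e => ?_
    exact (upp_inj (congrArg Subtype.val e)).2.1
  rcases Cfsg.Agent.S5775.result L hL with ⟨W, hb, ht, rfl⟩ | ⟨h5, D, hD, rfl⟩ | ⟨h4, K, hK, rfl⟩ |
    ⟨F₁, r', Q, hr', hc', rfl⟩ | ⟨p, R, hp, hFp, hp3, hR, rfl⟩ | ⟨ho, Q, hQ, rfl⟩ | ⟨σ', f, hf, rfl⟩ | hres
  · refine absurd (hle.trans inf_le_left) (not_le_stab ?_ hb ht)
    exact irred_roots (a := -σ 1) (b := 1) (c := c 1) (a' := 1) (b' := -σ 1) (c' := c 1) (e := e) (e' := e)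
      ⟨unitU_mem hσ (hc 1), mk1_mem _ _⟩ ⟨unitL_mem hσ (hc 1), mk1_mem _ _⟩
      (Or.inl ⟨hskew, mk1_mem _ _⟩) (Or.inl ⟨hskew', mk1_mem _ _⟩) he0 he0 (by simp) one_ne_zero (by simp)
  · exfalso
    have hd := card_unip_monomial hD (hTL.trans inf_le_left) hTu
    obtain ⟨p, hp⟩ := CharP.exists F
    obtain ⟨n, hpp, hn⟩ := FiniteField.card F p
    haveI := Fact.mk hpp
    obtain ⟨k, hk⟩ := IsPGroup.iff_card.mp (isPGroup_uniTri hn (by omega) (show T ≤ uniTri F from inf_le_left))
    have := Nat.le_of_dvd (by norm_num) hd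
    have h56 : Fintype.card F = 5 ∨ Fintype.card F = 6 := by omega
    rcases h56 with e | e
    · exact not_prime_of_unitary hne (by norm_num) e
    · rw [e] at hn
      have : p ∣ 6 := hn ▸ dvd_pow_self p n.ne_zero
      have := Nat.le_of_dvd (by norm_num) this
      have hp2 := hpp.two_le
      have key : ∀ q < 7, ∀ m < 4, ¬ (q ^ m = 6 ∧ q.Prime) := by decide
      have hn4 : (n : ℕ) < 4 := by
        by_contra hlt
        have := Nat.pow_le_pow_left hp2 n
        have := Nat.pow_le_pow_right (show 1 ≤ 2 by norm_num) (show 4 ≤ (n : ℕ) by omega)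
        omega
      exact key p (by omega) n hn4 ⟨hn.symm, hpp⟩
  · exfalso
    have := Nat.le_of_dvd (by norm_num) (FieldAlg.card_unip hK (hTL.trans inf_le_left) hTu)
    omega
  · exact (subfield_ne_top hr' hc' (eq_top_of_unit hσ hne (by omega) (fun b c h => (hU b c h).1)
      (fun c h => (hW 0 c (by rw [zero_mul, add_zero]; exact h)).1))).elim
  · exact (not_prime_of_unitary hne hp hFp).elim
  · exact (root_not_orth hQ (two_ne_zero_of_odd ho) he0 (hle ⟨hskew, mk1_mem _ _⟩).1).elim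
  · obtain rfl : σ = σ' := sigma_unique hσ hne hf.involutive hf.ne_refl
    obtain ⟨P', hP'⟩ := unit_conj hf
    exact le_of_conj (X := similarityGroup (unitH σ) ⊓ SL3 F) (map_conj_one _) (g' := P')
      (by rw [conj_inf, hP']) hle
  · exfalso
    obtain ⟨P₁, p, hI⟩ := hRes.data hL hres
    obtain ⟨h4, hp2, -⟩ := hI.unip (T := T) (by omega) inf_le_left hTL (by omega)
    obtain ⟨i, j, hi, hj, hij, hsq, hns⟩ := exists_quaternion h4 hne
    obtain ⟨P', hP'⟩ := unit_conj (dotH_isUnitary hσ hne)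
    have hmem : ∀ g : GL (Fin 3) F, g ∈ SL3 F ∧ g ∈ similarityGroup (dotH σ) → P'⁻¹ * g * P' ∈ L := fun g hg => by
      refine hle ⟨mem_map_conj.mp (hP'.ge hg.2), mem_SL3.2 ?_⟩
      have := det_conj P'⁻¹ g
      rw [inv_inv] at this
      rw [this]
      exact mem_SL3.1 hg.1
    have hA : Nonempty (SU3Max96.Socle P₁ ≃* alternatingGroup (Fin 6)) := by
      rcases hI.types with ⟨-, -, h, -⟩ | ⟨h, -⟩
      · exact absurd hp2 h
      · exact h
    refine hI.no_quaternion (hmem i hi) (hmem j hj) ?_ ?_ ?_ hA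
    · rw [show P'⁻¹ * j * P' * (P'⁻¹ * i * P') * (P'⁻¹ * j * P')⁻¹ = P'⁻¹ * (j * i * j⁻¹) * P' by group, hij]
      group
    · rw [show P'⁻¹ * i * P' * (P'⁻¹ * i * P') = P'⁻¹ * (i * i) * P' by group, hsq]
      group
    · rw [show P'⁻¹ * i * P' * (P'⁻¹ * i * P') = P'⁻¹ * (i * i) * P' by group]
      intro h
      apply hns
      have e' := Cfsg.Agent.Lib.PrimeDim.Symplectic.scalar_comm h P'⁻¹
      have : i * i = P'⁻¹ * (i * i) * P' := by
        have h2 : P'⁻¹ * (i * i) * P' * P'⁻¹ = P'⁻¹ * (P'⁻¹ * (i * i) * P') := e'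
        calc i * i = P' * (P'⁻¹ * (i * i) * P' * P'⁻¹) := by group
          _ = P'⁻¹ * (i * i) * P' := by rw [h2]; group
      rwa [← this] at h

end Cfsg.Agent.Lib.SL3Max93
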