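import Cfsg.Agent.Lib.SL3Max93.Members
import Cfsg.Agent.Lib.PrimeDim.Proper

/-!
Explicit elements of the standard members, and their irreducibility.
-/

set_option autoImplicit false
set_option linter.unusedSectionVars false
set_option linter.style.haveILetI false

namespace Cfsg.Agent.Lib.SL3Max93

open Cfsg.Geo Matrix
open Cfsg.Agent.Lib.PrimeDim.Basic

variable {F : Type*} [Field F]

/-! ### Monomial matrices -/

/-- A diagonal matrix of determinant one. -/
def diag3 (a b c : F) (h : a * b * c = 1) : GL (Fin 3) F :=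
  mk1 !![a, 0, 0; 0, b, 0; 0, 0, c] (by simp [det_fin_three]; exact h)

/-- A three-cycle of the axes. -/
def cyc3 : GL (Fin 3) F := mk1 !![0, 0, 1; 1, 0, 0; 0, 1, 0] (by simp [det_fin_three])

/-- A transposition of the first two axes, negating the third. -/
def swap01 : GL (Fin 3) F := mk1 !![0, 1, 0; 1, 0, 0; 0, 0, -1] (by simp [det_fin_three])

theorem mem_monoStd {g : GL (Fin 3) F} (π : Equiv.Perm (Fin 3)) (c : Fin 3 → F) (hc : ∀ i, c i ≠ 0)
    (h : ∀ i, g.val *ᵥ Pi.single i 1 = c i • Pi.single (π i) 1) : g ∈ monoStd F := by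
  refine ⟨π, fun i => ?_⟩
  rw [coordLine, Submodule.map_span, Set.image_singleton, Matrix.toLin'_apply, h, coordLine,
    Submodule.span_singleton_smul_eq (isUnit_iff_ne_zero.2 (hc i))]

theorem diag3_mem (a b c : F) (h : a * b * c = 1) : diag3 a b c h ∈ monoStd F := by
  have ha : a ≠ 0 := fun e => by simp [e] at h
  have hb : b ≠ 0 := fun e => by simp [e] at h
  have hc : c ≠ 0 := fun e => by simp [e] at h
  refine mem_monoStd 1 ![a, b, c] (fun i => by fin_cases i <;> assumption) fun i => ?_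
  fin_cases i <;> funext j <;> fin_cases j <;> simp [diag3]

theorem cyc3_mem : (cyc3 : GL (Fin 3) F) ∈ monoStd F := by
  refine mem_monoStd (Equiv.swap 0 1 * Equiv.swap 1 2) (fun _ => 1) (fun _ => one_ne_zero) fun i => ?_
  fin_cases i <;> funext j <;> fin_cases j <;> simp [cyc3, Equiv.swap_apply_of_ne_of_ne]

theorem swap01_mem : (swap01 : GL (Fin 3) F) ∈ monoStd F := by
  refine mem_monoStd (Equiv.swap 0 1) ![1, 1, -1] (fun i => by fin_cases i <;> simp) fun i => ?_
  fin_cases i <;> funext j <;> fin_cases j <;> simp [swap01, Equiv.swap_apply_of_ne_of_ne]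

/-! ### Unitriangular matrices -/

/-- An upper unitriangular matrix. -/
def upp (a b c : F) : GL (Fin 3) F := mk1 !![1, a, c; 0, 1, b; 0, 0, 1] (by simp [det_fin_three])

/-- A lower unitriangular matrix. -/
def low (a b c : F) : GL (Fin 3) F := mk1 !![1, 0, 0; a, 1, 0; c, b, 1] (by simp [det_fin_three])

theorem unip_upp (a b c : F) : Unip (upp a b c) := by
  rw [Unip]
  ext i j
  fin_cases i <;> fin_cases j <;> simp [upp, pow_succ, Matrix.mul_apply, Fin.sum_univ_three, Matrix.one_apply]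

theorem unip_low (a b c : F) : Unip (low a b c) := by
  rw [Unip]
  ext i j
  fin_cases i <;> fin_cases j <;> simp [low, pow_succ, Matrix.mul_apply, Fin.sum_univ_three, Matrix.one_apply]

theorem upp_mul (a b c a' b' c' : F) :
    upp a b c * upp a' b' c' = upp (a + a') (b + b') (c' + a * b' + c) := by
  refine Units.ext ?_
  ext i j
  fin_cases i <;> fin_cases j <;> simp [upp, Matrix.mul_apply, Fin.sum_univ_three] <;> ring

theorem upp_zero : upp (0 : F) 0 0 = 1 := by
  refine Units.ext ?_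
  ext i j
  fin_cases i <;> fin_cases j <;> simp [upp]

theorem upp_inj {a b c a' b' c' : F} (h : upp a b c = upp a' b' c') : a = a' ∧ b = b' ∧ c = c' := by
  have e : ∀ i j, (upp a b c).val i j = (upp a' b' c').val i j := fun i j => by rw [h]
  exact ⟨by simpa [upp] using e 0 1, by simpa [upp] using e 1 2, by simpa [upp] using e 0 2⟩

/-- The upper unitriangular group. -/
def uniTri (F : Type*) [Field F] : Subgroup (GL (Fin 3) F) where
  carrier := {g | ∃ a b c, g = upp a b c}
  one_mem' := ⟨0, 0, 0, upp_zero.symm⟩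
  mul_mem' := by
    rintro _ _ ⟨a, b, c, rfl⟩ ⟨a', b', c', rfl⟩
    exact ⟨_, _, _, upp_mul a b c a' b' c'⟩
  inv_mem' := by
    rintro _ ⟨a, b, c, rfl⟩
    refine ⟨-a, -b, a * b - c, inv_eq_of_mul_eq_one_right ?_⟩
    rw [upp_mul, ← upp_zero]
    congr 1 <;> ring

theorem unip_of_mem_uniTri {g : GL (Fin 3) F} (h : g ∈ uniTri F) : Unip g := by
  obtain ⟨a, b, c, rfl⟩ := h
  exact unip_upp a b c

theorem upp_mem_uniTri (a b c : F) : upp a b c ∈ uniTri F := ⟨a, b, c, rfl⟩

theorem isPGroup_uniTri [Fintype F] {p α : ℕ} (hF : Fintype.card F = p ^ α) (hq : 3 ≤ Fintype.card F)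
    {U : Subgroup (GL (Fin 3) F)} (hU : U ≤ uniTri F) : IsPGroup p U := fun g => ⟨α, Subtype.ext (by
  rw [Subgroup.coe_pow, ← hF, (unip_of_mem_uniTri (hU g.2)).pow_card hq, Subgroup.coe_one])⟩

/-! ### The subfield group -/

theorem mem_subStd {F₀ : Subfield F} {g : GL (Fin 3) F} (h : ∀ i j, g.val i j ∈ F₀) :
    g ∈ subfieldSubgroup F₀ 1 := by
  rw [subfieldSubgroup, map_one,
    show (MulEquiv.toMonoidHom (1 : MulAut (GL (Fin 3) F))) = MonoidHom.id _ from rfl, Subgroup.map_id]
  exact Subgroup.mem_sup_left (Cfsg.Agent.Lib.PrimeDim.Fields.scalar_entry_mem h)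

theorem upp_mem_subStd {F₀ : Subfield F} {a b c : F} (ha : a ∈ F₀) (hb : b ∈ F₀) (hc : c ∈ F₀) :
    upp a b c ∈ subfieldSubgroup F₀ 1 :=
  mem_subStd fun i j => by fin_cases i <;> fin_cases j <;> simp [upp] <;> assumption

theorem low_mem_subStd {F₀ : Subfield F} {a b c : F} (ha : a ∈ F₀) (hb : b ∈ F₀) (hc : c ∈ F₀) :
    low a b c ∈ subfieldSubgroup F₀ 1 :=
  mem_subStd fun i j => by fin_cases i <;> fin_cases j <;> simp [low] <;> assumption

/-! ### The orthogonal group -/

/-- An upper orthogonal root element. -/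
def orthU (t : F) : GL (Fin 3) F := upp (-2 * t) t (-t ^ 2)

/-- A lower orthogonal root element. -/
def orthL (t : F) : GL (Fin 3) F := low t (-2 * t) (-t ^ 2)

theorem orthU_mem (t : F) : orthU t ∈ quadSimilarityGroup (orthQ (F := F)) := by
  refine ⟨1, fun v => ?_⟩
  simp [orthQ, orthU, upp, Matrix.mulVec, dotProduct, Fin.sum_univ_three]
  ring

theorem orthL_mem (t : F) : orthL t ∈ quadSimilarityGroup (orthQ (F := F)) := by
  refine ⟨1, fun v => ?_⟩
  simp [orthQ, orthL, low, Matrix.mulVec, dotProduct, Fin.sum_univ_three]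
  ring

theorem diag3_mem_orth (a : F) (ha : a ≠ 0) :
    diag3 a 1 a⁻¹ (by rw [mul_one, mul_inv_cancel₀ ha]) ∈ quadSimilarityGroup (orthQ (F := F)) := by
  refine ⟨1, fun v => ?_⟩
  simp [orthQ, diag3, Matrix.mulVec, dotProduct, Fin.sum_univ_three]
  field_simp

/-- An involution exchanging the singular points. -/
def orthW : GL (Fin 3) F := mk1 !![0, 0, 1; 0, -1, 0; 1, 0, 0] (by simp [det_fin_three])

theorem orthW_mem : (orthW : GL (Fin 3) F) ∈ quadSimilarityGroup (orthQ (F := F)) := by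
  refine ⟨1, fun v => ?_⟩
  simp [orthQ, orthW, Matrix.mulVec, dotProduct, Fin.sum_univ_three]
  ring

/-! ### The unitary group -/

variable {σ : F ≃+* F}

/-- An upper unitary root element. -/
def unitU (σ : F ≃+* F) (b c : F) : GL (Fin 3) F := upp (-σ b) b c

/-- A lower unitary root element. -/
def unitL (σ : F ≃+* F) (b c : F) : GL (Fin 3) F := low b (-σ b) c

theorem unitU_mem (hσ : ∀ a, σ (σ a) = a) {b c : F} (h : c + σ c + b * σ b = 0) :
    unitU σ b c ∈ similarityGroup (unitH σ) := by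
  refine ⟨1, fun u v => ?_⟩
  simp [unitH, unitU, upp, Matrix.mulVec, dotProduct, Fin.sum_univ_three, hσ]
  linear_combination (u 2 * σ (v 2)) * h

theorem unitL_mem (hσ : ∀ a, σ (σ a) = a) {b c : F} (h : c + σ c + b * σ b = 0) :
    unitL σ b c ∈ similarityGroup (unitH σ) := by
  refine ⟨1, fun u v => ?_⟩
  simp [unitH, unitL, low, Matrix.mulVec, dotProduct, Fin.sum_univ_three, hσ]
  linear_combination (u 0 * σ (v 0)) * h

theorem unitH_isUnitary (hσ : ∀ a, σ (σ a) = a) (hne : σ ≠ RingEquiv.refl F) :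
    IsUnitaryForm σ (unitH σ) := by
  refine ⟨hne, hσ, fun x y v => ?_, fun c x v => ?_, fun v w => ?_, fun v hv => ⟨?_, ?_⟩⟩
  · simp [unitH]; ring
  · simp [unitH]; ring
  · simp [unitH, hσ]; ring
  all_goals
    obtain ⟨i, hi⟩ := Function.ne_iff.mp hv
    refine ⟨Pi.single i.rev 1, ?_⟩
    fin_cases i <;> simpa [unitH, Fin.rev] using hi

theorem orthQ_isQuad (h2 : (2 : F) ≠ 0) : IsNondegenerateQuadraticForm (orthQ (F := F)) := by
  have hp : ∀ u v : Fin 3 → F, QuadraticMap.polar orthQ u v = u 0 * v 2 + u 2 * v 0 + 2 * (u 1 * v 1) := by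
    intro u v; simp [QuadraticMap.polar, orthQ]; ring
  refine ⟨fun c v => by simp [orthQ]; ring,
    ⟨fun x y v => ?_, fun c x v => ?_, fun x y v => ?_, fun c x v => ?_⟩, fun v hv => ⟨?_, ?_⟩⟩
  iterate 4 (simp [hp]; ring)
  all_goals
    obtain ⟨i, hi⟩ := Function.ne_iff.mp hv
    refine ⟨Pi.single i.rev 1, ?_⟩
    fin_cases i <;> simpa [hp, Fin.rev, h2] using hi

/-! ### Irreducibility -/

theorem eq_top_of_singles {W : Submodule F (Fin 3 → F)} (h0 : Pi.single 0 1 ∈ W) (h1 : Pi.single 1 1 ∈ W)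
    (h2 : Pi.single 2 1 ∈ W) : W = ⊤ := by
  rw [eq_top_iff]
  intro v _
  rw [pi_eq_sum_univ' v]
  refine Submodule.sum_mem _ fun i _ => Submodule.smul_mem _ _ ?_
  fin_cases i <;> assumption

theorem irred_mono {a : F} (ha : a ≠ 0) (hne : a ≠ 1) (hne2 : a ^ 2 ≠ 1) {H : Subgroup (GL (Fin 3) F)}
    (hd : diag3 a a⁻¹ 1 (by rw [mul_one, mul_inv_cancel₀ ha]) ∈ H) (hc : cyc3 ∈ H) : Irred H := by
  intro W hW
  refine or_iff_not_imp_left.2 fun hb => ?_
  obtain ⟨w, hw, hw0⟩ := Submodule.exists_mem_ne_zero_of_ne_bot hb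
  have hD : ∀ v ∈ W, ![a * v 0, a⁻¹ * v 1, v 2] ∈ W := fun v hv => by
    have := hW _ hd v hv
    convert this using 1
    funext i; fin_cases i <;> simp [diag3, Matrix.mulVec, dotProduct, Fin.sum_univ_three, Matrix.vecHead, Matrix.vecTail] <;> field_simp
  have hC : ∀ v ∈ W, ![v 2, v 0, v 1] ∈ W := fun v hv => by
    have := hW _ hc v hv
    convert this using 1
    funext i; fin_cases i <;> simp [cyc3, Matrix.mulVec, dotProduct, Fin.sum_univ_three, Matrix.vecHead, Matrix.vecTail] <;> field_simp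
  have ha1 : a - 1 ≠ 0 := sub_ne_zero.2 hne
  have ha2 : a - a⁻¹ ≠ 0 := sub_ne_zero.2 fun e => hne2 (by rw [pow_two]; nth_rw 1 [e]; exact inv_mul_cancel₀ ha)
  have key : ∀ v ∈ W, v 0 ≠ 0 → Pi.single 0 1 ∈ W := by
    intro v hv hv0
    have h1 := sub_mem (hD v hv) hv
    have h2 := sub_mem (hD _ h1) (Submodule.smul_mem W a⁻¹ h1)
    have h3 := Submodule.smul_mem W (((a - a⁻¹) * (a - 1) * v 0)⁻¹) h2
    convert h3 using 1
    funext i
    fin_cases i
    · simp [Matrix.vecHead, Matrix.vecTail]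
      field_simp
    · simp [Matrix.vecHead, Matrix.vecTail]
    · simp [Matrix.vecHead, Matrix.vecTail]
  obtain ⟨v, hv, hv0⟩ : ∃ v ∈ W, v 0 ≠ 0 := by
    obtain ⟨i, hi⟩ := Function.ne_iff.mp hw0
    fin_cases i
    · exact ⟨w, hw, hi⟩
    · exact ⟨_, hC _ (hC w hw), by simpa using hi⟩
    · exact ⟨_, hC w hw, by simpa using hi⟩
  have e0 := key v hv hv0
  have e1 : Pi.single 1 1 ∈ W := by
    convert hC _ e0 using 1
    funext i; fin_cases i <;> simp
  have e2 : Pi.single 2 1 ∈ W := by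
    convert hC _ e1 using 1
    funext i; fin_cases i <;> simp
  exact eq_top_of_singles e0 e1 e2

theorem mulVec_upp (a b c : F) (v : Fin 3 → F) :
    (upp a b c).val *ᵥ v = ![v 0 + a * v 1 + c * v 2, v 1 + b * v 2, v 2] := by
  funext i
  fin_cases i <;> simp [upp, Matrix.mulVec, dotProduct, Fin.sum_univ_three]

theorem mulVec_low (a b c : F) (v : Fin 3 → F) :
    (low a b c).val *ᵥ v = ![v 0, a * v 0 + v 1, c * v 0 + b * v 1 + v 2] := by
  funext i
  fin_cases i <;> simp [low, Matrix.mulVec, dotProduct, Fin.sum_univ_three]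

/-- Root elements of both signs act irreducibly. -/
theorem irred_roots {H : Subgroup (GL (Fin 3) F)} {a b c a' b' c' e e' : F}
    (hu : upp a b c ∈ H) (hl : low a' b' c' ∈ H) (hu' : upp 0 0 e ∈ H ∨ (a ≠ 0 ∧ b ≠ 0))
    (hl' : low 0 0 e' ∈ H ∨ (a' ≠ 0 ∧ b' ≠ 0)) (he : e ≠ 0) (he' : e' ≠ 0) (ha : a ≠ 0) (ha' : a' ≠ 0)
    (hb' : b' ≠ 0) : Irred H := by
  intro W hW
  refine or_iff_not_imp_left.2 fun hne => ?_
  have hU : ∀ v ∈ W, ![a * v 1 + c * v 2, b * v 2, 0] ∈ W := fun v hv => by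
    have := sub_mem (hW _ hu v hv) hv
    rw [mulVec_upp] at this
    convert this using 1
    funext i; fin_cases i <;> simp <;> ring
  have hL : ∀ v ∈ W, ![0, a' * v 0, c' * v 0 + b' * v 1] ∈ W := fun v hv => by
    have := sub_mem (hW _ hl v hv) hv
    rw [mulVec_low] at this
    convert this using 1
    funext i; fin_cases i <;> simp
  have hU2 : ∀ v ∈ W, v 2 ≠ 0 → Pi.single 0 1 ∈ W := fun v hv h2 => by
    rcases hu' with hu' | ⟨h1, hb⟩
    · have := sub_mem (hW _ hu' v hv) hv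
      rw [mulVec_upp] at this
      convert Submodule.smul_mem W (e * v 2)⁻¹ this using 1
      funext i; fin_cases i <;> simp [he, h2, Matrix.vecHead, Matrix.vecTail] <;> field_simp
    · convert Submodule.smul_mem W (a * (b * v 2))⁻¹ (hU _ (hU v hv)) using 1
      funext i; fin_cases i <;> simp [h1, hb, h2, Matrix.vecHead, Matrix.vecTail] <;> field_simp
  have hL2 : ∀ v ∈ W, v 0 ≠ 0 → Pi.single 2 1 ∈ W := fun v hv h0 => by
    rcases hl' with hl' | ⟨h1, hb⟩
    · have := sub_mem (hW _ hl' v hv) hv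
      rw [mulVec_low] at this
      convert Submodule.smul_mem W (e' * v 0)⁻¹ this using 1
      funext i; fin_cases i <;> simp [he', h0, Matrix.vecHead, Matrix.vecTail] <;> field_simp
    · convert Submodule.smul_mem W (b' * (a' * v 0))⁻¹ (hL _ (hL v hv)) using 1
      funext i; fin_cases i <;> simp [h1, hb, h0, Matrix.vecHead, Matrix.vecTail] <;> field_simp
  obtain ⟨w, hw, hw0⟩ := Submodule.exists_mem_ne_zero_of_ne_bot hne
  have e0 : Pi.single 0 1 ∈ W := by
    by_cases h2 : w 2 = 0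
    · by_cases h1 : w 1 = 0
      · have h0 : w 0 ≠ 0 := fun h0 => hw0 (funext fun i => by fin_cases i <;> assumption)
        convert Submodule.smul_mem W (w 0)⁻¹ hw using 1
        funext i; fin_cases i <;> simp [h0, h1, h2, Matrix.vecHead, Matrix.vecTail] <;> field_simp
      · convert Submodule.smul_mem W (a * w 1)⁻¹ (hU w hw) using 1
        funext i; fin_cases i <;> simp [ha, h1, h2, Matrix.vecHead, Matrix.vecTail] <;> field_simp
    · exact hU2 w hw h2
  have e2 := hL2 _ e0 (by simp)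
  have e1 : Pi.single 1 1 ∈ W := by
    have := sub_mem (hL _ e0) (Submodule.smul_mem W c' e2)
    convert Submodule.smul_mem W a'⁻¹ this using 1
    funext i; fin_cases i <;> simp [ha', Matrix.vecHead, Matrix.vecTail] <;> field_simp
  exact eq_top_of_singles e0 e1 e2

end Cfsg.Agent.Lib.SL3Max93
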