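import Cfsg.Agent.Lib.SL3Max93.SympGroup
import Cfsg.Agent.Lib.SL3Max93.Elems

/-!
The standard extraspecial group of order `27` and elements of order four normalising it.
-/

set_option autoImplicit false
set_option linter.unusedSectionVars false
set_option linter.style.haveILetI false

namespace Cfsg.Agent.Lib.SL3Max93.Symp

open Cfsg.Geo Matrix
open Cfsg.Agent.Lib.PrimeDim.Basic Cfsg.Agent.Lib.PrimeDim.Symplectic

variable {F : Type*} [Field F]

/-- A root of `t² + t + 1` other than one: a primitive cube root of unity. -/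
structure Root (w : F) : Prop where
  eq : w ^ 2 + w + 1 = 0
  three : (3 : F) ≠ 0

namespace Root

variable {w : F} (hw : Root w)
include hw

theorem cube : w * (w * w) = 1 := by linear_combination (w - 1) * hw.eq
theorem ne_zero : w ≠ 0 := fun e => by have := hw.eq; simp [e] at this
theorem ne_one : w ≠ 1 := fun e => hw.three (by have := hw.eq; rw [e] at this; linear_combination this)

theorem sq_ne : w * w ≠ 1 := fun e => hw.ne_one (by
  have := hw.cube
  rwa [e, mul_one] at this)

/-- The diagonal generator. -/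
def X : GL (Fin 3) F := diag3 1 w (w * w) (by rw [one_mul]; exact hw.cube)

omit hw in
theorem val_cyc : (cyc3 : GL (Fin 3) F).val = !![0, 0, 1; 1, 0, 0; 0, 1, 0] := rfl

theorem val_X : hw.X.val = !![1, 0, 0; 0, w, 0; 0, 0, w * w] := rfl

/-- The standard group. -/
def group : Subgroup (GL (Fin 3) F) := Subgroup.closure {hw.X, cyc3}

theorem X_mem : hw.X ∈ hw.group := Subgroup.subset_closure (by simp)
theorem Y_mem : (cyc3 : GL (Fin 3) F) ∈ hw.group := Subgroup.subset_closure (by simp)

theorem X_mul_Y : hw.X.val * (cyc3 : GL (Fin 3) F).val = w • ((cyc3 : GL (Fin 3) F).val * hw.X.val) := by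
  have := hw.cube
  rw [hw.val_X, val_cyc]
  ext i j
  fin_cases i <;> fin_cases j <;> simp [Matrix.mul_apply, Fin.sum_univ_three] <;>
    first | linear_combination -this | ring1

theorem noncomm : hw.X * cyc3 ≠ cyc3 * hw.X := by
  intro e
  have h := congrArg (fun g : GL (Fin 3) F => g.val 1 0) e
  simp [hw.val_X, val_cyc, Matrix.mul_apply, Fin.sum_univ_three] at h
  exact hw.ne_one h

theorem group_le : hw.group ≤ SL3 F := by
  rw [group, Subgroup.closure_le]
  rintro x (rfl | rfl)
  · exact mk1_mem _ _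
  · exact mk1_mem _ _

theorem coeff : 3 * ((w ^ 2 - w) / 3) ^ 2 = -1 := by
  have := hw.three
  field_simp
  linear_combination (w ^ 2 - 3 * w + 3) * hw.eq

theorem coeff_det : ((w ^ 2 - w) / 3) ^ 3 * (3 * (w ^ 2 - w)) = 1 := by
  have := hw.three
  field_simp
  linear_combination (w ^ 6 - 5 * w ^ 5 + 10 * w ^ 4 - 9 * w ^ 3 + 9 * w - 9) * hw.eq

/-- The Fourier matrix of determinant one. -/
def fourier : GL (Fin 3) F :=
  mk1 (((w ^ 2 - w) / 3) • !![1, 1, 1; 1, w, -1 - w; 1, -1 - w, w]) (by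
    rw [Matrix.det_smul, Fintype.card_fin]
    refine Eq.trans ?_ hw.coeff_det
    congr 1
    simp [Matrix.det_fin_three]
    linear_combination (-3 : F) * hw.eq)

theorem val_fourier : hw.fourier.val = ((w ^ 2 - w) / 3) • !![1, 1, 1; 1, w, -1 - w; 1, -1 - w, w] := rfl

/-- A diagonal element normalising the standard group. -/
def dd : GL (Fin 3) F := Matrix.GeneralLinearGroup.mkOfDetNeZero !![1, 0, 0; 0, w, 0; 0, 0, w] (by
  simp [Matrix.det_fin_three]; exact hw.ne_zero)

theorem val_dd : hw.dd.val = !![1, 0, 0; 0, w, 0; 0, 0, w] := rfl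

/-- A second element of order four. -/
def fourier' : GL (Fin 3) F := hw.dd * hw.fourier * hw.dd⁻¹

theorem val_fourier' :
    hw.fourier'.val = ((w ^ 2 - w) / 3) • !![1, -1 - w, -1 - w; w, w, -1 - w; w, -1 - w, w] := by
  rw [fourier', Units.val_mul, Units.mul_inv_eq_iff_eq_mul, Units.val_mul, hw.val_fourier, hw.val_dd,
    Matrix.mul_smul, Matrix.smul_mul]
  congr 1
  ext i j
  fin_cases i <;> fin_cases j <;> simp [Matrix.mul_apply, Fin.sum_univ_three] <;>
    first | ring1 | linear_combination hw.eq | linear_combination -hw.eq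

theorem fourier'_mem_SL : hw.fourier' ∈ SL3 F := by
  rw [mem_SL3, fourier', det_conj]
  exact mem_SL3.1 (mk1_mem _ _)

theorem fourier_mem_SL : hw.fourier ∈ SL3 F := mk1_mem _ _

omit hw in
/-- The involution of the standard group. -/
def invol : GL (Fin 3) F := mk1 !![-1, 0, 0; 0, 0, -1; 0, -1, 0] (by simp [Matrix.det_fin_three])

theorem fourier_sq : hw.fourier * hw.fourier = invol := by
  refine Units.ext ?_
  rw [Units.val_mul, hw.val_fourier, Matrix.smul_mul, Matrix.mul_smul, smul_smul, ← pow_two]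
  have e : !![1, 1, 1; 1, w, -1 - w; 1, -1 - w, w] * !![1, 1, 1; 1, w, -1 - w; 1, -1 - w, w] =
      (3 : F) • !![1, 0, 0; 0, 0, 1; 0, 1, 0] := by
    ext i j
    fin_cases i <;> fin_cases j <;> simp [Matrix.mul_apply, Fin.sum_univ_three] <;>
      first | ring1 | linear_combination (2 : F) * hw.eq | linear_combination (-2 : F) * hw.eq
  rw [e, smul_smul, mul_comm, hw.coeff]
  ext i j
  fin_cases i <;> fin_cases j <;> simp [invol]

omit hw in
theorem invol_sq : (invol : GL (Fin 3) F) * invol = 1 := by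
  refine Units.ext ?_
  ext i j
  fin_cases i <;> fin_cases j <;> simp [invol, Matrix.mul_apply, Fin.sum_univ_three]

omit hw in
theorem invol_not_scalar : (invol : GL (Fin 3) F) ∉ scalars (Fin 3) F := by
  intro h
  obtain ⟨c, hc⟩ := (mem_scalars_iff _).mp h
  have := congrFun (congrFun hc 1) 2
  simp [invol] at this

theorem fourier'_sq : hw.fourier' * hw.fourier' = invol := by
  rw [fourier', show hw.dd * hw.fourier * hw.dd⁻¹ * (hw.dd * hw.fourier * hw.dd⁻¹) =
    hw.dd * (hw.fourier * hw.fourier) * hw.dd⁻¹ by group, hw.fourier_sq, mul_inv_eq_iff_eq_mul]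
  refine Units.ext ?_
  ext i j
  fin_cases i <;> fin_cases j <;> simp [invol, hw.val_dd, Matrix.mul_apply, Fin.sum_univ_three]

theorem quaternion : hw.fourier' * hw.fourier = invol * hw.fourier * hw.fourier' := by
  refine Units.ext ?_
  simp only [Units.val_mul, hw.val_fourier, hw.val_fourier', Matrix.mul_smul, Matrix.smul_mul]
  congr 2
  ext i j
  fin_cases i <;> fin_cases j <;> simp [invol, Matrix.mul_apply, Fin.sum_univ_three] <;>
    first | ring1 | linear_combination hw.eq | linear_combination -hw.eq |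
      linear_combination (2 : F) * hw.eq | linear_combination (-2 : F) * hw.eq |
      linear_combination (3 : F) * hw.eq | linear_combination (-3 : F) * hw.eq

theorem fourier_conj : hw.fourier' * hw.fourier * hw.fourier'⁻¹ = hw.fourier⁻¹ := by
  rw [hw.quaternion, mul_inv_cancel_right, eq_inv_iff_mul_eq_one, mul_assoc, hw.fourier_sq, invol_sq]

theorem fourier_mul_Y : hw.fourier * cyc3 = hw.X * hw.fourier := by
  refine Units.ext ?_
  simp only [Units.val_mul, hw.val_fourier, hw.val_X, val_cyc, Matrix.mul_smul, Matrix.smul_mul]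
  congr 1
  ext i j
  fin_cases i <;> fin_cases j <;> simp [Matrix.mul_apply, Fin.sum_univ_three] <;>
    first | ring1 | linear_combination hw.eq | linear_combination -hw.eq | linear_combination w * hw.eq |
      linear_combination -w * hw.eq | linear_combination (w - 1) * hw.eq | linear_combination (1 - w) * hw.eq

theorem fourier_mul_X : hw.fourier * hw.X = cyc3 * cyc3 * hw.fourier := by
  refine Units.ext ?_
  simp only [Units.val_mul, hw.val_fourier, hw.val_X, val_cyc, Matrix.mul_smul, Matrix.smul_mul]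
  congr 1
  ext i j
  fin_cases i <;> fin_cases j <;> simp [Matrix.mul_apply, Fin.sum_univ_three] <;>
    first | ring1 | linear_combination hw.eq | linear_combination -hw.eq | linear_combination w * hw.eq |
      linear_combination -w * hw.eq | linear_combination (w - 1) * hw.eq | linear_combination (1 - w) * hw.eq

theorem dd_mul_Y : hw.dd * cyc3 = hw.X * cyc3 * hw.X * hw.dd := by
  refine Units.ext ?_
  simp only [Units.val_mul, hw.val_dd, hw.val_X, val_cyc]
  ext i j
  fin_cases i <;> fin_cases j <;> simp [Matrix.mul_apply, Fin.sum_univ_three] <;>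
    first | ring1 | linear_combination hw.cube | linear_combination -hw.cube |
      linear_combination w * hw.cube | linear_combination -w * hw.cube

theorem dd_mul_X : hw.dd * hw.X = hw.X * hw.dd := by
  refine Units.ext ?_
  simp only [Units.val_mul, hw.val_dd, hw.val_X]
  ext i j
  fin_cases i <;> fin_cases j <;> simp [Matrix.mul_apply, Fin.sum_univ_three] <;> ring

theorem mem_normalizer [Finite F] {g a b : GL (Fin 3) F} (ha : a ∈ hw.group) (hb : b ∈ hw.group)
    (eX : g * hw.X = a * g) (eY : g * cyc3 = b * g) : g ∈ subgroupNormalizer hw.group := by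
  have hle : hw.group.map (MulAut.conj g).toMonoidHom ≤ hw.group := by
    rw [group, MonoidHom.map_closure, Subgroup.closure_le]
    rintro _ ⟨x, rfl | rfl, rfl⟩
    · rw [MulEquiv.coe_toMonoidHom, MulAut.conj_apply, eX, mul_inv_cancel_right]; exact ha
    · rw [MulEquiv.coe_toMonoidHom, MulAut.conj_apply, eY, mul_inv_cancel_right]; exact hb
  have heq := Subgroup.eq_of_le_of_card_ge hle (le_of_eq
    (Subgroup.card_map_of_injective (f := (MulAut.conj g).toMonoidHom) (MulAut.conj g).injective).symm)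
  refine Subgroup.mem_normalizer_iff.mpr fun x => ⟨fun hx => hle ⟨x, hx, rfl⟩, fun hx => ?_⟩
  rw [← heq] at hx
  obtain ⟨y, hy, e⟩ := hx
  rwa [← (MulAut.conj g).injective (show MulAut.conj g y = MulAut.conj g x from e)]

theorem fourier_mem [Finite F] : hw.fourier ∈ subgroupNormalizer hw.group :=
  hw.mem_normalizer (mul_mem hw.Y_mem hw.Y_mem) hw.X_mem hw.fourier_mul_X hw.fourier_mul_Y

theorem dd_mem [Finite F] : hw.dd ∈ subgroupNormalizer hw.group :=
  hw.mem_normalizer hw.X_mem (mul_mem (mul_mem hw.X_mem hw.Y_mem) hw.X_mem) hw.dd_mul_X hw.dd_mul_Y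

theorem fourier'_mem [Finite F] : hw.fourier' ∈ subgroupNormalizer hw.group :=
  mul_mem (mul_mem hw.dd_mem hw.fourier_mem) (inv_mem hw.dd_mem)

end Root

/-- Every group of the class is a conjugate of the standard one. -/
theorem exists_std [Fintype F] {R : Subgroup (GL (Fin 3) F)} (h : Setup R) :
    ∃ (w : F) (hw : Root w) (P : GL (Fin 3) F), hw.group.map (MulAut.conj P).toMonoidHom = R := by
  classical
  obtain ⟨⟨P, η, hη, -, -, -, -, ⟨x, hxR, hxd⟩, hmono⟩⟩ := exists_frame Nat.prime_three le_rfl h.le h.abs h.comm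
  have hη1 : η ≠ 1 := hη.ne_one (by norm_num)
  have heq : η ^ 2 + η + 1 = 0 := by
    have h' : (η - 1) * (η ^ 2 + η + 1) = 0 := by linear_combination hη.pow_eq_one
    exact (mul_eq_zero.mp h').resolve_left (sub_ne_zero.mpr hη1)
  have h30 : (3 : F) ≠ 0 := fun e => hη1 (by
    have h' : (η - 1) * (η - 1) = 0 := by linear_combination heq - η * e
    exact sub_eq_zero.mp (mul_self_eq_zero.mp h'))
  have hw : Root η := ⟨heq, h30⟩
  set R' := R.map (MulAut.conj P⁻¹).toMonoidHom with hR'
  have hXR : hw.X ∈ R' := by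
    refine mem_map_conj.2 (by
      rw [inv_inv]
      convert hxR using 1
      rw [show x = P * (P⁻¹ * x * P) * P⁻¹ by group]
      congr 2
      refine Units.ext ?_
      rw [hxd, hw.val_X]
      ext i j
      fin_cases i <;> fin_cases j <;> simp [pow_succ])
  -- an element shifting the axes by one
  obtain ⟨z, hz, s, c, hc, hent, hs⟩ : ∃ z ∈ R', ∃ (s : Equiv.Perm (Fin 3)) (c : Fin 3 → F),
      (∀ i, c i ^ 3 = 1) ∧ (∀ i j, z.val i j = if i = s j then c j else 0) ∧ s ≠ 1 := by
    by_contra! hno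
    have hdiag : ∀ t ∈ R, ∃ c : Fin 3 → F, (P⁻¹ * t * P).val = Matrix.diagonal c := by
      intro t ht
      obtain ⟨π, c, hc, he⟩ := hmono t ht
      have hπ : π = 1 := hno _ (mem_map_conj.2 (by rw [inv_inv]; simpa [mul_assoc] using ht)) π c hc he
      refine ⟨c, ?_⟩
      ext i j
      rw [he, hπ, Equiv.Perm.one_apply, Matrix.diagonal_apply]
      split_ifs with e
      · rw [e]
      · rfl
    obtain ⟨a, ha, b, hb, hne⟩ := h.exists_noncomm
    obtain ⟨c, hc⟩ := hdiag a ha
    obtain ⟨d, hd⟩ := hdiag b hb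
    have e : (P⁻¹ * a * P) * (P⁻¹ * b * P) = (P⁻¹ * b * P) * (P⁻¹ * a * P) := Units.ext (by
      rw [Units.val_mul (P⁻¹ * a * P), Units.val_mul (P⁻¹ * b * P), hc, hd, Matrix.diagonal_mul_diagonal,
        Matrix.diagonal_mul_diagonal]
      simp [mul_comm])
    refine hne ?_
    calc a * b = P * ((P⁻¹ * a * P) * (P⁻¹ * b * P)) * P⁻¹ := by group
      _ = b * a := by rw [e]; group
  have hR'SL : R' ≤ SL3 F := fun t ht => by
    obtain ⟨r, hr, rfl⟩ := ht
    rw [MulEquiv.coe_toMonoidHom, MulAut.conj_apply, mem_SL3, det_conj]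
    exact mem_SL3.1 (h.le hr)
  -- commutation with the diagonal generator is scalar
  obtain ⟨μ, hμ⟩ : ∃ μ : F, hw.X.val * z.val = μ • (z.val * hw.X.val) := by
    obtain ⟨r, hr, er⟩ := hz
    obtain ⟨r', hr', er'⟩ := hXR
    obtain ⟨u, -, hu⟩ := comm_factor h.le h.comm hr hr'
    refine ⟨u, ?_⟩
    rw [← er, ← er', MulEquiv.coe_toMonoidHom, MulAut.conj_apply, MulAut.conj_apply, ← Units.val_mul, ← Units.val_mul,
      show P⁻¹ * r' * P⁻¹⁻¹ * (P⁻¹ * r * P⁻¹⁻¹) = P⁻¹ * (r' * r) * P by group,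
      show P⁻¹ * r * P⁻¹⁻¹ * (P⁻¹ * r' * P⁻¹⁻¹) = P⁻¹ * (r * r') * P by group]
    simp only [Units.val_mul] at hu ⊢
    rw [hu, Matrix.mul_smul, Matrix.smul_mul]
  have hX' : hw.X.val = Matrix.diagonal fun i : Fin 3 => η ^ (i : ℕ) := by
    rw [hw.val_X]
    ext i j
    fin_cases i <;> fin_cases j <;> simp [pow_succ]
  have hshift : ∀ j, η ^ ((s j : Fin 3) : ℕ) = μ * η ^ (j : ℕ) := by
    intro j
    have e := congrFun (congrFun hμ (s j)) j
    rw [hX', Matrix.diagonal_mul, Matrix.smul_apply, Matrix.mul_diagonal, hent, if_pos rfl, smul_eq_mul] at e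
    exact mul_right_cancel₀ (fun e0 => by have := hc j; simp [e0] at this : c j ≠ 0) (by linear_combination e)
  have hadd : ∀ j, s j = s 0 + j := by
    intro j
    have e0 : μ = η ^ ((s 0 : Fin 3) : ℕ) := by simpa using (hshift 0).symm
    have e := hshift j
    rw [e0, ← pow_add, pow_eq_pow_mod (((s 0 : Fin 3) : ℕ) + (j : ℕ)) hη.pow_eq_one, ← Fin.val_add] at e
    exact Fin.ext (hη.pow_inj (s j).isLt (Fin.isLt _) e)
  have hzdet : z.val.det = 1 := mem_SL3.1 (hR'SL hz)
  obtain ⟨z₁, hz₁, d, hd, hd1, hz₁v⟩ : ∃ z₁ ∈ R', ∃ d : Fin 3 → F, (∀ i, d i ^ 3 = 1) ∧ d 0 * d 1 * d 2 = 1 ∧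
      z₁.val = !![0, 0, d 2; d 0, 0, 0; 0, d 1, 0] := by
    have h0 : s 0 ≠ 0 := fun e => hs (Equiv.ext fun j => by rw [hadd, e, zero_add]; rfl)
    have hzv : ∀ i j, z.val i j = if i = s 0 + j then c j else 0 := fun i j => by rw [hent, hadd]
    rcases (show s 0 = 1 ∨ s 0 = 2 by omega) with e | e
    · have hv : z.val = !![0, 0, c 2; c 0, 0, 0; 0, c 1, 0] := by
        ext i j
        rw [hzv, e]
        fin_cases i <;> fin_cases j <;> simp
      refine ⟨z, hz, c, hc, ?_, hv⟩
      rw [hv, Matrix.det_fin_three] at hzdet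
      simp at hzdet
      linear_combination hzdet
    · have hv : z.val = !![0, c 1, 0; 0, 0, c 2; c 0, 0, 0] := by
        ext i j
        rw [hzv, e]
        fin_cases i <;> fin_cases j <;> simp
      rw [hv, Matrix.det_fin_three] at hzdet
      simp at hzdet
      refine ⟨z * z, mul_mem hz hz, ![c 0 * c 2, c 1 * c 0, c 2 * c 1], fun i => ?_, ?_, ?_⟩
      · fin_cases i <;> simp [mul_pow, hc]
      · simp
        linear_combination (c 0 * c 1 * c 2 + 1) * hzdet
      · rw [Units.val_mul, hv]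
        ext i j
        fin_cases i <;> fin_cases j <;> simp [Matrix.mul_apply, Fin.sum_univ_three] <;> ring
  obtain ⟨a, -, ha⟩ := hη.eq_pow_of_pow_eq_one (hd 0)
  have hd0 : d 0 ≠ 0 := fun e => by have := hd 0; simp [e] at this
  obtain ⟨b, -, hb⟩ := hη.eq_pow_of_pow_eq_one (ξ := d 1 / d 0) (by rw [div_pow, hd, hd, div_one])
  have hXb : ∀ k : ℕ, (hw.X ^ k).val = !![1, 0, 0; 0, η ^ k, 0; 0, 0, η ^ k * η ^ k] := by
    intro k
    induction k with
    | zero => ext i j; fin_cases i <;> fin_cases j <;> simp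
    | succ k ih =>
      rw [pow_succ, Units.val_mul, ih, hw.val_X]
      ext i j
      fin_cases i <;> fin_cases j <;> simp [Matrix.mul_apply, Fin.sum_univ_three, pow_succ] <;> ring
  set S := hw.X * z₁ * hw.X⁻¹ * z₁⁻¹ with hS
  have hSv : S.val = η • 1 := by
    have e : hw.X.val * z₁.val = η • (z₁.val * hw.X.val) := by
      have := hw.cube
      rw [hz₁v, hw.val_X]
      ext i j
      fin_cases i <;> fin_cases j <;> simp [Matrix.mul_apply, Fin.sum_univ_three] <;>
        first | ring1 | linear_combination -(d 2) * this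
    rw [hS, show hw.X * z₁ * hw.X⁻¹ * z₁⁻¹ = (hw.X * z₁) * (z₁ * hw.X)⁻¹ by group, Units.val_mul, Units.val_mul, e,
      ← Units.val_mul, Matrix.smul_mul, Units.mul_inv]
  have hY : z₁ = S ^ a * cyc3 * hw.X ^ b := by
    refine Units.ext ?_
    rw [Units.val_mul, Units.val_mul, Units.val_pow_eq_pow_val, hSv, smul_pow, one_pow, Matrix.smul_mul, one_mul, hXb,
      hz₁v, Root.val_cyc]
    have e1 : d 1 = η ^ a * η ^ b := by rw [ha, hb]; field_simp
    have e2 : d 2 = η ^ a * (η ^ b * η ^ b) := by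
      have h3 : (η ^ a) ^ 3 = 1 := by rw [ha]; exact hd 0
      have h3' : (η ^ b) ^ 3 = 1 := by rw [hb, div_pow, hd, hd, div_one]
      have hh := hd1
      rw [e1, ← ha] at hh
      linear_combination (η ^ a * (η ^ b * η ^ b)) * hh - d 2 * h3 - (η ^ a) ^ 3 * d 2 * h3'
    ext i j
    fin_cases i <;> fin_cases j <;> simp [Matrix.mul_apply, Fin.sum_univ_three, e1, e2, ha]
  have hYR : (cyc3 : GL (Fin 3) F) ∈ R' := by
    have hSR : S ∈ R' := mul_mem (mul_mem (mul_mem hXR hz₁) (inv_mem hXR)) (inv_mem hz₁)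
    have := mul_mem (mul_mem (inv_mem (pow_mem hSR a)) hz₁) (inv_mem (pow_mem hXR b))
    rwa [hY, show (S ^ a)⁻¹ * (S ^ a * cyc3 * hw.X ^ b) * (hw.X ^ b)⁻¹ = cyc3 by group] at this
  refine ⟨η, hw, P, ?_⟩
  have back : ∀ t ∈ R', P * t * P⁻¹ ∈ R := by
    rintro _ ⟨r, hr, rfl⟩
    simpa [mul_assoc] using hr
  have hle : hw.group.map (MulAut.conj P).toMonoidHom ≤ R := by
    rw [Root.group, MonoidHom.map_closure, Subgroup.closure_le]
    rintro _ ⟨t, rfl | rfl, rfl⟩
    · exact back _ hXR
    · exact back _ hYR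
  refine h.eq_of_noncomm hle ⟨hw.X, hw.X_mem, rfl⟩ ⟨cyc3, hw.Y_mem, rfl⟩ fun e => hw.noncomm ?_
  rw [← map_mul, ← map_mul] at e
  exact (MulAut.conj P).injective e

end Cfsg.Agent.Lib.SL3Max93.Symp
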