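import Cfsg.Agent.Lib.SL3Max93.Forms

/-!
Trace fields: which subfield groups contain the standard elements.
-/

set_option autoImplicit false
set_option linter.unusedSectionVars false
set_option linter.style.haveILetI false

namespace Cfsg.Agent.Lib.SL3Max93

open Cfsg.Geo Matrix
open Cfsg.Agent.Lib.TransvThree

variable {F : Type*} [Field F] [Fintype F] {F₁ : Subfield F} {P : GL (Fin 3) F}

theorem three_mem (F₁ : Subfield F) : (3 : F) ∈ F₁ := by exact_mod_cast natCast_mem F₁ 3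

theorem trace_upp_low (a b c a' b' c' : F) :
    ((upp a b c).val * (low a' b' c').val).trace = 3 + a * a' + b * b' + c * c' := by
  simp [upp, low, Matrix.trace, Matrix.mul_apply, Fin.sum_univ_three]
  ring

theorem le_of_roots (hq : 3 ≤ Fintype.card F) {F₀ : Subfield F}
    (hu : ∀ a ∈ F₀, upp 0 0 a ∈ subfieldSubgroup F₁ P) (hl : low 0 0 1 ∈ subfieldSubgroup F₁ P) : F₀ ≤ F₁ := by
  intro a ha
  have h := trace_mem hq (hu a ha) hl (unip_upp 0 0 a) (unip_low 0 0 1)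
  rw [trace_upp_low, mul_zero, add_zero, add_zero, mul_one] at h
  simpa using F₁.sub_mem h (three_mem F₁)

theorem eq_top_of_orth (hq : 3 ≤ Fintype.card F) (h2 : (2 : F) ≠ 0)
    (hu : ∀ t, orthU t ∈ subfieldSubgroup F₁ P) (hl : orthL 1 ∈ subfieldSubgroup F₁ P) : F₁ = ⊤ := by
  have g : ∀ t : F, 3 + -4 * t + t ^ 2 ∈ F₁ := fun t => by
    have h := trace_mem hq (hu t) hl (unip_upp _ _ _) (unip_low _ _ _)
    rw [orthU, orthL, trace_upp_low] at h
    convert h using 1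
    ring
  have h2F : (2 : F) ∈ F₁ := by exact_mod_cast natCast_mem F₁ 2
  have key : ∀ t : F, 2 * t ∈ F₁ := fun t => by
    have := F₁.add_mem (F₁.sub_mem (F₁.sub_mem (g (t + 1)) (g t)) (g 1)) (g 0)
    convert this using 1
    ring
  refine (eq_top_iff (a := F₁)).2 fun x _ => ?_
  have := F₁.mul_mem (F₁.inv_mem h2F) (key x)
  rwa [inv_mul_cancel_left₀ h2] at this

theorem eq_top_of_unit {σ : F ≃+* F} (hσ : ∀ a, σ (σ a) = a) (hne : σ ≠ RingEquiv.refl F)
    (hq : 3 ≤ Fintype.card F) (hu : ∀ b c, c + σ c + b * σ b = 0 → unitU σ b c ∈ subfieldSubgroup F₁ P)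
    (hl : ∀ c, c + σ c = 0 → unitL σ 0 c ∈ subfieldSubgroup F₁ P) : F₁ = ⊤ := by
  have hf := unitH_isUnitary hσ hne
  obtain ⟨e, he0, he⟩ := Cfsg.Agent.Lib.Subspaces.UnitaryForm.exists_skew_scalar hf
  refine (eq_top_iff (a := F₁)).2 fun x _ => ?_
  obtain ⟨b, hb⟩ := Cfsg.Agent.Lib.Subspaces.UnitaryForm.exists_norm hf
    (r := -(x / e + σ (x / e))) (by rw [map_neg, map_add, hσ, add_comm])
  have h := trace_mem hq (hu b (x / e) (by rw [hb]; ring)) (hl e he) (unip_upp _ _ _) (unip_low _ _ _)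
  rw [unitU, unitL, trace_upp_low, map_zero, neg_zero, mul_zero, mul_zero, add_zero, add_zero,
    div_mul_cancel₀ x he0] at h
  simpa using F₁.sub_mem h (three_mem F₁)

theorem commutator_entries {x y : GL (Fin 3) F} (hx : x ∈ subfieldSubgroup F₁ P)
    (hy : y ∈ subfieldSubgroup F₁ P) (i j : Fin 3) :
    ((P⁻¹ * (x * y * x⁻¹ * y⁻¹) * P : GL (Fin 3) F) : Matrix (Fin 3) (Fin 3) F) i j ∈ F₁ := by
  obtain ⟨t, h, e⟩ := split_of_subfield le_rfl hx
  obtain ⟨s, k, e'⟩ := split_of_subfield le_rfl hy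
  have e'' : P⁻¹ * (x * y * x⁻¹ * y⁻¹) * P = glEmb F₁ (h * k * h⁻¹ * k⁻¹) := by
    have h1 : P⁻¹ * (x * y * x⁻¹ * y⁻¹) * P =
        (P⁻¹ * x * P) * (P⁻¹ * y * P) * (P⁻¹ * x * P)⁻¹ * (P⁻¹ * y * P)⁻¹ := by group
    rw [h1, e, e', map_mul, map_mul, map_mul, map_inv, map_inv]
    have cc : ∀ (u : Fˣ) (g : GL (Fin 3) F), scal u * g * (scal u)⁻¹ = g := fun u g => by
      rw [scal_comm, mul_inv_cancel_right]
    calc scal t * glEmb F₁ h * (scal s * glEmb F₁ k) * (scal t * glEmb F₁ h)⁻¹ * (scal s * glEmb F₁ k)⁻¹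
        = scal t * (glEmb F₁ h * (scal s * glEmb F₁ k) * (glEmb F₁ h)⁻¹) * (scal t)⁻¹ *
            (glEmb F₁ k)⁻¹ * (scal s)⁻¹ := by group
      _ = glEmb F₁ h * (scal s * glEmb F₁ k) * (glEmb F₁ h)⁻¹ * (glEmb F₁ k)⁻¹ * (scal s)⁻¹ := by rw [cc]
      _ = scal s * (glEmb F₁ h * glEmb F₁ k * (glEmb F₁ h)⁻¹ * (glEmb F₁ k)⁻¹) * (scal s)⁻¹ := by
          rw [← mul_assoc (glEmb F₁ h) (scal s), ← scal_comm s (glEmb F₁ h)]; group
      _ = glEmb F₁ h * glEmb F₁ k * (glEmb F₁ h)⁻¹ * (glEmb F₁ k)⁻¹ := cc _ _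
  rw [e'']
  exact (((h * k * h⁻¹ * k⁻¹ : GL (Fin 3) F₁) : Matrix (Fin 3) (Fin 3) F₁) i j).2

theorem mono_not_subfield (h5 : 5 ≤ Fintype.card F) {r : ℕ} (hr : r.Prime)
    (hc : Fintype.card F = Nat.card F₁ ^ r) (hM : monoStd F ⊓ SL3 F ≤ subfieldSubgroup F₁ P) : False := by
  classical
  have key : ∀ a : Fˣ, (a : F) + (a : F)⁻¹ ∈ F₁ := fun a => by
    have hd : diag3 (a : F) 1 (a : F)⁻¹ (by rw [mul_one, mul_inv_cancel₀ a.ne_zero]) ∈ subfieldSubgroup F₁ P :=
      hM ⟨diag3_mem _ _ _ _, mk1_mem _ _⟩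
    have hs : (swap01 : GL (Fin 3) F) ∈ subfieldSubgroup F₁ P := hM ⟨swap01_mem, mk1_mem _ _⟩
    have e := commutator_entries hs hd
    have htr : ((swap01 * diag3 (a : F) 1 (a : F)⁻¹ (by rw [mul_one, mul_inv_cancel₀ a.ne_zero]) * swap01⁻¹ *
        (diag3 (a : F) 1 (a : F)⁻¹ (by rw [mul_one, mul_inv_cancel₀ a.ne_zero]))⁻¹ : GL (Fin 3) F) :
          Matrix (Fin 3) (Fin 3) F).trace = (a : F)⁻¹ + a + 1 := by
      have e1 : (swap01 : GL (Fin 3) F)⁻¹ = swap01 := inv_eq_of_mul_eq_one_right (Units.ext (by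
        ext i j; fin_cases i <;> fin_cases j <;> simp [swap01, Matrix.mul_apply, Fin.sum_univ_three]))
      have e2 : (diag3 (a : F) 1 (a : F)⁻¹ (by rw [mul_one, mul_inv_cancel₀ a.ne_zero]))⁻¹ =
          diag3 (a : F)⁻¹ 1 (a : F) (by rw [mul_one, inv_mul_cancel₀ a.ne_zero]) :=
        inv_eq_of_mul_eq_one_right (Units.ext (by
          ext i j; fin_cases i <;> fin_cases j <;> simp [diag3, Matrix.mul_apply, Fin.sum_univ_three]))
      rw [e1, e2]
      simp [swap01, diag3, Matrix.trace, Matrix.mul_apply, Fin.sum_univ_three]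
    have h3 : ((a : F)⁻¹ + a + 1) ∈ F₁ := by
      rw [← htr, ← trace_conj P⁻¹, inv_inv, ← Units.val_mul, ← Units.val_mul]
      exact Subfield.sum_mem _ fun i _ => e i i
    have := F₁.sub_mem h3 F₁.one_mem
    convert this using 1
    ring
  let g : Fˣ → F₁ := fun a => ⟨_, key a⟩
  letI : Fintype F₁ := Fintype.ofFinite _
  have hfib : ∀ b ∈ (Finset.univ : Finset F₁), (Finset.univ.filter fun a => g a = b).card ≤ 2 := by
    intro b _
    by_contra hlt
    obtain ⟨x, y, z, hx, hy, hz, hxy, hxz, hyz⟩ := Finset.two_lt_card_iff.1 (Nat.lt_of_not_ge hlt)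
    simp only [Finset.mem_filter, Finset.mem_univ, true_and] at hx hy hz
    have e1 : ∀ u v : Fˣ, g u = g v → u ≠ v → (u : F) * v = 1 := fun u v e huv => by
      have e' : (u : F) + (u : F)⁻¹ = v + (v : F)⁻¹ := congrArg Subtype.val e
      have : ((u : F) - v) * ((u : F) * v - 1) = 0 := by
        field_simp at e'
        linear_combination e'
      exact sub_eq_zero.1 ((mul_eq_zero.1 this).resolve_left fun h => huv (Units.ext (sub_eq_zero.1 h)))
    have h1 := e1 x y (hx.trans hy.symm) hxy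
    have h2 := e1 x z (hx.trans hz.symm) hxz
    exact hyz (Units.ext (mul_left_cancel₀ x.ne_zero (h1.trans h2.symm)))
  have hcard := Finset.card_le_mul_card_image_of_maps_to (s := (Finset.univ : Finset Fˣ))
    (t := (Finset.univ : Finset F₁)) (f := g) (fun _ _ => Finset.mem_univ _) 2 hfib
  rw [Finset.card_univ, Finset.card_univ, Fintype.card_units, ← Nat.card_eq_fintype_card (α := F₁)] at hcard
  have h2 := card_subfield_ge F₁
  have hsq : Nat.card F₁ ^ 2 ≤ Fintype.card F := hc ▸ Nat.pow_le_pow_right (by omega) hr.two_le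
  have hq0 : Nat.card F₁ = 2 := by nlinarith [Nat.sub_add_cancel (show 1 ≤ Fintype.card F by omega)]
  rw [hq0] at hcard hc
  obtain rfl | h3 := eq_or_lt_of_le hr.two_le
  · norm_num at hc; omega
  · have := Nat.pow_le_pow_right (show 1 ≤ 2 by norm_num) (show 3 ≤ r from h3)
    omega

end Cfsg.Agent.Lib.SL3Max93
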