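import Cfsg.Agent.Lib.SL3Max93.Residual
import Cfsg.Agent.Lib.SL3Max93.SympStd
import Cfsg.Agent.Lib.SL3Max93.TraceField
import Cfsg.Agent.Lib.SL3Max93.Singer
import Cfsg.Agent.S5775

/-!
Common tools for the maximality of the geometric members in `SL 3 (F)`.
-/

set_option autoImplicit false
set_option linter.unusedSectionVars false
set_option linter.style.haveILetI false

namespace Cfsg.Agent.Lib.SL3Max93

open Cfsg.Geo Matrix
open Cfsg.Agent.Lib.PrimeDim.Basic

variable {F : Type*} [Field F] [Fintype F]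

/-- An irreducible group lies in no stabiliser of a proper subspace. -/
theorem not_le_stab {H : Subgroup (GL (Fin 3) F)} (h : Irred H) {W : Submodule F (Fin 3 → F)} (hb : W ≠ ⊥)
    (ht : W ≠ ⊤) : ¬ H ≤ subspaceStabilizer W := fun hle => by
  rcases h W fun g hg w hw => (hle hg w).mp hw with e | e
  · exact hb e
  · exact ht e

/-- A prime field has no automorphism of order two. -/
theorem not_prime_of_unitary {σ : F ≃+* F} (hne : σ ≠ RingEquiv.refl F) {p : ℕ} (hp : p.Prime)
    (hF : Fintype.card F = p) : False := by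
  haveI := Fact.mk hp
  haveI : CharP F p := by
    obtain ⟨r, hr⟩ := CharP.exists F
    obtain ⟨n, hrp, hn⟩ := FiniteField.card F r
    rw [hF] at hn
    rwa [(Nat.prime_dvd_prime_iff_eq hrp hp).mp (hn ▸ dvd_pow_self r n.ne_zero)] at hr
  refine hne (RingEquiv.ext fun x => ?_)
  obtain ⟨k, rfl⟩ := ((Fintype.bijective_iff_injective_and_card (ZMod.castHom dvd_rfl F : ZMod p →+* F)).mpr
    ⟨RingHom.injective _, by rw [ZMod.card, hF]⟩).2 x
  exact RingHom.congr_fun
    (Subsingleton.elim ((σ : F →+* F).comp (ZMod.castHom dvd_rfl F)) (ZMod.castHom dvd_rfl F : ZMod p →+* F)) k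

theorem not_prime_of_subfield {F₀ : Subfield F} {r p : ℕ} (hr : r.Prime) (hp : p.Prime)
    (hF : Fintype.card F = p) (hc : Fintype.card F = Nat.card F₀ ^ r) : False := by
  rw [hF] at hc
  exact (Nat.Prime.not_prime_pow hr.two_le) (hc ▸ hp)

/-- Subfields of prime index that are comparable are equal. -/
theorem subfield_eq {F₀ F₁ : Subfield F} (hle : F₀ ≤ F₁) {r r' : ℕ} (hr : r.Prime) (hr' : r'.Prime)
    (hc : Fintype.card F = Nat.card F₀ ^ r) (hc' : Fintype.card F = Nat.card F₁ ^ r') : F₀ = F₁ := by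
  letI : Algebra F₀ F₁ := (Subfield.inclusion hle).toAlgebra
  have he := Module.natCard_eq_pow_finrank (K := F₀) (V := F₁)
  set n := Module.finrank F₀ F₁
  rw [he, ← pow_mul, hc] at hc'
  have h2 : 2 ≤ Nat.card F₀ := card_subfield_ge F₀
  have hn : r = n * r' := Nat.pow_right_injective h2 hc'
  have hn1 : n = 1 := by
    rcases (Nat.dvd_prime hr).mp (Dvd.intro r' hn.symm) with e | e
    · exact e
    · exfalso
      rw [e] at hn
      have := hr'.two_le
      have := hr.pos
      nlinarith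
  rw [hn1, pow_one] at he
  exact SetLike.coe_injective (Set.eq_of_subset_of_ncard_le hle (le_of_eq (by
    rw [← Nat.card_coe_set_eq, ← Nat.card_coe_set_eq]; exact he)) (Set.toFinite _))

theorem map_conj_one (X : Subgroup (GL (Fin 3) F)) : X.map (MulAut.conj (1 : GL (Fin 3) F)).toMonoidHom = X := by
  ext x
  rw [mem_map_conj]
  simp

/-- Normalisers of conjugate groups are conjugate. -/
theorem normalizer_conj (R : Subgroup (GL (Fin 3) F)) (P : GL (Fin 3) F) :
    (subgroupNormalizer R).map (MulAut.conj P).toMonoidHom =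
      subgroupNormalizer (R.map (MulAut.conj P).toMonoidHom) := by
  ext g
  rw [mem_map_conj]
  constructor
  · intro hg
    refine Subgroup.mem_normalizer_iff.mpr fun x => ?_
    show x ∈ R.map _ ↔ g * x * g⁻¹ ∈ R.map _
    rw [mem_map_conj, mem_map_conj,
      show P⁻¹ * (g * x * g⁻¹) * P = P⁻¹ * g * P * (P⁻¹ * x * P) * (P⁻¹ * g * P)⁻¹ by group]
    exact Subgroup.mem_normalizer_iff.mp hg _
  · intro hg
    refine Subgroup.mem_normalizer_iff.mpr fun x => ?_
    have h := Subgroup.mem_normalizer_iff.mp hg (P * x * P⁻¹)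
    change P * x * P⁻¹ ∈ R.map _ ↔ g * (P * x * P⁻¹) * g⁻¹ ∈ R.map _ at h
    rw [mem_map_conj, mem_map_conj, show P⁻¹ * (P * x * P⁻¹) * P = x by group,
      show P⁻¹ * (g * (P * x * P⁻¹) * g⁻¹) * P = P⁻¹ * g * P * x * (P⁻¹ * g * P)⁻¹ by group] at h
    exact h

/-- A member is maximal as soon as each maximal subgroup containing it equals it. -/
theorem member_maximal {M : Subgroup (GL (Fin 3) F)} (hnot : ¬ SL3 F ≤ M)
    (h : ∀ L, IsMaximalIn (SL3 F) L → M ⊓ SL3 F ≤ L → L ≤ M ⊓ SL3 F) : IsMaximalIn (SL3 F) (M ⊓ SL3 F) :=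
  isMaximalIn_of_cases inf_le_right (fun e => hnot (e.trans inf_le_left)) h

theorem card_three : 3 ≤ Fintype.card (Fin 3) := by simp

theorem two_ne_zero_of_odd (ho : Odd (Fintype.card F)) : (2 : F) ≠ 0 :=
  Cfsg.Agent.Lib.Subspaces.OrthForm.two_ne_zero_of_odd ho

/-- The characteristic and the size. -/
theorem three_le_of_odd (ho : Odd (Fintype.card F)) : 3 ≤ Fintype.card F := by
  have := Fintype.one_lt_card (α := F)
  obtain ⟨k, hk⟩ := ho
  omega

end Cfsg.Agent.Lib.SL3Max93
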