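import Cfsg.Agent.Lib.SL3Max93.Basic
import Cfsg.Agent.Lib.SU3Max96.Basic

/-!
Cubic subfields of the matrix algebra and their normalisers.
-/

set_option autoImplicit false
set_option linter.unusedSectionVars false
set_option linter.style.haveILetI false

namespace Cfsg.Agent.Lib.SL3Max93.FieldAlg

open Cfsg.Geo Matrix

variable {F : Type*} [Field F] [Fintype F] {K : Subalgebra F (Matrix (Fin 3) (Fin 3) F)}

theorem exists_apply (hK : IsFieldSubalgebra 3 K) {v : Fin 3 → F} (hv : v ≠ 0) (w : Fin 3 → F) :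
    ∃ k ∈ K, k *ᵥ v = w := by
  let L : K →ₗ[F] (Fin 3 → F) :=
    { toFun := fun k => k.1 *ᵥ v
      map_add' := fun a b => by simp [Matrix.add_mulVec]
      map_smul' := fun r a => by simp [Matrix.smul_mulVec] }
  have hinj : Function.Injective L := by
    rw [← LinearMap.ker_eq_bot, eq_bot_iff]
    intro k hk
    rw [Submodule.mem_bot]
    by_contra hne
    obtain ⟨y, -, hy⟩ := hK.inv k.1 k.2 (fun h => hne (Subtype.ext h))
    exact hv (by rw [← Matrix.one_mulVec v, ← mul_eq_one_comm.mp hy, ← Matrix.mulVec_mulVec,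
      show k.1 *ᵥ v = 0 from hk, Matrix.mulVec_zero])
  obtain ⟨k, hk⟩ := (LinearMap.injective_iff_surjective_of_finrank_eq_finrank
    (by rw [hK.finrank_eq, Module.finrank_fin_fun])).mp hinj w
  exact ⟨k.1, k.2, hk⟩

theorem mem_of_commute (hK : IsFieldSubalgebra 3 K) {g : Matrix (Fin 3) (Fin 3) F}
    (hg : ∀ k ∈ K, g * k = k * g) : g ∈ K := by
  have hv : (Pi.single 0 1 : Fin 3 → F) ≠ 0 := by simp
  obtain ⟨k, hk, e⟩ := exists_apply hK hv (g *ᵥ Pi.single 0 1)
  have h := Cfsg.Agent.Lib.SU3Max96.scalar_of_field_eigen hK (g := g - k)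
    (fun x hx => by rw [Matrix.sub_mul, Matrix.mul_sub, hg x hx, hK.comm k hk x hx]) hv (l := 0)
    (by rw [Matrix.sub_mulVec, e, sub_self, zero_smul])
  rw [zero_smul, sub_eq_zero] at h
  exact h ▸ hk

/-- A member with an eigenvector is scalar. -/
theorem scalar_of_mem (hK : IsFieldSubalgebra 3 K) {g : Matrix (Fin 3) (Fin 3) F} (hg : g ∈ K)
    {v : Fin 3 → F} (hv : v ≠ 0) {l : F} (h : g *ᵥ v = l • v) : g = l • 1 :=
  Cfsg.Agent.Lib.SU3Max96.scalar_of_field_eigen hK (fun k hk => hK.comm g hg k hk) hv h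

/-- A non-scalar member generates. -/
theorem le_of_nonscalar (hK : IsFieldSubalgebra 3 K) {k : Matrix (Fin 3) (Fin 3) F} (hk : k ∈ K)
    (hns : ∀ c : F, k ≠ c • 1) {S : Subalgebra F (Matrix (Fin 3) (Fin 3) F)} (hkS : k ∈ S) : K ≤ S := by
  classical
  haveI : Nontrivial K :=
    ⟨⟨0, 1, fun h => zero_ne_one (congrArg Subtype.val h : (0 : Matrix (Fin 3) (Fin 3) F) = 1)⟩⟩
  have hKf : IsField K :=
    ⟨exists_pair_ne K, fun a b => Subtype.ext (hK.comm a a.2 b b.2), fun {a} ha => by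
      obtain ⟨y, hy, hxy⟩ := hK.inv a a.2 (fun h => ha (Subtype.ext h))
      exact ⟨⟨y, hy⟩, Subtype.ext hxy⟩⟩
  letI : Field K := hKf.toField
  set z : K := ⟨k, hk⟩
  have hint : IsIntegral F z := IsIntegral.of_finite F z
  have hdeg : (minpoly F z).natDegree = 3 := by
    have h1 := minpoly.degree_dvd hint
    rw [hK.finrank_eq] at h1
    rcases (Nat.dvd_prime Nat.prime_three).mp h1 with h | h
    · obtain ⟨c, hc⟩ := minpoly.natDegree_eq_one_iff.mp h
      exact absurd (congrArg Subtype.val hc).symm (fun e => hns c (e.trans (Algebra.algebraMap_eq_smul_one c)))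
    · exact h
  have hli : LinearIndependent F fun i : Fin 3 => z ^ (i : ℕ) :=
    (linearIndependent_pow (K := F) z).comp (Fin.cast hdeg.symm) (Fin.cast_injective _)
  have hspan := hli.span_eq_top_of_card_eq_finrank (by rw [hK.finrank_eq, Fintype.card_fin])
  intro x hx
  have hmem : (⟨x, hx⟩ : K) ∈ Submodule.span F (Set.range fun i : Fin 3 => z ^ (i : ℕ)) := by
    rw [hspan]; trivial
  suffices ∀ y ∈ Submodule.span F (Set.range fun i : Fin 3 => z ^ (i : ℕ)), y.1 ∈ S from this _ hmem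
  intro y hy
  induction hy using Submodule.span_induction with
  | mem y hy =>
    obtain ⟨i, rfl⟩ := hy
    rw [SubmonoidClass.coe_pow]
    exact pow_mem hkS _
  | zero => exact zero_mem S
  | add a b _ _ ha hb => exact add_mem ha hb
  | smul c a _ ha => exact Subalgebra.smul_mem S ha c

/-- Conjugation as an automorphism of the subfield. -/
def autHom (K : Subalgebra F (Matrix (Fin 3) (Fin 3) F)) : subalgebraNormalizer K →* (K ≃ₐ[F] K) :=
  MonoidHom.mk' (fun g => AlgEquiv.ofRingEquiv (f :=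
    { toFun := fun k => ⟨(g : GL (Fin 3) F).val * k.1 * ((g : GL (Fin 3) F)⁻¹).val, (g.2 k.1).1 k.2⟩
      invFun := fun k => ⟨((g : GL (Fin 3) F)⁻¹).val * k.1 * (g : GL (Fin 3) F).val, by
        rw [g.2]; simpa [mul_assoc] using k.2⟩
      left_inv := fun k => Subtype.ext (by simp [mul_assoc])
      right_inv := fun k => Subtype.ext (by simp [mul_assoc])
      map_mul' := fun a b => Subtype.ext (by simp [mul_assoc])
      map_add' := fun a b => Subtype.ext (by simp [mul_add, add_mul]) }) (fun c => Subtype.ext (by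
        simp [Algebra.algebraMap_eq_smul_one])))
    (fun a b => AlgEquiv.ext fun k => Subtype.ext (by simp [mul_assoc]))

theorem card_aut (hK : IsFieldSubalgebra 3 K) : Nat.card (K ≃ₐ[F] K) = 3 := by
  classical
  haveI : Nontrivial K :=
    ⟨⟨0, 1, fun h => zero_ne_one (congrArg Subtype.val h : (0 : Matrix (Fin 3) (Fin 3) F) = 1)⟩⟩
  have hKf : IsField K :=
    ⟨exists_pair_ne K, fun a b => Subtype.ext (hK.comm a a.2 b b.2), fun {a} ha => by
      obtain ⟨y, hy, hxy⟩ := hK.inv a a.2 (fun h => ha (Subtype.ext h))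
      exact ⟨⟨y, hy⟩, Subtype.ext hxy⟩⟩
  letI : Field K := hKf.toField
  haveI : Finite K := Module.finite_of_finite F
  rw [IsGalois.card_aut_eq_finrank, hK.finrank_eq]

theorem mem_of_ker (hK : IsFieldSubalgebra 3 K) {g : subalgebraNormalizer K} (hg : autHom K g = 1) :
    ((g : GL (Fin 3) F) : Matrix (Fin 3) (Fin 3) F) ∈ K := by
  refine mem_of_commute hK fun k hk => ?_
  have h := congrArg (fun φ : K ≃ₐ[F] K => (φ ⟨k, hk⟩).1) hg
  have h' : (g : GL (Fin 3) F).val * k * ((g : GL (Fin 3) F)⁻¹).val = k := h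
  conv_rhs => rw [← h']
  simp [mul_assoc]

theorem pow_three_mem (hK : IsFieldSubalgebra 3 K) {g : GL (Fin 3) F}
    (hg : g ∈ subalgebraNormalizer K) : ((g ^ 3 : GL (Fin 3) F) : Matrix (Fin 3) (Fin 3) F) ∈ K := by
  have : autHom K (⟨g, hg⟩ ^ 3) = 1 := by
    rw [map_pow]
    exact (congrArg _ (card_aut hK)).symm.trans pow_card_eq_one'
  simpa using mem_of_ker hK this

theorem scalar_of_eigen (hK : IsFieldSubalgebra 3 K) {g : GL (Fin 3) F}
    (hg : g ∈ subalgebraNormalizer K) {v : Fin 3 → F} (hv : v ≠ 0) {l : F}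
    (h : (g : Matrix (Fin 3) (Fin 3) F) *ᵥ v = l • v) :
    ((g ^ 3 : GL (Fin 3) F) : Matrix (Fin 3) (Fin 3) F) = l ^ 3 • 1 := by
  refine scalar_of_mem hK (pow_three_mem hK hg) hv ?_
  rw [Units.val_pow_eq_pow_val, pow_succ, pow_two, ← Matrix.mulVec_mulVec, ← Matrix.mulVec_mulVec, h,
    Matrix.mulVec_smul, h, Matrix.mulVec_smul, Matrix.mulVec_smul, h, smul_smul, smul_smul]
  ring_nf

theorem eq_one_of_unip (hK : IsFieldSubalgebra 3 K) {g : GL (Fin 3) F}
    (hg : (g : Matrix (Fin 3) (Fin 3) F) ∈ K) (hu : Unip g) : g = 1 := by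
  by_contra hne
  have hne' : (g : Matrix (Fin 3) (Fin 3) F) - 1 ≠ 0 :=
    fun e => hne (Units.ext (by rw [sub_eq_zero.1 e, Units.val_one]))
  obtain ⟨y, -, hy⟩ := hK.inv _ (sub_mem hg (one_mem K)) hne'
  have h := congrArg (fun M => M * (y * y)) hu
  simp only [Matrix.zero_mul] at h
  rw [pow_succ, pow_two, mul_assoc, ← mul_assoc _ y y, hy, one_mul, mul_assoc, hy, mul_one] at h
  exact hne' h

theorem card_unip (hK : IsFieldSubalgebra 3 K) {U : Subgroup (GL (Fin 3) F)}
    (hU : U ≤ subalgebraNormalizer K) (hu : ∀ x ∈ U, Unip x) : Nat.card U ∣ 3 := by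
  have hinj : Function.Injective ((autHom K).comp (Subgroup.inclusion hU)) := by
    rw [← MonoidHom.ker_eq_bot_iff, Subgroup.eq_bot_iff_forall]
    intro g hg
    exact Subtype.ext (eq_one_of_unip hK (mem_of_ker hK hg) (hu _ g.2))
  refine Dvd.dvd.trans ?_ (dvd_of_eq (card_aut hK))
  rw [← Nat.card_congr (MonoidHom.ofInjective hinj).symm.toEquiv]
  exact Subgroup.card_subgroup_dvd_card _

end Cfsg.Agent.Lib.SL3Max93.FieldAlg
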