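import Cfsg.Agent.Lib.SL3Max93.CaseMono
import Cfsg.Agent.Lib.SL3Max93.CaseSinger
import Cfsg.Agent.Lib.SL3Max93.CaseOrth
import Cfsg.Agent.Lib.SL3Max93.CaseUnit
import Cfsg.Agent.Lib.SL3Max93.CaseSymp
import Cfsg.Agent.Lib.GeomSmall.Common

/-!
The geometric members of `SL 3 (F)` are maximal, given the list of maximal subgroups of the residual class.
-/

set_option autoImplicit false

namespace Cfsg.Agent.Lib.SL3Max93

open Cfsg.Geo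

/-- The geometric types are maximal. -/
theorem all_maximal {F : Type*} [Field F] [Fintype F] (hRes : Res F) :
    (∀ W : Submodule F (Fin 3 → F), W ≠ ⊥ → W ≠ ⊤ → Cfsg.Geo.IsMaximalIn (Cfsg.Geo.specialLinear (Fin 3) F) (Cfsg.Geo.subspaceStabilizer W ⊓ Cfsg.Geo.specialLinear (Fin 3) F)) ∧
    (5 ≤ Fintype.card F → ∀ D : Fin 3 → Submodule F (Fin 3 → F), Cfsg.Geo.IsMDecomposition 1 D → Cfsg.Geo.IsMaximalIn (Cfsg.Geo.specialLinear (Fin 3) F) (Cfsg.Geo.decompositionStabilizer D ⊓ Cfsg.Geo.specialLinear (Fin 3) F)) ∧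
    (Fintype.card F ≠ 4 → ∀ K : Subalgebra F (Matrix (Fin 3) (Fin 3) F), Cfsg.Geo.IsFieldSubalgebra 3 K → Cfsg.Geo.IsMaximalIn (Cfsg.Geo.specialLinear (Fin 3) F) (Cfsg.Geo.subalgebraNormalizer K ⊓ Cfsg.Geo.specialLinear (Fin 3) F)) ∧
    (∀ (F₀ : Subfield F) (r : ℕ) (P : Matrix.GeneralLinearGroup (Fin 3) F), r.Prime → Fintype.card F = Nat.card F₀ ^ r → Cfsg.Geo.IsMaximalIn (Cfsg.Geo.specialLinear (Fin 3) F) (Cfsg.Geo.subfieldSubgroup F₀ P ⊓ Cfsg.Geo.specialLinear (Fin 3) F)) ∧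
    (∀ (p : ℕ) (R : Subgroup (Matrix.GeneralLinearGroup (Fin 3) F)), p.Prime → Fintype.card F = p → p % 3 = 1 → Cfsg.Geo.IsLinearSymplecticTypeData 3 R → Cfsg.Geo.IsMaximalIn (Cfsg.Geo.specialLinear (Fin 3) F) (Cfsg.Geo.subgroupNormalizer R ⊓ Cfsg.Geo.specialLinear (Fin 3) F)) ∧
    (Odd (Fintype.card F) → ∀ Q : (Fin 3 → F) → F, Cfsg.Geo.IsNondegenerateQuadraticForm Q → Cfsg.Geo.IsMaximalIn (Cfsg.Geo.specialLinear (Fin 3) F) (Cfsg.Geo.quadSimilarityGroup Q ⊓ Cfsg.Geo.specialLinear (Fin 3) F)) ∧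
    (∀ (σ : F ≃+* F) (f : (Fin 3 → F) → (Fin 3 → F) → F), Cfsg.Geo.IsUnitaryForm σ f → Cfsg.Geo.IsMaximalIn (Cfsg.Geo.specialLinear (Fin 3) F) (Cfsg.Geo.similarityGroup f ⊓ Cfsg.Geo.specialLinear (Fin 3) F)) :=
  ⟨fun W h0 h1 => Cfsg.Agent.Lib.GeomSmall.subspace_maximal W h0 h1,
    fun h5 _ hD => mono_maximal hRes h5 hD,
    fun h4 _ hK => field_maximal hRes h4 hK,
    fun _ _ P hr hc => subfield_maximal hRes P hr hc,
    fun _ _ hp hF _ hR => symp_maximal hRes hp hF hR,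
    fun ho _ hQ => orth_maximal hRes ho hQ,
    fun _ _ hf => unit_maximal hRes hf⟩

end Cfsg.Agent.Lib.SL3Max93
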