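import Cfsg.Agent.Lib.SL3Max93.Basic
import Cfsg.Agent.Lib.Subspaces.OrthForm
import Cfsg.Agent.Lib.Subspaces.UnitaryForm

/-!
Standard representatives of the classes: every member of a class is a conjugate of the standard one.
-/

set_option autoImplicit false
set_option linter.unusedSectionVars false
set_option linter.style.haveILetI false

namespace Cfsg.Agent.Lib.SL3Max93

open Cfsg.Geo Matrix

variable {F : Type*} [Field F]

/-- A basis as the columns of an invertible matrix. -/
theorem exists_cols (a b c : Fin 3 → F)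
    (h : ∀ v : Fin 3 → F, v 0 • a + v 1 • b + v 2 • c = 0 → v = 0) :
    ∃ P : GL (Fin 3) F, ∀ v : Fin 3 → F,
      (P : Matrix (Fin 3) (Fin 3) F) *ᵥ v = v 0 • a + v 1 • b + v 2 • c := by
  set M : Matrix (Fin 3) (Fin 3) F := Matrix.of fun i j => ![a, b, c] j i
  have hM : ∀ v : Fin 3 → F, M *ᵥ v = v 0 • a + v 1 • b + v 2 • c := by
    intro v
    funext i
    simp [M, Matrix.mulVec, dotProduct, Fin.sum_univ_three]
    ring
  have hu : IsUnit M := Matrix.mulVec_injective_iff_isUnit.mp fun v w e => sub_eq_zero.1 (h _ (by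
    rw [← hM, Matrix.mulVec_sub, e, sub_self]))
  exact ⟨hu.unit, hM⟩

/-- The coordinate axes. -/
def coordLine (i : Fin 3) : Submodule F (Fin 3 → F) := Submodule.span F {Pi.single i 1}

/-- The monomial group. -/
abbrev monoStd (F : Type*) [Field F] : Subgroup (GL (Fin 3) F) :=
  decompositionStabilizer (coordLine (F := F))

theorem mono_conj {D : Fin 3 → Submodule F (Fin 3 → F)} (hD : IsMDecomposition 1 D) :
    ∃ P : GL (Fin 3) F, (monoStd F).map (MulAut.conj P).toMonoidHom = decompositionStabilizer D := by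
  have hne : ∀ i, D i ≠ ⊥ := fun i hb => by
    have := hD.finrank_eq i
    rw [hb, finrank_bot] at this
    exact zero_ne_one this
  choose v hv hv0 using fun i => Submodule.exists_mem_ne_zero_of_ne_bot (hne i)
  have hli : LinearIndependent F v := hD.indep.linearIndependent _ hv hv0
  have hu : IsUnit (Matrix.of fun a i => v i a : Matrix (Fin 3) (Fin 3) F) :=
    Matrix.linearIndependent_cols_iff_isUnit.mp
      (show LinearIndependent F (Matrix.of fun a i => v i a).col from hli)
  have hP : ∀ i, hu.unit.val *ᵥ Pi.single i 1 = v i := fun i => by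
    rw [Matrix.mulVec_single_one]
    rfl
  refine ⟨hu.unit, ?_⟩
  set P := hu.unit
  have hDi : ∀ i, (coordLine i).map (Matrix.toLin' P.val) = D i := fun i => by
    rw [coordLine, Submodule.map_span, Set.image_singleton, Matrix.toLin'_apply, hP]
    exact Submodule.eq_of_le_of_finrank_le ((Submodule.span_singleton_le_iff_mem _ _).mpr (hv i))
      (by rw [hD.finrank_eq, finrank_span_singleton (hv0 i)])
  have hinj : Function.Injective fun W : Submodule F (Fin 3 → F) => W.map (Matrix.toLin' P.val) :=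
    Submodule.map_injective_of_injective (Matrix.mulVec_injective_of_isUnit P.isUnit)
  have key : ∀ (g : GL (Fin 3) F) (i j : Fin 3),
      (D i).map (Matrix.toLin' g.val) = D j ↔
        (coordLine i).map (Matrix.toLin' (P⁻¹ * g * P).val) = coordLine j := by
    intro g i j
    rw [← hinj.eq_iff (b := coordLine j), ← Submodule.map_comp, ← Matrix.toLin'_mul, ← Units.val_mul,
      show P * (P⁻¹ * g * P) = g * P by group, Units.val_mul, Matrix.toLin'_mul, Submodule.map_comp, hDi, hDi]
  ext g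
  rw [mem_map_conj]
  exact ⟨fun ⟨σ, h⟩ => ⟨σ, fun i => (key g i _).2 (h i)⟩, fun ⟨σ, h⟩ => ⟨σ, fun i => (key g i _).1 (h i)⟩⟩

theorem subfield_conj (F₀ : Subfield F) (P : GL (Fin 3) F) :
    (subfieldSubgroup F₀ 1).map (MulAut.conj P).toMonoidHom = subfieldSubgroup F₀ P := by
  rw [subfieldSubgroup, map_one,
    show (MulEquiv.toMonoidHom (1 : MulAut (GL (Fin 3) F))) = MonoidHom.id _ from rfl, Subgroup.map_id]
  rfl

theorem sim_conj {f g : (Fin 3 → F) → (Fin 3 → F) → F} {P : GL (Fin 3) F} {κ : F} (hκ : κ ≠ 0)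
    (h : ∀ u v, f (P.val *ᵥ u) (P.val *ᵥ v) = κ * g u v) :
    (similarityGroup g).map (MulAut.conj P).toMonoidHom = similarityGroup f := by
  ext x
  rw [mem_map_conj]
  constructor
  · rintro ⟨c, hc⟩
    refine ⟨c, fun u v => ?_⟩
    have e : ∀ w : Fin 3 → F, x.val *ᵥ w = P.val *ᵥ ((P⁻¹ * x * P).val *ᵥ ((P⁻¹).val *ᵥ w)) := fun w => by
      rw [Matrix.mulVec_mulVec, Matrix.mulVec_mulVec, ← Units.val_mul, ← Units.val_mul]
      congr 2
      group
    rw [e u, e v, h, hc, mul_left_comm, ← h, Cfsg.Agent.Lib.PrimeDim.Basic.mulVec_inv_cancel,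
      Cfsg.Agent.Lib.PrimeDim.Basic.mulVec_inv_cancel]
  · rintro ⟨c, hc⟩
    refine ⟨c, fun u v => mul_left_cancel₀ hκ ?_⟩
    have e : ∀ w : Fin 3 → F, P.val *ᵥ ((P⁻¹ * x * P).val *ᵥ w) = x.val *ᵥ (P.val *ᵥ w) := fun w => by
      rw [Matrix.mulVec_mulVec, Matrix.mulVec_mulVec, ← Units.val_mul, ← Units.val_mul]
      congr 2
      group
    rw [← h, e, e, hc, h]
    ring

theorem quad_conj {Q R : (Fin 3 → F) → F} {P : GL (Fin 3) F} {κ : F} (hκ : κ ≠ 0)
    (h : ∀ v, Q (P.val *ᵥ v) = κ * R v) :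
    (quadSimilarityGroup R).map (MulAut.conj P).toMonoidHom = quadSimilarityGroup Q := by
  ext x
  rw [mem_map_conj]
  constructor
  · rintro ⟨c, hc⟩
    refine ⟨c, fun v => ?_⟩
    have e : x.val *ᵥ v = P.val *ᵥ ((P⁻¹ * x * P).val *ᵥ ((P⁻¹).val *ᵥ v)) := by
      rw [Matrix.mulVec_mulVec, Matrix.mulVec_mulVec, ← Units.val_mul, ← Units.val_mul]
      congr 2
      group
    rw [e, h, hc, mul_left_comm, ← h, Cfsg.Agent.Lib.PrimeDim.Basic.mulVec_inv_cancel]
  · rintro ⟨c, hc⟩
    refine ⟨c, fun v => mul_left_cancel₀ hκ ?_⟩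
    have e : P.val *ᵥ ((P⁻¹ * x * P).val *ᵥ v) = x.val *ᵥ (P.val *ᵥ v) := by
      rw [Matrix.mulVec_mulVec, Matrix.mulVec_mulVec, ← Units.val_mul, ← Units.val_mul]
      congr 2
      group
    rw [← h, e, hc, h]
    ring

/-- The standard quadratic form. -/
def orthQ (v : Fin 3 → F) : F := v 0 * v 2 + v 1 ^ 2

/-- The standard hermitian form. -/
def unitH (σ : F ≃+* F) (u v : Fin 3 → F) : F := u 0 * σ (v 2) + u 1 * σ (v 1) + u 2 * σ (v 0)

section orth

open Cfsg.Agent.Lib.Subspaces.OrthForm Cfsg.Agent.Lib.Subspaces.FormVec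

variable [Finite F] {Q : (Fin 3 → F) → F}

local notation "B" => QuadraticMap.polar Q

theorem orth_conj (hQ : IsNondegenerateQuadraticForm Q) (h2 : (2 : F) ≠ 0) :
    ∃ P : GL (Fin 3) F, (quadSimilarityGroup (orthQ (F := F))).map (MulAut.conj P).toMonoidHom =
      quadSimilarityGroup Q := by
  have hb := hQ.polar_bilinear
  obtain ⟨u, hu0, hu, -⟩ := exists_singular_mem hQ h2 (![] : Fin 0 → Fin 3 → F) (by simp)
  obtain ⟨w₀, hw₀⟩ := (hQ.nondegenerate u hu0).1
  set t := (B w₀ u)⁻¹ • w₀ with ht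
  have htu : B t u = 1 := by rw [ht, hb.smul_left, inv_mul_cancel₀ hw₀]
  set e := t + (-(Q t)) • u with he
  have heQ : Q e = 0 := by rw [he, Q_add_smul hQ, hu, htu]; ring
  have huu : B u u = 0 := by rw [B_self hQ, hu, mul_zero]
  have heu : B e u = 1 := by rw [he, hb.add_left, htu, hb.smul_left, huu]; ring
  obtain ⟨x, hx, hxs⟩ := exists_common_zero_not_mem (⊥ : Submodule F (Fin 3 → F))
    ![formVec B u, formVec B e] (by rw [finrank_bot, Fintype.card_fin]; norm_num)
  have hxu : B x u = 0 := by rw [← formVec_dot (bil hQ)]; exact hxs 0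
  have hxe : B x e = 0 := by rw [← formVec_dot (bil hQ)]; exact hxs 1
  have hx0 : x ≠ 0 := by simpa using hx
  have hli : ∀ v : Fin 3 → F, v 0 • u + v 1 • x + v 2 • e = 0 → v = 0 := by
    intro v hv
    have h1 := congrArg (fun y => B y u) hv
    have h2' := congrArg (fun y => B y e) hv
    simp only [hb.add_left, hb.smul_left, huu, hxu, heu, hxe, B_self hQ e, heQ, B_comm u e,
      form_zero_left (bil hQ)] at h1 h2'
    have e2 : v 2 = 0 := by linear_combination h1
    have e0 : v 0 = 0 := by linear_combination h2'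
    rw [e0, e2, zero_smul, zero_smul, zero_add, add_zero, smul_eq_zero_iff_left hx0] at hv
    funext i; fin_cases i <;> assumption
  obtain ⟨P₁, hP₁⟩ := exists_cols u x e hli
  have hxQ : Q x ≠ 0 := by
    intro hxQ
    obtain ⟨⟨y, hy⟩, -⟩ := hQ.nondegenerate x hx0
    apply hy
    rw [← Cfsg.Agent.Lib.PrimeDim.Basic.mulVec_inv_cancel P₁ y, hP₁]
    simp only [hb.add_left, hb.smul_left, B_self hQ, hxQ, B_comm u x, hxu, B_comm e x, hxe]
    ring
  obtain ⟨P, hP⟩ := exists_cols (Q x • u) x e (fun v hv => by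
    have h := hli ![v 0 * Q x, v 1, v 2] (by simpa [mul_smul] using hv)
    have h0 := congrFun h 0
    have h1 := congrFun h 1
    have h2' := congrFun h 2
    simp [hxQ] at h0 h1 h2'
    funext i; fin_cases i <;> assumption)
  refine ⟨P, quad_conj hxQ fun v => ?_⟩
  rw [hP, smul_smul, Q_add_smul hQ, Q_add_smul hQ, hQ.smul, hu, heQ]
  simp only [hb.add_left, hb.smul_left, B_comm u x, hxu, hxe, B_comm u e, heu, orthQ]
  ring

end orth

section unit

open Cfsg.Agent.Lib.Subspaces.UnitaryForm Cfsg.Agent.Lib.Subspaces.FormVec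

variable [Finite F] {σ : F ≃+* F} {f : (Fin 3 → F) → (Fin 3 → F) → F}

theorem unit_conj (hf : IsUnitaryForm σ f) :
    ∃ P : GL (Fin 3) F, (similarityGroup (unitH σ)).map (MulAut.conj P).toMonoidHom = similarityGroup f := by
  obtain ⟨u, huu, huz⟩ := exists_isotropic_one hf (by simp) (z := Pi.single 0 1) (by simp)
  have hu0 : u ≠ 0 := fun e => by rw [e, herm_zero_left hf] at huz; exact zero_ne_one huz
  obtain ⟨e, hee, heu⟩ := exists_isotropic_one hf (by simp) hu0
  have hue : f u e = 1 := by rw [hf.herm, heu, map_one]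
  have hl := isLinearLeft_of_unitary hf
  obtain ⟨x, hx, hxs⟩ := exists_common_zero_not_mem (⊥ : Submodule F (Fin 3 → F))
    ![formVec f u, formVec f e] (by rw [finrank_bot, Fintype.card_fin]; norm_num)
  have hxu : f x u = 0 := by rw [← formVec_dot hl]; exact hxs 0
  have hxe : f x e = 0 := by rw [← formVec_dot hl]; exact hxs 1
  have hx0 : x ≠ 0 := by simpa using hx
  have hli : ∀ v : Fin 3 → F, v 0 • u + v 1 • x + v 2 • e = 0 → v = 0 := by
    intro v hv
    have h1 := congrArg (fun y => f y u) hv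
    have h2' := congrArg (fun y => f y e) hv
    simp only [hf.add_left, hf.smul_left, huu, hxu, heu, hxe, hee, hue, herm_zero_left hf] at h1 h2'
    have e2 : v 2 = 0 := by linear_combination h1
    have e0 : v 0 = 0 := by linear_combination h2'
    rw [e0, e2, zero_smul, zero_smul, zero_add, add_zero, smul_eq_zero_iff_left hx0] at hv
    funext i; fin_cases i <;> assumption
  obtain ⟨P₁, hP₁⟩ := exists_cols u x e hli
  have hxQ : f x x ≠ 0 := by
    intro hxQ
    obtain ⟨⟨y, hy⟩, -⟩ := hf.nondegenerate x hx0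
    apply hy
    rw [← Cfsg.Agent.Lib.PrimeDim.Basic.mulVec_inv_cancel P₁ y, hP₁]
    simp only [hf.add_left, hf.smul_left, hxQ, hf.herm u x, hxu, hf.herm e x, hxe, map_zero]
    ring
  obtain ⟨ν, hν⟩ := exists_norm hf (self_fixed hf x)
  have hν0 : ν ≠ 0 := fun e => hxQ (by rw [← hν, e, zero_mul])
  obtain ⟨P, hP⟩ := exists_cols u (ν⁻¹ • x) e (fun v hv => by
    have h := hli ![v 0, v 1 * ν⁻¹, v 2] (by simpa [mul_smul] using hv)
    have h0 := congrFun h 0
    have h1 := congrFun h 1
    have h2' := congrFun h 2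
    simp [hν0] at h0 h1 h2'
    funext i; fin_cases i <;> assumption)
  refine ⟨P, sim_conj one_ne_zero fun v w => ?_⟩
  rw [hP, hP, smul_smul, smul_smul, one_mul]
  simp only [hf.add_left, hf.smul_left, add_right hf, smul_right hf, huu, hee, heu, hue, hxu, hxe,
    swap_eq_zero hf hxu, swap_eq_zero hf hxe, map_mul, map_inv₀, unitH]
  have hν1 : σ ν ≠ 0 := by simpa using hν0
  rw [← hν]
  field_simp
  ring

theorem sigma_unique {σ' : F ≃+* F} (h : ∀ a, σ (σ a) = a) (hne : σ ≠ RingEquiv.refl F)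
    (h' : ∀ a, σ' (σ' a) = a) (hne' : σ' ≠ RingEquiv.refl F) : σ = σ' := by
  classical
  letI := Fintype.ofFinite F
  obtain ⟨p, hp⟩ := CharP.exists F
  haveI := Fact.mk (CharP.char_is_prime F p)
  letI : Algebra (ZMod p) F := ZMod.algebra F p
  let lift : (F ≃+* F) → (F ≃ₐ[ZMod p] F) := fun τ =>
    AlgEquiv.ofRingEquiv (f := τ) fun c =>
      RingHom.congr_fun (Subsingleton.elim ((τ : F →+* F).comp (algebraMap (ZMod p) F)) (algebraMap (ZMod p) F)) c
  have hlift : ∀ (τ : F ≃+* F) x, lift τ x = τ x := fun τ x => rfl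
  by_contra hne''
  have hsub : ({1, lift σ, lift σ'} : Finset (F ≃ₐ[ZMod p] F)) ⊆
      Finset.univ.filter fun a => a ^ 2 = 1 := by
    intro a ha
    simp only [Finset.mem_insert, Finset.mem_singleton] at ha
    rw [Finset.mem_filter]
    refine ⟨Finset.mem_univ _, ?_⟩
    rcases ha with rfl | rfl | rfl
    · exact one_pow 2
    · exact AlgEquiv.ext fun x => by rw [pow_two, AlgEquiv.mul_apply, hlift, hlift, h, AlgEquiv.one_apply]
    · exact AlgEquiv.ext fun x => by rw [pow_two, AlgEquiv.mul_apply, hlift, hlift, h', AlgEquiv.one_apply]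
  have h3 : ({1, lift σ, lift σ'} : Finset (F ≃ₐ[ZMod p] F)).card = 3 := by
    rw [Finset.card_eq_three]
    refine ⟨_, _, _, fun e => hne ?_, fun e => hne' ?_, fun e => hne'' ?_, rfl⟩
    · exact RingEquiv.ext fun x => (AlgEquiv.congr_fun e.symm x)
    · exact RingEquiv.ext fun x => (AlgEquiv.congr_fun e.symm x)
    · exact RingEquiv.ext fun x => AlgEquiv.congr_fun e x
  have := (Finset.card_le_card hsub).trans (IsCyclic.card_pow_eq_one_le (by norm_num))
  omega

end unit

end Cfsg.Agent.Lib.SL3Max93
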