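import Cfsg.Agent.Lib.SL3Max93.AltSix
import Cfsg.Agent.Lib.SL3Max93.Basic
import Cfsg.Agent.Lib.SU3Max96.Residual

/-!
Maximal subgroups of the residual class of `SL 3 (F)`, given their list: orders of subgroups, and no quaternion
groups.
-/

set_option autoImplicit false
set_option linter.unusedSectionVars false
set_option linter.style.haveILetI false

namespace Cfsg.Agent.Lib.SL3Max93

open Cfsg.Geo Matrix
open Cfsg.Agent.Lib.SU3Max96 (Socle)

variable {F : Type*} [Field F] [Fintype F]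

/-- The list of maximal subgroups of the residual class. -/
def Res (F : Type*) [Field F] [Fintype F] : Prop :=
  ∀ H : Subgroup (GL (Fin 3) F), IsMaximalIn (specialLinear (Fin 3) F) H → InLinearResidualClass H →
    ∃ (P : Subgroup (GL (Fin 3) F)) (p : ℕ), IsResidualCore H P ∧ p.Prime ∧ CharP F p ∧
    ((Nonempty ((P ⧸ (scalars (Fin 3) F).subgroupOf P) ≃* Matrix.ProjectiveSpecialLinearGroup (Fin 3) (ZMod 2)) ∧
        Fintype.card F = p ∧ p ≠ 2 ∧ (p % 7 = 1 ∨ p % 7 = 2 ∨ p % 7 = 4)) ∨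
     (Nonempty ((P ⧸ (scalars (Fin 3) F).subgroupOf P) ≃* alternatingGroup (Fin 6)) ∧
        ((Fintype.card F = p ∧ (p % 15 = 1 ∨ p % 15 = 4)) ∨
          (Fintype.card F = p ^ 2 ∧ p ≠ 3 ∧ (p % 5 = 2 ∨ p % 5 = 3)))))

theorem scalar_pow_three {x : GL (Fin 3) F} (hx : x ∈ SL3 F) (hs : x ∈ scalars (Fin 3) F) : x ^ 3 = 1 := by
  obtain ⟨c, hc⟩ := (mem_scalars_iff x).mp hs
  have hd := mem_SL3.1 hx
  rw [hc, Matrix.det_smul, Matrix.det_one, mul_one, Fintype.card_fin] at hd
  refine Units.ext ?_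
  rw [Units.val_pow_eq_pow_val, hc, smul_pow, one_pow, hd, one_smul, Units.val_one]

theorem card_scalars_dvd {Z : Subgroup (GL (Fin 3) F)} (hZ : Z ≤ SL3 F) (hs : Z ≤ scalars (Fin 3) F) :
    Nat.card Z ∣ 3 := by
  haveI : IsCyclic (scalars (Fin 3) F) :=
    isCyclic_of_surjective _ (MonoidHom.rangeRestrict_surjective
      (Units.map (Matrix.scalar (Fin 3) : F →+* Matrix (Fin 3) (Fin 3) F).toMonoidHom))
  haveI : IsCyclic Z := isCyclic_of_injective (Subgroup.inclusion hs) (Subgroup.inclusion_injective hs)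
  rw [← IsCyclic.exponent_eq_card]
  exact Monoid.exponent_dvd_of_forall_pow_eq_one fun g => Subtype.ext (scalar_pow_three (hZ g.2) (hs g.2))

/-- A group inside a residual maximal subgroup, with the possible orders. -/
structure InRes (L P : Subgroup (GL (Fin 3) F)) (p : ℕ) : Prop where
  le : L ≤ SL3 F
  core : IsResidualCore L P
  prime : p.Prime
  char : CharP F p
  types : (Nonempty (Socle P ≃* Matrix.ProjectiveSpecialLinearGroup (Fin 3) (ZMod 2)) ∧
        Fintype.card F = p ∧ p ≠ 2 ∧ (p % 7 = 1 ∨ p % 7 = 2 ∨ p % 7 = 4)) ∨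
     (Nonempty (Socle P ≃* alternatingGroup (Fin 6)) ∧
        ((Fintype.card F = p ∧ (p % 15 = 1 ∨ p % 15 = 4)) ∨
          (Fintype.card F = p ^ 2 ∧ p ≠ 3 ∧ (p % 5 = 2 ∨ p % 5 = 3))))

theorem Res.data (h : Res F) {L : Subgroup (GL (Fin 3) F)} (hL : IsMaximalIn (SL3 F) L)
    (hS : InLinearResidualClass L) : ∃ P p, InRes L P p := by
  obtain ⟨P, p, h1, h2, h3, h4⟩ := h L hL hS
  exact ⟨P, p, hL.1.le, h1, h2, h3, h4⟩

namespace InRes

variable {L P : Subgroup (GL (Fin 3) F)} {p : ℕ} (h : InRes L P p)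
include h

theorem card_dvd {A : Subgroup (GL (Fin 3) F)} (hA : A ≤ L) :
    Nat.card A ∣ 3 * Nat.card (MulAut (Socle P)) := by
  obtain ⟨Z, hZA, hZs, he⟩ := SU3Max96.Residual.card_dvd_kernel h.core hA
  rw [he]
  exact mul_dvd_mul (card_scalars_dvd ((hZA.trans hA).trans h.le) hZs) (Subgroup.card_subgroup_dvd_card _)

/-- The order of a subgroup and the field. -/
theorem bound {A : Subgroup (GL (Fin 3) F)} (hA : A ≤ L) :
    (Nat.card A ∣ 1008 ∧ Fintype.card F = p ∧ p ≠ 2 ∧ (p % 7 = 1 ∨ p % 7 = 2 ∨ p % 7 = 4)) ∨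
    (Nat.card A ∣ 4320 ∧ ((Fintype.card F = p ∧ (p % 15 = 1 ∨ p % 15 = 4)) ∨
      (Fintype.card F = p ^ 2 ∧ p ≠ 3 ∧ (p % 5 = 2 ∨ p % 5 = 3)))) := by
  rcases h.types with ⟨⟨e⟩, h1⟩ | ⟨⟨e⟩, h1⟩
  · refine Or.inl ⟨(h.card_dvd hA).trans ((mul_dvd_mul_left 3 ?_).trans (dvd_of_eq (show 3 * 336 = 1008 from rfl))), h1⟩
    rw [Nat.card_congr (MulAut.congr e).toEquiv]
    exact SU3Max96.SmallAut.card_mulAut_L32
  · refine Or.inr ⟨(h.card_dvd hA).trans ((mul_dvd_mul_left 3 ?_).trans (dvd_of_eq (show 3 * 1440 = 4320 from rfl))), h1⟩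
    rw [Nat.card_congr (MulAut.congr e).toEquiv]
    exact SU3Max96.SmallAut.card_mulAut_A6

/-- A residual maximal subgroup contains elements of order `p` only for four field elements. -/
theorem p_part {A : Subgroup (GL (Fin 3) F)} (hA : A ≤ L) (hp : p ∣ Nat.card A) :
    Fintype.card F = 4 ∧ p = 2 ∧ Nat.card A ∣ 4320 := by
  have hpp := h.prime
  have h2 := hpp.two_le
  rcases h.bound hA with ⟨hd, -, hne, h7⟩ | ⟨hd, hc⟩
  · exfalso
    have h1 := hp.trans hd
    rw [show 1008 = 2 ^ 4 * (3 ^ 2 * 7) from rfl] at h1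
    rcases (Nat.Prime.dvd_mul hpp).mp h1 with e | e
    · exact hne ((Nat.prime_dvd_prime_iff_eq hpp Nat.prime_two).mp (hpp.dvd_of_dvd_pow e))
    rcases (Nat.Prime.dvd_mul hpp).mp e with e | e
    · have := (Nat.prime_dvd_prime_iff_eq hpp Nat.prime_three).mp (hpp.dvd_of_dvd_pow e)
      omega
    · have := (Nat.prime_dvd_prime_iff_eq hpp (by norm_num)).mp e
      omega
  · have h1 := hp.trans hd
    rw [show 4320 = 2 ^ 5 * (3 ^ 3 * 5) from rfl] at h1
    have hp235 : p = 2 ∨ p = 3 ∨ p = 5 := by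
      rcases (Nat.Prime.dvd_mul hpp).mp h1 with e | e
      · exact Or.inl ((Nat.prime_dvd_prime_iff_eq hpp Nat.prime_two).mp (hpp.dvd_of_dvd_pow e))
      rcases (Nat.Prime.dvd_mul hpp).mp e with e | e
      · exact Or.inr (Or.inl ((Nat.prime_dvd_prime_iff_eq hpp Nat.prime_three).mp (hpp.dvd_of_dvd_pow e)))
      · exact Or.inr (Or.inr ((Nat.prime_dvd_prime_iff_eq hpp (by norm_num)).mp e))
    rcases hc with ⟨-, h15⟩ | ⟨hF, h3, h5⟩
    · omega
    · obtain rfl : p = 2 := by omega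
      exact ⟨hF, rfl, hd⟩

/-- No quaternion group modulo scalars, except for the smaller socle. -/
theorem no_quaternion {i j : GL (Fin 3) F} (hi : i ∈ L) (hj : j ∈ L) (hij : j * i * j⁻¹ = i⁻¹)
    (hi2 : i * i = j * j) (hns : i * i ∉ scalars (Fin 3) F)
    (hA : Nonempty (Socle P ≃* alternatingGroup (Fin 6))) : False := by
  obtain ⟨e⟩ := hA
  have hfield : (3 : F) ≠ 0 ∧ (5 : F) ≠ 0 := by
    haveI := h.char
    have key : ∀ n : ℕ, n.Prime → n ≠ p → (n : F) ≠ 0 := fun n hn hne h0 =>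
      hne ((Nat.prime_dvd_prime_iff_eq h.prime hn).mp ((CharP.cast_eq_zero_iff F p n).mp h0)).symm
    rcases h.types with ⟨⟨e'⟩, -, -, h7⟩ | ⟨-, h1⟩
    · exfalso
      have h360 : Nat.card (alternatingGroup (Fin 6)) = 360 := by
        rw [nat_card_alternatingGroup, Nat.card_eq_fintype_card, Fintype.card_fin]; rfl
      have h168 : Nat.card (Matrix.ProjectiveSpecialLinearGroup (Fin 3) (ZMod 2)) ∣ 336 := by
        refine Dvd.dvd.trans ?_ SU3Max96.SmallAut.card_mulAut_L32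
        have hinj : Function.Injective
            (MulAut.conj : Matrix.ProjectiveSpecialLinearGroup (Fin 3) (ZMod 2) →* MulAut _) := by
          rw [← MonoidHom.ker_eq_bot_iff]
          haveI : IsSimpleGroup (Matrix.ProjectiveSpecialLinearGroup (Fin 3) (ZMod 2)) := by
            haveI := h.core.simple
            exact IsSimpleGroup.isSimpleGroup_of_surjective (G := Socle P) e'.toMonoidHom e'.surjective
          refine (MonoidHom.normal_ker _).eq_bot_or_eq_top.resolve_right fun htop => h.core.nonabelian ?_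
          refine ⟨⟨fun a b => e'.injective ?_⟩⟩
          have hk : e' a ∈ (MulAut.conj : Matrix.ProjectiveSpecialLinearGroup (Fin 3) (ZMod 2) →* _).ker :=
            htop ▸ Subgroup.mem_top _
          have := congrArg (fun f : MulAut _ => f (e' b)) (MonoidHom.mem_ker.mp hk)
          simp only [MulAut.conj_apply, MulAut.one_apply, mul_inv_eq_iff_eq_mul] at this
          rw [map_mul, map_mul, this]
        rw [Nat.card_congr (MonoidHom.ofInjective hinj).toEquiv]
        exact Subgroup.card_subgroup_dvd_card _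
      rw [← Nat.card_congr e'.toEquiv, Nat.card_congr e.toEquiv, h360] at h168
      norm_num at h168
    · exact ⟨key 3 Nat.prime_three (by omega), key 5 (by norm_num) (by omega)⟩
  set φ := SU3Max96.Residual.modelHom h.core e
  have hinn : ∀ a, MulAut.conj a ∈ φ.range := fun a => by
    obtain ⟨x, hx⟩ := SU3Max96.Residual.modelHom_surj h.core e a
    exact ⟨_, hx⟩
  have h5 : ∀ ψ ∈ φ.range, ∀ a, ψ AltSix.c5 ≠ a * AltSix.c5 ^ 2 * a⁻¹ := by
    rintro _ ⟨g, rfl⟩ a hga
    obtain ⟨t, ht⟩ := SU3Max96.Residual.modelHom_surj h.core e a⁻¹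
    set g' : L := ⟨t.1, h.core.le t.2⟩ * g
    have hg' : φ g' AltSix.c5 = AltSix.c5 ^ 2 := by
      rw [show φ g' = φ ⟨t.1, h.core.le t.2⟩ * φ g from map_mul φ _ _, MulAut.mul_apply, hga, ht, MulAut.conj_apply]
      group
    obtain ⟨x, hx⟩ := QuotientGroup.mk_surjective (e.symm AltSix.c5)
    have hx5 : x.1 ^ 15 = 1 := by
      have h1 : (x ^ 5 : P) ∈ (scalars (Fin 3) F).subgroupOf P := by
        rw [← QuotientGroup.eq_one_iff, QuotientGroup.mk_pow, hx, ← map_pow,
          show AltSix.c5 ^ 5 = 1 by decide +kernel, map_one]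
      have h2 := scalar_pow_three (h.le (h.core.le (x ^ 5).2)) (Subgroup.mem_subgroupOf.mp h1)
      rwa [Subgroup.coe_pow, ← pow_mul] at h2
    obtain ⟨y, hy⟩ : ∃ y : P, y = x ^ 6 := ⟨_, rfl⟩
    have hy5 : y.1 ^ 5 = 1 := by
      rw [hy, Subgroup.coe_pow, ← pow_mul, show 6 * 5 = 15 * 2 from rfl, pow_mul, hx5, one_pow]
    have hey : e (QuotientGroup.mk y) = AltSix.c5 := by
      rw [hy, QuotientGroup.mk_pow, hx, ← map_pow, e.apply_symm_apply]
      decide +kernel
    have hconj : g'.1 * y.1 * g'.1⁻¹ = y.1 ^ 2 := by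
      have h1 : SU3Max96.Residual.autHom h.core g' (QuotientGroup.mk y) = QuotientGroup.mk (y ^ 2) := by
        have h0 : e (SU3Max96.Residual.autHom h.core g' (e.symm AltSix.c5)) = AltSix.c5 ^ 2 := hg'
        rw [show e.symm AltSix.c5 = QuotientGroup.mk y from e.symm_apply_eq.mpr hey.symm] at h0
        apply e.injective
        rw [h0, QuotientGroup.mk_pow, map_pow, hey]
      rw [SU3Max96.Residual.autHom_mk, eq_comm, QuotientGroup.eq, Subgroup.mem_subgroupOf] at h1
      set v := (y.1 ^ 2)⁻¹ * (g'.1 * y.1 * g'.1⁻¹) with hv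
      have hvs : v ∈ scalars (Fin 3) F := h1
      have hgy : g'.1 * y.1 * g'.1⁻¹ = v * y.1 ^ 2 := by
        rw [Cfsg.Agent.Lib.PrimeDim.Symplectic.scalar_comm hvs, hv, mul_inv_cancel_left]
      have hv5 : v ^ 5 = 1 := by
        have h' := congrArg (· ^ 5) hgy
        simp only [conj_pow, hy5, mul_one, mul_inv_cancel] at h'
        rw [(show Commute v (y.1 ^ 2) from Cfsg.Agent.Lib.PrimeDim.Symplectic.scalar_comm hvs _).mul_pow, ← pow_mul,
          mul_comm 2 5, pow_mul, hy5, one_pow, mul_one] at h'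
        exact h'.symm
      have hv3 : v ^ 3 = 1 := scalar_pow_three (mul_mem (inv_mem (pow_mem (h.le (h.core.le y.2)) 2))
        (mul_mem (mul_mem (h.le g'.2) (h.le (h.core.le y.2))) (inv_mem (h.le g'.2)))) hvs
      have hv1 : v = 1 := by
        have h6 : v ^ 6 = 1 := by rw [show 6 = 3 * 2 from rfl, pow_mul, hv3, one_pow]
        rwa [pow_succ, hv5, one_mul] at h6
      rw [hgy, hv1, one_mul]
    have hy1 : y.1 = 1 := SU3Max96.eq_one_of_conj_sq hfield.1 hfield.2
      (mem_SL3.1 (h.le (h.core.le y.2))) hy5 hconj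
    rw [show y = 1 from Subtype.ext hy1, QuotientGroup.mk_one, map_one] at hey
    exact absurd hey (by decide +kernel)
  refine AltSix.no_quaternion hinn h5 (i := φ ⟨i, hi⟩) (j := φ ⟨j, hj⟩) ⟨_, rfl⟩ ⟨_, rfl⟩ ?_ ?_ ?_
  · rw [← map_inv, ← map_mul, ← map_mul, ← map_inv]
    exact congrArg φ (Subtype.ext hij)
  · rw [← map_mul, ← map_mul]
    exact congrArg φ (Subtype.ext hi2)
  · rw [← map_mul]
    exact fun e1 => hns ((SU3Max96.Residual.modelHom_eq_one h.core e _).mp e1)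

end InRes

end Cfsg.Agent.Lib.SL3Max93
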