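import Cfsg.Agent.Lib.SL3Max93.Basic
import Cfsg.Agent.Lib.Aschbacher.Small

/-!
Groups of order `27` of symplectic type in `SL 3 (F)` and their normalisers.
-/

set_option autoImplicit false
set_option linter.unusedSectionVars false
set_option linter.style.haveILetI false

namespace Cfsg.Agent.Lib.SL3Max93.Symp

open Cfsg.Geo Matrix
open Cfsg.Agent.Lib.PrimeDim.Basic Cfsg.Agent.Lib.PrimeDim.Symplectic
open scoped commutatorElement

variable {F : Type*} [Field F]

/-- An extraspecial group of order `27`, absolutely irreducible in `SL 3`. -/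
structure Setup (R : Subgroup (GL (Fin 3) F)) : Prop where
  le : R ≤ SL3 F
  abs : ActsAbsolutelyIrreducibly (matrixSet R)
  comm : ⁅R, R⁆ ≤ scalars (Fin 3) F
  card : Nat.card R = 27
  center : Nat.card (Subgroup.center R) = 3

/-- A group of exponent three in dimension three with a nontrivially moved eigenbasis has order at most `81`. -/
theorem card_le [Fintype F] {R : Subgroup (GL (Fin 3) F)} {w : F} (hw : IsPrimitiveRoot w 3)
    (hexp : ∀ r ∈ R, r ^ 3 = 1) (hZ : Nat.card (Subgroup.center R) = 3)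
    (hcs : ∀ z : R, z ∈ Subgroup.center R → (z : GL (Fin 3) F) ∈ scalars (Fin 3) F) {x y : R}
    (hx : ∀ r : R, r * x * r⁻¹ * x⁻¹ ∈ Subgroup.center R) (hxy : y * x ≠ x * y) : Nat.card R ≤ 81 := by
  classical
  let φ : R →* Subgroup.center R := MonoidHom.mk' (fun r => ⟨r * x * r⁻¹ * x⁻¹, hx r⟩) (fun a b => Subtype.ext (by
    show a * b * x * (a * b)⁻¹ * x⁻¹ = a * x * a⁻¹ * x⁻¹ * (b * x * b⁻¹ * x⁻¹)
    have h2 := Subgroup.mem_center_iff.mp (hx b) (x * a⁻¹ * x⁻¹)
    calc a * b * x * (a * b)⁻¹ * x⁻¹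
        = a * ((b * x * b⁻¹ * x⁻¹) * (x * a⁻¹ * x⁻¹)) := by group
      _ = a * ((x * a⁻¹ * x⁻¹) * (b * x * b⁻¹ * x⁻¹)) := by rw [h2]
      _ = a * x * a⁻¹ * x⁻¹ * (b * x * b⁻¹ * x⁻¹) := by group))
  -- the eigenvalue twist of `y`
  obtain ⟨z, hz⟩ := (mem_scalars_iff _).mp (hcs _ (hx y))
  have hyx : y.1.val * x.1.val = (z : F) • (x.1.val * y.1.val) := by
    have h : y.1 * x.1 = (y * x * y⁻¹ * x⁻¹ : R).1 * (x.1 * y.1) := by
      push_cast; group
    rw [← Units.val_mul, h, Units.val_mul, hz, Matrix.smul_mul, one_mul, Units.val_mul]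
  have hz3 : (z : F) ^ 3 = 1 := by
    have h := congrArg (fun t : GL (Fin 3) F => t.val 0 0) (hexp _ (SetLike.coe_mem (y * x * y⁻¹ * x⁻¹ : R)))
    simp only [Units.val_pow_eq_pow_val, hz, smul_pow, one_pow, Units.val_one] at h
    simpa using h
  have hz1 : (z : F) ≠ 1 := fun e => hxy (Subtype.ext (Units.ext (by
    show (y.1 * x.1).val = (x.1 * y.1).val
    rw [Units.val_mul, hyx, e, one_smul, Units.val_mul])))
  -- an eigenvector of `x`
  obtain ⟨v, hv0, l, hl0, hv⟩ : ∃ (v : Fin 3 → F), v ≠ 0 ∧ ∃ l : F, l ≠ 0 ∧ x.1.val *ᵥ v = l • v := by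
    have hw0 : w ≠ 0 := hw.ne_zero (by norm_num)
    by_contra! hno
    have inj : ∀ l : F, l ≠ 0 → Function.Injective fun v : Fin 3 → F => (x.1.val - l • 1) *ᵥ v := fun l hl a b e => by
      by_contra hne
      refine hno (a - b) (sub_ne_zero.mpr hne) l hl ?_
      rw [← sub_eq_zero, Matrix.mulVec_sub, smul_sub]
      simp only [Matrix.sub_mulVec, Matrix.smul_mulVec, Matrix.one_mulVec] at e
      linear_combination (norm := module) e
    have hprod : (x.1.val - (1 : F) • 1) * ((x.1.val - w • 1) * (x.1.val - (w ^ 2) • 1)) = 0 := by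
      have h3 : x.1.val ^ 3 = 1 := by rw [← Units.val_pow_eq_pow_val, hexp _ x.2, Units.val_one]
      have hs : w ^ 2 + w + 1 = 0 := by
        have h : (w - 1) * (w ^ 2 + w + 1) = 0 := by linear_combination hw.pow_eq_one
        exact (mul_eq_zero.mp h).resolve_left (sub_ne_zero.mpr (hw.ne_one (by norm_num)))
      set M := x.1.val
      have hM : M * (M * M) = 1 := by rw [← h3, pow_succ', pow_two]
      have e1 : w * w ^ 2 = 1 := by rw [← pow_succ', hw.pow_eq_one]
      have hmid : (M - w • 1) * (M - (w ^ 2) • 1) = M * M + M + 1 := by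
        simp only [sub_mul, mul_sub, Matrix.smul_mul, Matrix.mul_smul, one_mul, mul_one, smul_smul, smul_sub]
        rw [show w ^ 2 * w = 1 by linear_combination e1, show w ^ 2 = -1 - w by linear_combination hs]
        module
      rw [hmid, one_smul, sub_mul, one_mul, mul_add, mul_add, mul_one, hM]
      abel
    have h := inj 1 one_ne_zero
    have h0 : (Pi.single 0 1 : Fin 3 → F) = 0 := by
      apply inj _ (pow_ne_zero 2 hw0)
      apply inj _ hw0
      apply inj _ (one_ne_zero (α := F))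
      simp only [Matrix.mulVec_mulVec, Matrix.mulVec_zero]
      rw [hprod, Matrix.zero_mulVec]
    simp at h0
  -- three eigenlines
  let vs : Fin 3 → (Fin 3 → F) := fun k => (y.1.val ^ (k : ℕ)) *ᵥ v
  have hvk : ∀ k : ℕ, x.1.val *ᵥ ((y.1.val ^ k) *ᵥ v) = ((z⁻¹ : Fˣ) : F) ^ k • (l • ((y.1.val ^ k) *ᵥ v)) := by
    intro k
    have hxy' : x.1.val * y.1.val = ((z⁻¹ : Fˣ) : F) • (y.1.val * x.1.val) := by
      rw [hyx, smul_smul, Units.inv_mul, one_smul]
    rw [Matrix.mulVec_mulVec, pow_mul_eq hxy', Matrix.smul_mulVec, ← Matrix.mulVec_mulVec, hv, Matrix.mulVec_smul]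
  have hzi : IsPrimitiveRoot ((z⁻¹ : Fˣ) : F) 3 := by
    haveI : Fact (Nat.Prime 3) := ⟨Nat.prime_three⟩
    refine IsPrimitiveRoot.iff_orderOf.mpr (orderOf_eq_prime ?_ fun e => hz1 ?_)
    · rw [Units.val_inv_eq_inv_val, inv_pow, hz3, inv_one]
    · rw [Units.val_inv_eq_inv_val, inv_eq_one] at e; exact e
  have hinjy : ∀ k : ℕ, (y.1.val ^ k) *ᵥ v ≠ 0 := fun k e => hv0 (by
    rw [← Units.val_pow_eq_pow_val] at e
    rw [← inv_mulVec_cancel (y.1 ^ k) v, e, Matrix.mulVec_zero])
  have hli : LinearIndependent F vs := by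
    refine Module.End.eigenvectors_linearIndependent' (Matrix.toLin' x.1.val)
      (fun k : Fin 3 => ((z⁻¹ : Fˣ) : F) ^ (k : ℕ) * l) ?_ _ fun k => ⟨Module.End.mem_eigenspace_iff.mpr ?_, hinjy _⟩
    · intro a b e
      exact Fin.ext (hzi.pow_inj a.isLt b.isLt (mul_right_cancel₀ hl0 e))
    · rw [Matrix.toLin'_apply, ← smul_smul]; exact hvk k
  have hline : ∀ (c : φ.ker) (k : Fin 3), ∃ a : Fin 3, c.1.1.val *ᵥ vs k = (((z⁻¹ : Fˣ) : F) ^ (a : ℕ)) • vs k := by
    intro c k
    have hcx : c.1 * x * c.1⁻¹ * x⁻¹ = 1 := congrArg Subtype.val (MonoidHom.mem_ker.mp c.2)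
    rw [mul_inv_eq_one, mul_inv_eq_iff_eq_mul] at hcx
    have hcx' : x.1.val * c.1.1.val = c.1.1.val * x.1.val := congrArg (fun t : R => t.1.val) hcx.symm
    have he : x.1.val *ᵥ (c.1.1.val *ᵥ vs k) = (((z⁻¹ : Fˣ) : F) ^ (k : ℕ) * l) • (c.1.1.val *ᵥ vs k) := by
      rw [Matrix.mulVec_mulVec, hcx', ← Matrix.mulVec_mulVec, hvk, smul_smul, Matrix.mulVec_smul]
    set u := c.1.1.val *ᵥ vs k
    let b := basisOfLinearIndependentOfCardEqFinrank hli (by simp)
    have hb : ∀ i, b i = vs i := fun i => by simp [b]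
    obtain ⟨f, hf⟩ : ∃ f : Fin 3 → F, ∑ i, f i • vs i = u :=
      ⟨fun i => b.repr u i, by simpa only [hb] using b.sum_repr u⟩
    have hzero : ∑ i, (f i * (((z⁻¹ : Fˣ) : F) ^ (i : ℕ) - ((z⁻¹ : Fˣ) : F) ^ (k : ℕ)) * l) • vs i = 0 := by
      calc _ = x.1.val *ᵥ u - (((z⁻¹ : Fˣ) : F) ^ (k : ℕ) * l) • u := by
            rw [← hf, Matrix.mulVec_sum, Finset.smul_sum, ← Finset.sum_sub_distrib]
            refine Finset.sum_congr rfl fun i _ => ?_
            rw [Matrix.mulVec_smul, hvk, smul_smul, smul_smul, smul_smul, ← sub_smul]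
            congr 1; ring
        _ = 0 := by rw [he, sub_self]
    have hu' : u = f k • vs k := by
      rw [← hf]
      refine Fintype.sum_eq_single k fun i hi => ?_
      have := Fintype.linearIndependent_iff.mp hli _ hzero i
      simp only [mul_eq_zero, sub_eq_zero, hl0, or_false] at this
      rcases this with h | h
      · rw [h, zero_smul]
      · exact absurd (Fin.ext (hzi.pow_inj i.isLt k.isLt h)) hi
    set m := f k
    have hm : m ^ 3 = 1 := by
      have hp : ∀ n : ℕ, (c.1.1.val ^ n) *ᵥ vs k = m ^ n • vs k := by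
        intro n
        induction n with
        | zero => simp
        | succ n ih => rw [pow_succ, ← Matrix.mulVec_mulVec, show c.1.1.val *ᵥ vs k = u from rfl, hu',
            Matrix.mulVec_smul, ih, smul_smul, pow_succ, mul_comm]
      have h := hp 3
      rw [← Units.val_pow_eq_pow_val, hexp _ c.1.2, Units.val_one, Matrix.one_mulVec] at h
      exact smul_left_injective F (hinjy k) (h.symm.trans (one_smul F _).symm)
    obtain ⟨a, ha, hae⟩ := hzi.eq_pow_of_pow_eq_one hm
    exact ⟨⟨a, ha⟩, by rw [hae]; exact hu'⟩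
  choose ψ hψ using hline
  have hψinj : Function.Injective ψ := fun c d e => by
    refine Subtype.ext (Subtype.ext (Units.ext (Matrix.toLin'.injective ?_)))
    refine (basisOfLinearIndependentOfCardEqFinrank hli (by simp)).ext fun k => ?_
    simp only [coe_basisOfLinearIndependentOfCardEqFinrank, Matrix.toLin'_apply, hψ, e]
  have hk : Nat.card φ.ker ≤ 27 := by
    have := Nat.card_le_card_of_injective ψ hψinj
    simpa [Nat.card_fun] using this
  have hi : φ.ker.index ≤ 3 := by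
    rw [Subgroup.index_ker]
    exact (Subgroup.card_le_card_group _).trans hZ.le
  rw [← φ.ker.card_mul_index]
  exact Nat.mul_le_mul hk hi

/-- The data of the class give the setup. -/
theorem setup_of [Fintype F] {R : Subgroup (GL (Fin 3) F)} (hR : IsLinearSymplecticTypeData 3 R) : Setup R := by
  classical
  haveI : Fact (Nat.Prime 3) := ⟨Nat.prime_three⟩
  obtain ⟨p, hp, hFp, hp3⟩ := Cfsg.Agent.Lib.Aschbacher.data_three hR
  obtain ⟨habs, hsym⟩ := And.intro hR.absIrred hR.symplecticType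
  obtain ⟨hcen, m, hm, hcard⟩ : Nat.card (Subgroup.center R) = 3 ∧ ∃ m, 1 ≤ m ∧ Nat.card R = 3 ^ (1 + 2 * m) := by
    obtain ⟨_, _, -, -, h | h | h⟩ := hR.field
    · exact ⟨h.2.2.1, h.2.2.2⟩
    · exact absurd h.1 (by decide)
    · exact absurd h.1 (by decide)
  have hcs : ∀ z : R, z ∈ Subgroup.center R → (z : GL (Fin 3) F) ∈ scalars (Fin 3) F := by
    intro z hz
    obtain ⟨c, hc⟩ := habs.2 z.1.val fun s hs => by
      obtain ⟨x, hx, rfl⟩ := mem_matrixSet.mp hs
      exact congrArg (fun t : R => t.1.val) ((Subgroup.mem_center_iff.mp hz) ⟨x, hx⟩).symm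
    have hc0 : c ≠ 0 := fun h0 => z.1.ne_zero (by rw [hc, h0, zero_smul])
    exact (mem_scalars_iff _).mpr ⟨Units.mk0 c hc0, hc⟩
  have hexp : ∀ x ∈ R, x ^ 3 = 1 := by
    intro x hx
    have h : Monoid.exponent R = 3 := hsym.exponent_eq.trans (by norm_num)
    have h' := Monoid.pow_exponent_eq_one (⟨x, hx⟩ : R)
    rw [h] at h'
    exact congrArg Subtype.val h'
  obtain ⟨w, hw⟩ : ∃ w : F, IsPrimitiveRoot w 3 := by
    obtain ⟨g, hg⟩ := IsCyclic.exists_ofOrder_eq_natCard (α := Fˣ)
    rw [Nat.card_units, Nat.card_eq_fintype_card, hFp] at hg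
    have := hp.two_le
    have hd : 3 ∣ p - 1 := by omega
    refine ⟨((g ^ ((p - 1) / 3) : Fˣ) : F), IsPrimitiveRoot.iff_orderOf.mpr ?_⟩
    rw [orderOf_units, orderOf_pow, hg, Nat.gcd_eq_right (Nat.div_dvd_of_dvd hd), Nat.div_div_self hd (by omega)]
  -- a noncentral element central modulo the centre
  have h27 : Nat.card R = 27 := by
    have hQ : Nontrivial (R ⧸ Subgroup.center R) := by
      rw [← Finite.one_lt_card_iff_nontrivial]
      have e := (Subgroup.center R).card_mul_index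
      rw [Subgroup.index, hcen, hcard] at e
      have h27 : 3 ^ 3 ≤ 3 ^ (1 + 2 * m) := Nat.pow_le_pow_right (by norm_num) (by omega)
      omega
    obtain ⟨⟨x', hx'⟩, hne⟩ := @exists_ne _ (hsym.pGroup.to_quotient (Subgroup.center R)).center_nontrivial 1
    obtain ⟨x, rfl⟩ := QuotientGroup.mk_surjective x'
    have hxc : x ∉ Subgroup.center R := fun h => hne (Subtype.ext ((QuotientGroup.eq_one_iff x).mpr h))
    obtain ⟨y, hy⟩ : ∃ y : R, y * x ≠ x * y := by
      by_contra! h
      exact hxc (Subgroup.mem_center_iff.mpr h)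
    have hx : ∀ r : R, r * x * r⁻¹ * x⁻¹ ∈ Subgroup.center R := fun r => by
      rw [← QuotientGroup.eq_one_iff]
      have := Subgroup.mem_center_iff.mp hx' (r : R ⧸ Subgroup.center R)
      simp only [QuotientGroup.mk_mul, QuotientGroup.mk_inv]
      rw [this, mul_inv_cancel_right, mul_inv_cancel]
    have h81 := card_le hw hexp hcen hcs hx hy
    rw [hcard] at h81 ⊢
    have : 1 + 2 * m < 5 := (Nat.pow_lt_pow_iff_right (by norm_num : 1 < 3)).mp (lt_of_le_of_lt h81 (by norm_num))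
    rw [show 1 + 2 * m = 3 by omega]
    rfl
  have hcomm : ⁅R, R⁆ ≤ scalars (Fin 3) F := by
    rw [Subgroup.commutator_le]
    intro x hx y hy
    have hQ : Nat.card (R ⧸ Subgroup.center R) = 3 ^ 2 := by
      have h := (Subgroup.center R).card_mul_index
      rw [Subgroup.index, hcen, h27] at h
      omega
    have h := IsPGroup.commutative_of_card_eq_prime_sq hQ
      (QuotientGroup.mk (⟨x, hx⟩ : R)) (QuotientGroup.mk (⟨y, hy⟩ : R))
    have hm : ⁅(⟨x, hx⟩ : R), ⟨y, hy⟩⁆ ∈ Subgroup.center R := by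
      rw [← QuotientGroup.eq_one_iff, ← QuotientGroup.mk'_apply, map_commutatorElement, commutatorElement_eq_one_iff_mul_comm]
      exact h
    exact hcs _ hm
  refine ⟨fun x hx => mem_SL3.2 ?_, habs, hcomm, h27, hcen⟩
  by_cases hxs : x ∈ scalars (Fin 3) F
  · obtain ⟨c, hc⟩ := (mem_scalars_iff x).mp hxs
    have h := congrArg (fun t : GL (Fin 3) F => t.val 0 0) (hexp x hx)
    simp only [Units.val_pow_eq_pow_val, hc, smul_pow, one_pow, Units.val_one] at h
    rw [hc, Matrix.det_smul, Matrix.det_one, mul_one, Fintype.card_fin]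
    simpa using h
  -- a non-scalar element is conjugate to its multiples
  obtain ⟨y, hy, hne⟩ : ∃ y ∈ R, y * x ≠ x * y := by
    by_contra! hall
    exact hxs (hcs ⟨x, hx⟩ (Subgroup.mem_center_iff.mpr fun t => Subtype.ext (hall t.1 t.2)))
  obtain ⟨ω, hω⟩ := (mem_scalars_iff _).mp (hcomm (Subgroup.commutator_mem_commutator hy hx))
  have hω' : (y * x * y⁻¹).val = (ω : F) • x.val := by
    rw [show y * x * y⁻¹ = ⁅y, x⁆ * x by rw [commutatorElement_def]; group, Units.val_mul, hω, Matrix.smul_mul, one_mul]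
  have hω1 : (ω : F) ≠ 1 := fun h1 => hne (by
    rw [h1, one_smul] at hω'
    exact mul_inv_eq_iff_eq_mul.mp (Units.ext hω'))
  have hω3 : (ω : F) ^ 3 = 1 := by
    have h := congrArg (fun t : GL (Fin 3) F => t.val 0 0) (hexp ⁅y, x⁆ (by
      rw [commutatorElement_def]; exact mul_mem (mul_mem (mul_mem hy hx) (inv_mem hy)) (inv_mem hx)))
    simpa [Units.val_pow_eq_pow_val, hω, smul_pow] using h
  set M := x.val
  have h00 : (1 - (ω : F)) * M.trace = 0 := by
    have h := congrArg Matrix.trace hω'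
    rw [Units.val_mul, Units.val_mul, trace_conj, Matrix.trace_smul, smul_eq_mul] at h
    linear_combination h
  have ht : M.trace = 0 := (mul_eq_zero.mp h00).resolve_left (sub_ne_zero.mpr (Ne.symm hω1))
  have ht2 : (M * M).trace = 0 := by
    have h := congrArg (fun N : Matrix (Fin 3) (Fin 3) F => (N * N).trace) hω'
    simp only [Matrix.smul_mul, Matrix.mul_smul, smul_smul, Matrix.trace_smul, smul_eq_mul] at h
    rw [← Units.val_mul, show y * x * y⁻¹ * (y * x * y⁻¹) = y * (x * x) * y⁻¹ by group, Units.val_mul, Units.val_mul,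
      trace_conj, Units.val_mul] at h
    have h' : ((ω : F) ^ 2 - 1) * (M * M).trace = 0 := by linear_combination -h
    refine (mul_eq_zero.mp h').resolve_left fun e => hω1 ?_
    linear_combination hω3 - (ω : F) * e
  have ht3 : (M * M * M).trace = 3 := by
    rw [show M * M * M = M ^ 3 by rw [pow_succ, pow_two], ← Units.val_pow_eq_pow_val, hexp x hx, Units.val_one,
      Matrix.trace_one, Fintype.card_fin]
    norm_num
  -- Newton's identity
  have hN : 6 * M.det = M.trace ^ 3 - 3 * M.trace * (M * M).trace + 2 * (M * M * M).trace := by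
    simp [Matrix.det_fin_three, Matrix.trace, Matrix.mul_apply, Fin.sum_univ_three]
    ring
  have h6 : (6 : F) ≠ 0 := by
    haveI : CharP F p := by
      obtain ⟨r, hr⟩ := CharP.exists F
      obtain ⟨n, hrp, hn⟩ := FiniteField.card F r
      rw [hFp] at hn
      rwa [(Nat.prime_dvd_prime_iff_eq hrp hp).mp (hn ▸ dvd_pow_self r n.ne_zero)] at hr
    intro h
    have h' : p ∣ 6 := (CharP.cast_eq_zero_iff F p 6).mp (by exact_mod_cast h)
    have := Nat.le_of_dvd (by norm_num) h'
    interval_cases p <;> first | omega | exact absurd hp (by norm_num)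
  rw [ht, ht2, ht3] at hN
  exact mul_left_cancel₀ h6 (by linear_combination hN)

namespace Setup

variable [Fintype F] {R : Subgroup (GL (Fin 3) F)} (h : Setup R)
include h

lemma pow_three {z : GL (Fin 3) F} (hz : z ∈ R) : z ^ 3 = 1 :=
  Cfsg.Agent.Lib.PrimeDim.Symplectic.pow_eq_one Nat.prime_three le_rfl h.le h.abs h.comm hz

lemma scalar_of_commute {g : GL (Fin 3) F} (hg : ∀ x ∈ R, g * x = x * g) : g ∈ scalars (Fin 3) F := by
  obtain ⟨c, hc⟩ := h.abs.2 g.val (fun s hs => by
    obtain ⟨x, hx, rfl⟩ := mem_matrixSet.mp hs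
    exact congrArg Units.val (hg x hx))
  have hc0 : c ≠ 0 := fun h0 => g.ne_zero (by rw [hc, h0, zero_smul])
  exact (mem_scalars_iff g).mpr ⟨Units.mk0 c hc0, hc⟩

lemma exists_noncomm : ∃ x ∈ R, ∃ y ∈ R, x * y ≠ y * x := by
  by_contra! hc
  exact not_le_scalars (by simp) (irred_iff.mp h.abs.1) fun x hx => h.scalar_of_commute (hc x hx)

lemma eq_of_noncomm {H : Subgroup (GL (Fin 3) F)} (hH : H ≤ R) {x y : GL (Fin 3) F} (hx : x ∈ H) (hy : y ∈ H)
    (hxy : x * y ≠ y * x) : H = R := by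
  have hd : Nat.card H ∣ 3 ^ 3 := by
    have := Subgroup.card_dvd_of_le hH
    rwa [h.card] at this
  obtain ⟨k, hk, hk'⟩ := (Nat.dvd_prime_pow Nat.prime_three).mp hd
  by_cases hk2 : k ≤ 2
  · exfalso
    haveI : Fact (Nat.Prime 3) := ⟨Nat.prime_three⟩
    have hcomm : ∀ a b : H, a * b = b * a := by
      interval_cases k
      · haveI : Subsingleton H := (Nat.card_eq_one_iff_unique.mp (by simpa using hk')).1
        intro a b
        exact Subsingleton.elim _ _
      · haveI := isCyclic_of_prime_card (α := H) (p := 3) (by simpa using hk')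
        exact fun a b => IsCyclic.commGroup.mul_comm a b
      · exact IsPGroup.commutative_of_card_eq_prime_sq hk'
    exact hxy (congrArg Subtype.val (hcomm ⟨x, hx⟩ ⟨y, hy⟩))
  · refine Subgroup.eq_of_le_of_card_ge hH ?_
    rw [h.card, hk', show k = 3 by omega]
    norm_num

lemma scalar_of_commute_pair {g x y : GL (Fin 3) F} (hx : x ∈ R) (hy : y ∈ R) (hxy : x * y ≠ y * x)
    (hgx : g * x = x * g) (hgy : g * y = y * g) : g ∈ scalars (Fin 3) F := by
  have he : R ⊓ Subgroup.centralizer {g} = R := h.eq_of_noncomm inf_le_left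
    (x := x) (y := y) ⟨hx, Subgroup.mem_centralizer_singleton_iff.mpr hgx.symm⟩
    ⟨hy, Subgroup.mem_centralizer_singleton_iff.mpr hgy.symm⟩ hxy
  refine h.scalar_of_commute fun z hz => ?_
  rw [← he] at hz
  exact (Subgroup.mem_centralizer_singleton_iff.mp hz.2).symm

/-- The order of the normaliser divides `648`. -/
theorem card_dvd : Nat.card (subgroupNormalizer R ⊓ SL3 F : Subgroup (GL (Fin 3) F)) ∣ 648 := by
  classical
  obtain ⟨x₀, hx₀, y₀, hy₀, hne⟩ := h.exists_noncomm
  set z₀ := y₀ * x₀ * y₀⁻¹ * x₀⁻¹ with hz₀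
  have hz₀s : z₀ ∈ scalars (Fin 3) F := h.comm (Subgroup.commutator_mem_commutator hy₀ hx₀)
  have hz₀R : z₀ ∈ R := mul_mem (mul_mem (mul_mem hy₀ hx₀) (inv_mem hy₀)) (inv_mem hx₀)
  have hz₀1 : z₀ ≠ 1 := fun e => hne (by
    rw [hz₀, mul_inv_eq_one, mul_inv_eq_iff_eq_mul] at e
    exact e.symm)
  set X := (subgroupNormalizer R ⊓ SL3 F : Subgroup (GL (Fin 3) F)) with hX
  have hN : ∀ g : X, ∀ r ∈ R, g.1 * r * g.1⁻¹ ∈ R := fun g r hr =>
    (Subgroup.mem_normalizer_iff.mp g.2.1 r).mp hr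
  let S := {ab : R × R // ab.2.1 * ab.1.1 * ab.2.1⁻¹ * ab.1.1⁻¹ = z₀}
  have hinv : ∀ (g a b : GL (Fin 3) F), b * a * b⁻¹ * a⁻¹ = z₀ →
      g * b * g⁻¹ * (g * a * g⁻¹) * (g * b * g⁻¹)⁻¹ * (g * a * g⁻¹)⁻¹ = z₀ := by
    intro g a b e
    calc g * b * g⁻¹ * (g * a * g⁻¹) * (g * b * g⁻¹)⁻¹ * (g * a * g⁻¹)⁻¹
        = g * (b * a * b⁻¹ * a⁻¹) * g⁻¹ := by group
      _ = z₀ := by rw [e, ← scalar_comm hz₀s g, mul_inv_cancel_right]
  letI : SMul X S := ⟨fun g s =>
    ⟨(⟨g.1 * s.1.1.1 * g.1⁻¹, hN g _ s.1.1.2⟩, ⟨g.1 * s.1.2.1 * g.1⁻¹, hN g _ s.1.2.2⟩), hinv _ _ _ s.2⟩⟩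
  letI : MulAction X S :=
    { one_smul := fun s => Subtype.ext (Prod.ext (Subtype.ext (by
          show (1 : GL (Fin 3) F) * _ * (1 : GL (Fin 3) F)⁻¹ = _; simp)) (Subtype.ext (by
          show (1 : GL (Fin 3) F) * _ * (1 : GL (Fin 3) F)⁻¹ = _; simp)))
      mul_smul := fun g k s => Subtype.ext (Prod.ext (Subtype.ext (by
          show g.1 * k.1 * _ * (g.1 * k.1)⁻¹ = g.1 * (k.1 * _ * k.1⁻¹) * g.1⁻¹; group)) (Subtype.ext (by
          show g.1 * k.1 * _ * (g.1 * k.1)⁻¹ = g.1 * (k.1 * _ * k.1⁻¹) * g.1⁻¹; group))) }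
  set Z := (scalars (Fin 3) F).subgroupOf X with hZdef
  have hstab : ∀ s : S, MulAction.stabilizer X s = Z := by
    intro s
    ext g
    rw [MulAction.mem_stabilizer_iff, hZdef, Subgroup.mem_subgroupOf]
    constructor
    · intro e
      have e1 : g.1 * s.1.1.1 * g.1⁻¹ = s.1.1.1 := congrArg (fun t : S => t.1.1.1) e
      have e2 : g.1 * s.1.2.1 * g.1⁻¹ = s.1.2.1 := congrArg (fun t : S => t.1.2.1) e
      refine h.scalar_of_commute_pair s.1.1.2 s.1.2.2 ?_ (mul_inv_eq_iff_eq_mul.mp e1) (mul_inv_eq_iff_eq_mul.mp e2)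
      intro c
      apply hz₀1
      rw [← s.2, ← c, mul_inv_cancel_right, mul_inv_cancel]
    · intro hg
      refine Subtype.ext (Prod.ext (Subtype.ext ?_) (Subtype.ext ?_))
      · show g.1 * _ * g.1⁻¹ = _
        rw [scalar_comm hg, mul_inv_cancel_right]
      · show g.1 * _ * g.1⁻¹ = _
        rw [scalar_comm hg, mul_inv_cancel_right]
  have hS216 : Nat.card S = 216 := by
    have hcs : ∀ z : R, z ∈ Subgroup.center R ↔ (z : GL (Fin 3) F) ∈ scalars (Fin 3) F := by
      intro z
      rw [Subgroup.mem_center_iff]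
      exact ⟨fun hz => h.scalar_of_commute fun x hx => (congrArg Subtype.val (hz ⟨x, hx⟩)).symm,
        fun hz w => Subtype.ext (scalar_comm hz w.1).symm⟩
    have hzc : (⟨z₀, hz₀R⟩ : R) ∈ Subgroup.center R := (hcs _).mpr hz₀s
    have hfib : ∀ a : R, Nat.card {b : R // b.1 * a.1 * b.1⁻¹ * a.1⁻¹ = z₀} =
        if a ∈ Subgroup.center R then 0 else 9 := by
      intro a
      split
      next ha =>
        rw [Nat.card_eq_zero]
        refine Or.inl ⟨fun b => hz₀1 ?_⟩
        rw [← b.2, ← scalar_comm ((hcs a).mp ha) b.1.1, mul_inv_cancel_right, mul_inv_cancel]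
      next ha =>
        let φ : R →* Subgroup.center R :=
          { toFun := fun b => ⟨b * a * b⁻¹ * a⁻¹, (hcs _).mpr (h.comm (Subgroup.commutator_mem_commutator b.2 a.2))⟩
            map_one' := Subtype.ext (by simp)
            map_mul' := fun b c => Subtype.ext (by
              show b * c * a * (b * c)⁻¹ * a⁻¹ = b * a * b⁻¹ * a⁻¹ * (c * a * c⁻¹ * a⁻¹)
              have hc2 := Subgroup.mem_center_iff.mp
                ((hcs (c * a * c⁻¹ * a⁻¹)).mpr (h.comm (Subgroup.commutator_mem_commutator c.2 a.2))) (a * b⁻¹ * a⁻¹)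
              calc b * c * a * (b * c)⁻¹ * a⁻¹
                  = b * ((c * a * c⁻¹ * a⁻¹) * (a * b⁻¹ * a⁻¹)) := by group
                _ = b * ((a * b⁻¹ * a⁻¹) * (c * a * c⁻¹ * a⁻¹)) := congrArg (b * ·) hc2.symm
                _ = b * a * b⁻¹ * a⁻¹ * (c * a * c⁻¹ * a⁻¹) := by group) }
        have hsurj : φ.range = ⊤ := by
          haveI : Fact (Nat.card (Subgroup.center R)).Prime := ⟨h.center.symm ▸ Nat.prime_three⟩
          refine (Subgroup.eq_bot_or_eq_top_of_prime_card φ.range).resolve_left fun hb => ha ?_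
          rw [Subgroup.mem_center_iff]
          intro b
          have : φ b = 1 := by
            rw [MonoidHom.range_eq_bot_iff] at hb
            rw [hb]; rfl
          have e : b * a * b⁻¹ * a⁻¹ = 1 := congrArg Subtype.val this
          rwa [mul_inv_eq_one, mul_inv_eq_iff_eq_mul] at e
        obtain ⟨b₀, hb₀⟩ : (⟨⟨z₀, hz₀R⟩, hzc⟩ : Subgroup.center R) ∈ φ.range := hsurj ▸ Subgroup.mem_top _
        have hker : Nat.card φ.ker = 9 := by
          have e := φ.ker.card_mul_index
          rw [Subgroup.index_ker, hsurj, Subgroup.card_top, h.center, h.card] at e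
          omega
        rw [← hker]
        refine Nat.card_congr
          { toFun := fun b => ⟨b₀⁻¹ * b.1, by
              rw [MonoidHom.mem_ker, map_mul, map_inv, hb₀, inv_mul_eq_one]
              exact Subtype.ext (Subtype.ext b.2.symm)⟩
            invFun := fun k => ⟨b₀ * k.1, by
              have e : φ (b₀ * k.1) = ⟨⟨z₀, hz₀R⟩, hzc⟩ := by
                rw [map_mul, MonoidHom.mem_ker.mp k.2, mul_one, hb₀]
              exact congrArg (fun t : Subgroup.center R => t.1.1) e⟩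
            left_inv := fun b => Subtype.ext (by simp)
            right_inv := fun k => Subtype.ext (by simp) }
    rw [Nat.card_congr (Equiv.subtypeProdEquivSigmaSubtype fun a b : R => b.1 * a.1 * b.1⁻¹ * a.1⁻¹ = z₀)]
    rw [Nat.card_sigma]
    simp only [hfib, Finset.sum_ite, Finset.sum_const_zero, zero_add, Finset.sum_const, smul_eq_mul]
    have h24 : (Finset.univ.filter fun a : R => a ∉ Subgroup.center R).card = 24 := by
      have e1 := Finset.card_filter_add_card_filter_not (s := (Finset.univ : Finset R)) (fun a => a ∈ Subgroup.center R)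
      have e2 : (Finset.univ.filter fun a : R => a ∈ Subgroup.center R).card = 3 := by
        refine Eq.trans ?_ h.center
        rw [Nat.card_eq_fintype_card, Fintype.card_subtype]
      rw [Finset.card_univ, ← Nat.card_eq_fintype_card, h.card] at e1
      omega
    rw [h24]
  have hZ3 : Nat.card Z ∣ 3 := by
    have hle : ∀ g : Z, g.1.1 ∈ scalars (Fin 3) F := fun g => g.2
    -- scalars of determinant one are cube roots of unity
    have hcube : ∀ g : Z, g ^ 3 = 1 := by
      intro g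
      obtain ⟨c, hc⟩ := (mem_scalars_iff _).mp (hle g)
      have hd := mem_SL3.1 g.1.2.2
      rw [hc, Matrix.det_smul, Matrix.det_one, mul_one, Fintype.card_fin] at hd
      refine Subtype.ext (Subtype.ext (Units.ext ?_))
      show (g.1.1 ^ 3 : GL (Fin 3) F).val = 1
      rw [Units.val_pow_eq_pow_val, hc, smul_pow, hd, one_pow, one_smul]
    let ψ : Z →* Fˣ :=
      { toFun := fun g => Units.mk0 (g.1.1.val 0 0) (by
          obtain ⟨c, hc⟩ := (mem_scalars_iff _).mp (hle g)
          rw [hc]; simp)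
        map_one' := Units.ext (by simp)
        map_mul' := fun a b => Units.ext (by
          obtain ⟨c, hc⟩ := (mem_scalars_iff _).mp (hle a)
          show (a.1.1.val * b.1.1.val) 0 0 = a.1.1.val 0 0 * b.1.1.val 0 0
          rw [hc, Matrix.smul_mul, one_mul]
          simp) }
    have hψ : Function.Injective ψ := by
      intro a b e
      obtain ⟨c, hc⟩ := (mem_scalars_iff _).mp (hle a)
      obtain ⟨d, hd⟩ := (mem_scalars_iff _).mp (hle b)
      have e' : a.1.1.val 0 0 = b.1.1.val 0 0 := congrArg Units.val e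
      rw [hc, hd] at e'
      refine Subtype.ext (Subtype.ext (Units.ext ?_))
      rw [hc, hd, show (c : F) = d by simpa using e']
    haveI : IsCyclic Z := isCyclic_of_injective ψ hψ
    rw [← IsCyclic.exponent_eq_card]
    exact Monoid.exponent_dvd_of_forall_pow_eq_one hcube
  have e := Nat.card_congr (MulAction.selfEquivSigmaOrbitsQuotientStabilizer X S)
  simp only [hstab, Nat.card_sigma, Finset.sum_const, smul_eq_mul, hS216] at e
  rw [← Z.card_mul_index]
  exact (mul_dvd_mul hZ3 (Dvd.intro_left _ e.symm)).trans (by norm_num)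


lemma mem_center_of_scalar {z : R} (hz : (z : GL (Fin 3) F) ∈ scalars (Fin 3) F) : z ∈ Subgroup.center R :=
  Subgroup.mem_center_iff.mpr fun w => Subtype.ext (scalar_comm hz w.1).symm

/-- The elements of `R` commuting with a non-scalar element are its multiples. -/
lemma centralizer_eq {x w : GL (Fin 3) F} (hx : x ∈ R) (hxs : x ∉ scalars (Fin 3) F) (hw : w ∈ R)
    (hwx : w * x = x * w) : ∃ u ∈ scalars (Fin 3) F, ∃ k : ℕ, k < 3 ∧ w = u * x ^ k := by
  classical
  set D := R ⊓ Subgroup.centralizer {x}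
  have hD : Nat.card D ≤ 9 := by
    have hd : Nat.card D ∣ 3 ^ 3 := by
      have := Subgroup.card_dvd_of_le (inf_le_left : D ≤ R)
      rwa [h.card] at this
    obtain ⟨k, hk, hk'⟩ := (Nat.dvd_prime_pow Nat.prime_three).mp hd
    by_cases hk3 : k ≤ 2
    · rw [hk']; interval_cases k <;> norm_num
    · exfalso
      refine hxs (h.scalar_of_commute fun z hz => ?_)
      have he : D = R := Subgroup.eq_of_le_of_card_ge inf_le_left (by rw [h.card, hk', show k = 3 by omega]; norm_num)
      rw [← he] at hz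
      exact (Subgroup.mem_centralizer_singleton_iff.mp hz.2).symm
  have hcs : ∀ z : Subgroup.center R, (z.1.1) ∈ scalars (Fin 3) F := fun z =>
    h.scalar_of_commute fun t ht => (congrArg Subtype.val ((Subgroup.mem_center_iff.mp z.2) ⟨t, ht⟩)).symm
  let f : Subgroup.center R × Fin 3 → D := fun zk => ⟨zk.1.1.1 * x ^ (zk.2 : ℕ), mul_mem zk.1.1.2 (pow_mem hx _),
    Subgroup.mem_centralizer_singleton_iff.mpr (by
      rw [mul_assoc, ← pow_succ, pow_succ', ← mul_assoc x, ← scalar_comm (hcs zk.1) x, mul_assoc])⟩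
  have hf : Function.Injective f := by
    rintro ⟨z, k⟩ ⟨z', k'⟩ e
    have e' : z.1.1 * x ^ (k : ℕ) = z'.1.1 * x ^ (k' : ℕ) := congrArg Subtype.val e
    have key : ∀ a b : ℕ, a < b → b < 3 → ∀ u v : Subgroup.center R, u.1.1 * x ^ a ≠ v.1.1 * x ^ b := by
      intro a b hab hb u v e
      have hsq : x ^ (b - a) = v.1.1⁻¹ * u.1.1 := by
        rw [eq_inv_mul_iff_mul_eq]
        apply mul_right_cancel (b := x ^ a)
        rw [mul_assoc, ← pow_add, Nat.sub_add_cancel hab.le, e]
      have hs : x ^ (b - a) ∈ scalars (Fin 3) F := hsq ▸ mul_mem (inv_mem (hcs v)) (hcs u)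
      rcases (show b - a = 1 ∨ b - a = 2 by omega) with e1 | e1 <;> rw [e1] at hs
      · exact hxs (pow_one x ▸ hs)
      · refine hxs ?_
        have := mul_mem hs hs
        rwa [← pow_add, show 2 + 2 = 3 + 1 from rfl, pow_succ, h.pow_three hx, one_mul] at this
    rcases lt_trichotomy (k : ℕ) k' with hlt | heq | hlt
    · exact absurd e' (key _ _ hlt k'.isLt z z')
    · obtain rfl := Fin.ext heq
      exact Prod.ext (Subtype.ext (Subtype.ext (mul_right_cancel e'))) rfl
    · exact absurd e'.symm (key _ _ hlt k.isLt z' z)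
  have hsurj : Function.Surjective f := by
    refine ((Nat.bijective_iff_injective_and_card f).mpr ⟨hf, ?_⟩).2
    refine le_antisymm (Nat.card_le_card_of_injective f hf) ?_
    rw [Nat.card_prod, h.center, Nat.card_fin]
    exact hD
  obtain ⟨⟨z, k⟩, hzk⟩ := hsurj ⟨w, hw, Subgroup.mem_centralizer_singleton_iff.mpr hwx⟩
  exact ⟨z.1.1, hcs z, k, k.isLt, (congrArg Subtype.val hzk).symm⟩

section involution

variable {a : GL (Fin 3) F} (ha : a ∈ subgroupNormalizer R) (ha2 : a * a = 1)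
  (has : a ∉ scalars (Fin 3) F)

include ha ha2 has

/-- An involution centralises no non-scalar element. -/
lemma inv_fix {x : GL (Fin 3) F} (hx : x ∈ R) (hax : a * x = x * a) : x ∈ scalars (Fin 3) F := by
  by_contra hxs
  obtain ⟨y, hy, hne⟩ : ∃ y ∈ R, y * x ≠ x * y := by
    by_contra! hall
    exact hxs (h.scalar_of_commute fun z hz => (hall z hz).symm)
  have hainv : a⁻¹ = a := inv_eq_of_mul_eq_one_right ha2
  set z := y * x * y⁻¹ * x⁻¹ with hz
  have hzs : z ∈ scalars (Fin 3) F := h.comm (Subgroup.commutator_mem_commutator hy hx)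
  have hyR : a * y * a⁻¹ ∈ R := (Subgroup.mem_normalizer_iff.mp ha y).mp hy
  set w := a * y * a⁻¹ * y⁻¹ with hw
  have hxa : a * x * a⁻¹ = x := by rw [hax, mul_inv_cancel_right]
  have hwx : w * x = x * w := by
    have e : (a * y * a⁻¹) * x * (a * y * a⁻¹)⁻¹ * x⁻¹ = z := by
      calc _ = (a * y * a⁻¹) * (a * x * a⁻¹) * (a * y * a⁻¹)⁻¹ * (a * x * a⁻¹)⁻¹ := by rw [hxa]
        _ = a * z * a⁻¹ := by rw [hz]; group
        _ = z := by rw [← scalar_comm hzs a, mul_inv_cancel_right]
    have e1 : (a * y * a⁻¹) * x = z * x * (a * y * a⁻¹) := by rw [← e]; group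
    have e2 : y * x = z * x * y := by rw [hz]; group
    have e3 : y⁻¹ * x = z⁻¹ * x * y⁻¹ := by
      rw [inv_mul_eq_iff_eq_mul, ← mul_assoc, ← mul_assoc, ← scalar_comm (inv_mem hzs) y, mul_assoc z⁻¹ y, e2]
      group
    calc w * x = (a * y * a⁻¹) * (y⁻¹ * x) := by rw [hw]; group
      _ = x * w := by
        rw [e3, ← mul_assoc, ← mul_assoc, ← scalar_comm (inv_mem hzs) (a * y * a⁻¹), mul_assoc z⁻¹ _ x, e1, hw]
        group
  obtain ⟨u, hu, k, -, hwk⟩ := h.centralizer_eq hx hxs (mul_mem hyR (inv_mem hy)) hwx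
  have hwa : a * w * a⁻¹ = w := by
    rw [← hw] at hwk
    rw [hwk, show a * (u * x ^ k) * a⁻¹ = (a * u * a⁻¹) * (a * x * a⁻¹) ^ k by rw [conj_pow]; group, hxa,
      ← scalar_comm hu a, mul_inv_cancel_right]
  have hw2 : w * w = 1 := by
    calc w * w = (a * w * a⁻¹) * w := by rw [hwa]
      _ = 1 := by rw [hw, hainv]; simp only [mul_assoc]; rw [← mul_assoc a a, ha2]; simp [← mul_assoc, ha2]
  have hw1 : w = 1 := by
    have h3 := h.pow_three (show w ∈ R from mul_mem hyR (inv_mem hy))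
    rwa [pow_succ, pow_two, hw2, one_mul] at h3
  rw [hw, mul_inv_eq_one, mul_inv_eq_iff_eq_mul] at hw1
  exact has (h.scalar_of_commute_pair hy hx hne hw1 hax)

/-- An involution inverts `R` modulo scalars. -/
lemma inv_inverts {x : GL (Fin 3) F} (hx : x ∈ R) : a * x * a⁻¹ * x ∈ scalars (Fin 3) F := by
  have hainv : a⁻¹ = a := inv_eq_of_mul_eq_one_right ha2
  have hxR : a * x * a⁻¹ ∈ R := (Subgroup.mem_normalizer_iff.mp ha x).mp hx
  set y := a * x * a⁻¹ * x with hy
  have hyR : y ∈ R := mul_mem hxR hx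
  set u := x * y * x⁻¹ * y⁻¹ with hu
  have hus : u ∈ scalars (Fin 3) F := h.comm (Subgroup.commutator_mem_commutator hx hyR)
  have e1 : a * y * a⁻¹ = u * y := by
    rw [hu, inv_mul_cancel_right, hy, hainv]
    calc a * (a * x * a * x) * a = (a * a) * x * a * x * a := by group
      _ = x * (a * x * a * x) * x⁻¹ := by rw [ha2]; group
  have hu3 : u ^ 3 = 1 := h.pow_three (mul_mem (mul_mem (mul_mem hx hyR) (inv_mem hx)) (inv_mem hyR))
  have hu1 : u = 1 := by
    have e2 : a * (a * y * a⁻¹) * a⁻¹ = u * u * y := by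
      rw [e1, show a * (u * y) * a⁻¹ = (a * u * a⁻¹) * (a * y * a⁻¹) by group, ← scalar_comm hus a,
        mul_inv_cancel_right, e1]; exact (mul_assoc _ _ _).symm
    rw [hainv, show a * (a * y * a) * a = (a * a) * y * (a * a) by group, ha2, one_mul, mul_one] at e2
    replace e2 : u * u = 1 := mul_right_cancel (b := y) (by rw [one_mul]; exact e2.symm)
    rwa [pow_succ, pow_two, e2, one_mul] at hu3
  rw [hu1, one_mul, mul_inv_eq_iff_eq_mul] at e1
  exact h.inv_fix ha ha2 has hyR e1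

end involution

/-- The normaliser has no four-group. -/
theorem no_four {a b : GL (Fin 3) F} (ha : a ∈ subgroupNormalizer R) (hb : b ∈ subgroupNormalizer R)
    (ha2 : a * a = 1) (hb2 : b * b = 1) (hab : a * b = b * a) (has : a ∉ scalars (Fin 3) F)
    (hbs : b ∉ scalars (Fin 3) F) (habs : a * b ∉ scalars (Fin 3) F) : False := by
  have hab2 : a * b * (a * b) = 1 := by
    calc a * b * (a * b) = a * (b * a) * b := by group
      _ = (a * a) * (b * b) := by rw [← hab]; group
      _ = 1 := by rw [ha2, hb2, one_mul]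
  have key : ∀ x ∈ R, x ∈ scalars (Fin 3) F := fun x hx => by
    obtain ⟨u, hu, e1⟩ : ∃ u ∈ scalars (Fin 3) F, b * x * b⁻¹ = u * x⁻¹ :=
      ⟨_, h.inv_inverts hb hb2 hbs hx, by group⟩
    obtain ⟨v, hv, e2⟩ : ∃ v ∈ scalars (Fin 3) F, a * x⁻¹ * a⁻¹ = v * x :=
      ⟨_, h.inv_inverts ha ha2 has (inv_mem hx), by group⟩
    have e3 := h.inv_inverts (mul_mem ha hb) hab2 habs hx
    rw [show a * b * x * (a * b)⁻¹ = a * (b * x * b⁻¹) * a⁻¹ by group, e1,
      show a * (u * x⁻¹) * a⁻¹ = a * u * a⁻¹ * (a * x⁻¹ * a⁻¹) by group, e2, ← scalar_comm hu a,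
      mul_inv_cancel_right] at e3
    have hsq : x * x ∈ scalars (Fin 3) F := by
      have := mul_mem (inv_mem (mul_mem hu hv)) e3
      rwa [show (u * v)⁻¹ * (u * (v * x) * x) = x * x by group] at this
    have h4 := mul_mem hsq hsq
    rwa [show x * x * (x * x) = x ^ 3 * x by rw [pow_succ, pow_two]; group, h.pow_three hx, one_mul] at h4
  exact not_le_scalars (by simp) (irred_iff.mp h.abs.1) key

/-- An element of order four in the normaliser moves every non-scalar element out of its centraliser. -/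
theorem fpf {g : GL (Fin 3) F} (hg : g ∈ subgroupNormalizer R) (hg4 : g * g * (g * g) = 1)
    (hgs : g * g ∉ scalars (Fin 3) F) {x : GL (Fin 3) F} (hx : x ∈ R)
    (hc : x * (g * x * g⁻¹) = g * x * g⁻¹ * x) : x ∈ scalars (Fin 3) F := by
  by_contra hxs
  have hxR : g * x * g⁻¹ ∈ R := (Subgroup.mem_normalizer_iff.mp hg x).mp hx
  obtain ⟨u, hu, k, hk, e⟩ := h.centralizer_eq hx hxs hxR hc.symm
  obtain ⟨v, hv, e2⟩ : ∃ v ∈ scalars (Fin 3) F, g * g * x * (g * g)⁻¹ = v * x ^ (k * k) := by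
    refine ⟨u * u ^ k, mul_mem hu (pow_mem hu k), ?_⟩
    rw [show g * g * x * (g * g)⁻¹ = g * (g * x * g⁻¹) * g⁻¹ by group, e,
      show g * (u * x ^ k) * g⁻¹ = (g * u * g⁻¹) * (g * x * g⁻¹) ^ k by rw [conj_pow]; group, e, ← scalar_comm hu g,
      mul_inv_cancel_right, (show Commute u (x ^ k) from scalar_comm hu _).mul_pow, ← pow_mul, mul_assoc]
  have h1 := h.inv_inverts (mul_mem hg hg) hg4 hgs hx
  rw [e2, mul_assoc, ← pow_succ] at h1
  have h2 : x ^ (k * k + 1) ∈ scalars (Fin 3) F := by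
    have := mul_mem (inv_mem hv) h1
    rwa [inv_mul_cancel_left] at this
  refine hxs ?_
  interval_cases k
  · simpa using h2
  · have := mul_mem h2 h2
    rwa [← pow_add, show 1 * 1 + 1 + (1 * 1 + 1) = 3 + 1 from rfl, pow_succ, h.pow_three hx, one_mul] at this
  · have := mul_mem h2 h2
    rwa [← pow_add, show 2 * 2 + 1 + (2 * 2 + 1) = 3 * 3 + 1 from rfl, pow_succ, pow_mul,
      h.pow_three hx, one_pow, one_mul] at this

end Setup

end Cfsg.Agent.Lib.SL3Max93.Symp
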